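import Cfsg.Agent.StdSz.SzMaps

/-!
# The commutator form of the group `Q` of order `2 q ^ 3` (algebra over `F`)

`Q / Z` is modelled on `ZMod 2 × F × F` (coordinates `(e, a, u)` of `t ^ e * p a * x u`), with
commutator form `B` and squaring map `Sq` depending on two constants `γ` and `δ`.
We show: an automorphism of this structure fixes the vector `t = (1,0,0)`, unless `δ = 0` and
`γ ∈ {0,1}`.
-/

set_option autoImplicit false
set_option linter.unusedSectionVars false
set_option linter.style.haveILetI false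

namespace Cfsg.Agent.StdSz.FormAlg

open Cfsg.Agent.StdSz.EquivMaps Cfsg.Agent.StdSz.SzMaps

variable {F : Type*} [Field F] [Fintype F] [CharP F 2]

/-- the commutator form of the Suzuki group: `a * b ^ θ + a ^ θ * b`. -/
def bt (m : ℕ) (a b : F) : F := a * b ^ (2 ^ (m + 1)) + a ^ (2 ^ (m + 1)) * b

/-- coordinates. -/
abbrev V3 (F : Type*) := ZMod 2 × F × F

/-- `0, 1` as elements of `F`. -/
def cc (e : ZMod 2) : F := if e = 0 then 0 else 1

@[simp] theorem cc_zero : (cc 0 : F) = 0 := rfl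
@[simp] theorem cc_one : (cc 1 : F) = 1 := rfl

theorem two_eq_zero : (2 : F) = 0 := CharP.cast_eq_zero F 2 ▸ by norm_num

theorem add_self (x : F) : x + x = 0 := CharTwo.add_self_eq_zero x

theorem zmod_cases (e : ZMod 2) : e = 0 ∨ e = 1 := by
  revert e; decide

theorem cc_add (e e' : ZMod 2) : (cc (e + e') : F) = cc e + cc e' := by
  rcases zmod_cases e with rfl | rfl <;> rcases zmod_cases e' with rfl | rfl
  · simp
  · simp
  · simp
  · have : (1 : ZMod 2) + 1 = 0 := by decide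
    rw [this, cc_one, cc_zero, add_self]

theorem pow_add (k : ℕ) (x y : F) : (x + y) ^ (2 ^ k) = x ^ (2 ^ k) + y ^ (2 ^ k) :=
  add_pow_char_pow x y 2 k

theorem bt_comm (m : ℕ) (a b : F) : bt m a b = bt m b a := by
  unfold bt; ring

theorem bt_self (m : ℕ) (a : F) : bt m a a = 0 := by
  unfold bt
  rw [mul_comm (a ^ _), add_self]

theorem bt_add_right (m : ℕ) (a b c : F) : bt m a (b + c) = bt m a b + bt m a c := by
  unfold bt
  rw [pow_add]; ring

theorem bt_add_left (m : ℕ) (a b c : F) : bt m (a + b) c = bt m a c + bt m b c := by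
  rw [bt_comm, bt_add_right, bt_comm, bt_comm m c b]

@[simp] theorem bt_zero_right (m : ℕ) (a : F) : bt m a 0 = 0 := by
  unfold bt
  rw [zero_pow (by positivity)]; ring

@[simp] theorem bt_zero_left (m : ℕ) (a : F) : bt m 0 a = 0 := by
  rw [bt_comm, bt_zero_right]

/-- `θ (θ x) = x ^ 2`. -/
theorem th_th {m : ℕ} (hF : Fintype.card F = 2 ^ (2 * m + 1)) (x : F) :
    (x ^ (2 ^ (m + 1))) ^ (2 ^ (m + 1)) = x ^ 2 := by
  rw [← pow_mul, ← _root_.pow_add]
  have : m + 1 + (m + 1) = (2 * m + 1) + 1 := by ring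
  rw [this, pow_succ, pow_mul, ← hF, FiniteField.pow_card]

/-- the fixed field of `θ` is `F_2`. -/
theorem eq_of_th_eq {m : ℕ} (hF : Fintype.card F = 2 ^ (2 * m + 1)) {x : F}
    (h : x ^ (2 ^ (m + 1)) = x) : x = 0 ∨ x = 1 := by
  have h1 := th_th hF x
  rw [h, h] at h1
  have : x * (x - 1) = 0 := by
    have : x * (x - 1) = x ^ 2 - x := by ring
    rw [this, ← h1, sub_self]
  rcases mul_eq_zero.mp this with h | h
  · exact Or.inl h
  · exact Or.inr (sub_eq_zero.mp h)

/-- `1` is not of the form `y ^ θ + y`. -/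
theorem one_not_mem {m : ℕ} (hF : Fintype.card F = 2 ^ (2 * m + 1)) (y : F) :
    y ^ (2 ^ (m + 1)) + y ≠ 1 := by
  intro h
  have h1 : y ^ (2 ^ (m + 1)) = y + 1 := by
    have := congrArg (fun z => z + y) h
    rw [add_assoc, add_self, add_zero] at this
    rw [this, add_comm]
  have h2 := th_th hF y
  rw [h1, pow_add, one_pow, h1, add_assoc, add_self, add_zero] at h2
  have h3 : y = 0 ∨ y = 1 := by
    have : y * (y - 1) = 0 := by
      have : y * (y - 1) = y ^ 2 - y := by ring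
      rw [this, ← h2, sub_self]
    rcases mul_eq_zero.mp this with h | h
    · exact Or.inl h
    · exact Or.inr (sub_eq_zero.mp h)
  rcases h3 with rfl | rfl
  · rw [zero_pow (by positivity), zero_add] at h; exact zero_ne_one h
  · rw [one_pow, add_self] at h; exact zero_ne_one h

/-- the additive subgroup `{y ^ θ + y}`. -/
def KK (m : ℕ) (F : Type*) [Field F] [Fintype F] [CharP F 2] : AddSubgroup F :=
  (AddMonoidHom.mk' (fun y : F => y ^ (2 ^ (m + 1)) + y)
    (fun a b => by rw [pow_add]; ring)).range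

theorem mem_KK {m : ℕ} {x : F} : x ∈ KK m F ↔ ∃ y : F, y ^ (2 ^ (m + 1)) + y = x := by
  unfold KK
  simp [AddMonoidHom.mem_range]

theorem index_KK {m : ℕ} (hF : Fintype.card F = 2 ^ (2 * m + 1)) : (KK m F).index = 2 := by
  classical
  let f : F →+ F := AddMonoidHom.mk' (fun y : F => y ^ (2 ^ (m + 1)) + y)
    (fun a b => by rw [pow_add]; ring)
  have hker : Nat.card f.ker = 2 := by
    have : (f.ker : Set F) = {0, 1} := by
      ext x
      simp only [SetLike.mem_coe, AddMonoidHom.mem_ker, Set.mem_insert_iff,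
        Set.mem_singleton_iff]
      constructor
      · intro hx
        apply eq_of_th_eq hF
        have h1 : x ^ (2 ^ (m + 1)) + x = 0 := hx
        have := congrArg (fun z => z + x) h1
        rw [add_assoc, add_self, add_zero, zero_add] at this
        exact this
      · rintro (rfl | rfl)
        · show (0 : F) ^ (2 ^ (m + 1)) + 0 = 0
          rw [zero_pow (by positivity), zero_add]
        · show (1 : F) ^ (2 ^ (m + 1)) + 1 = 0
          rw [one_pow, add_self]
    have h2 : Nat.card (f.ker : Set F) = 2 := by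
      rw [this, Nat.card_coe_set_eq, Set.ncard_pair zero_ne_one]
    exact h2
  have h1 : Nat.card f.ker * f.ker.index = Nat.card F := f.ker.card_mul_index
  have h2 : f.ker.index = Nat.card f.range := AddSubgroup.index_ker f
  have h3 : Nat.card f.range * f.range.index = Nat.card F := f.range.card_mul_index
  have h4 : Nat.card F = 2 ^ (2 * m + 1) := by rw [Nat.card_eq_fintype_card, hF]
  have h5 : (KK m F).index = f.range.index := rfl
  rw [h5]
  have h6 : 0 < Nat.card f.range := Nat.card_pos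
  rw [hker, h2] at h1
  have : Nat.card f.range * f.range.index = Nat.card f.range * 2 := by rw [h3, ← h1, mul_comm]
  exact Nat.eq_of_mul_eq_mul_left h6 this

/-- only `1` stabilises `{y ^ θ + y}` by multiplication. -/
theorem eq_one_of_mul_KK {m : ℕ} (hF : Fintype.card F = 2 ^ (2 * m + 1)) {k : F}
    (hk : ∀ x, k * x ∈ KK m F ↔ x ∈ KK m F) : k = 1 := by
  have hi := index_KK (F := F) hF
  by_contra hne
  have hne' : k - 1 ≠ 0 := sub_ne_zero.mpr hne
  have key : ∀ f : F, (k - 1) * f ∈ KK m F := by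
    intro f
    have e : (k - 1) * f = k * f + f := by
      have : k * f + f = k * f - f := by rw [CharTwo.sub_eq_add]
      rw [this]; ring
    rw [e, AddSubgroup.add_mem_iff_of_index_two hi, hk]
  have : (1 : F) ∈ KK m F := by
    have := key ((k - 1)⁻¹)
    rwa [mul_inv_cancel₀ hne'] at this
  obtain ⟨y, hy⟩ := mem_KK.mp this
  exact one_not_mem hF y hy

/-- the range of `bt a` is `a ^ (1 + θ) * {y ^ θ + y}`. -/
theorem bt_mul (m : ℕ) (a y : F) :
    bt m a (a * y) = a ^ (1 + 2 ^ (m + 1)) * (y ^ (2 ^ (m + 1)) + y) := by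
  unfold bt
  rw [mul_pow]; ring

theorem mem_range_bt {m : ℕ} {a : F} (ha : a ≠ 0) (z : F) :
    (∃ b, bt m a b = a ^ (1 + 2 ^ (m + 1)) * z) ↔ z ∈ KK m F := by
  rw [mem_KK]
  constructor
  · rintro ⟨b, hb⟩
    refine ⟨a⁻¹ * b, ?_⟩
    have h1 := bt_mul m a (a⁻¹ * b)
    rw [mul_inv_cancel_left₀ ha, hb] at h1
    exact (mul_left_cancel₀ (pow_ne_zero _ ha) h1).symm
  · rintro ⟨y, hy⟩
    exact ⟨a * y, by rw [bt_mul, hy]⟩

/-- the exponent `1 + θ` is injective. -/
theorem norm_inj {m : ℕ} (hF : Fintype.card F = 2 ^ (2 * m + 1)) {x y : F}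
    (h : x ^ (1 + 2 ^ (m + 1)) = y ^ (1 + 2 ^ (m + 1))) : x = y := by
  have e : ∀ z : F, (z ^ (1 + 2 ^ (m + 1))) ^ (2 ^ (m + 1) - 1) = z := by
    intro z
    rw [← pow_mul, mul_comm, pow_mul]
    exact norm_surj hF z
  rw [← e x, ← e y, h]

/-- the hyperplane `bt a F` determines `a`. -/
theorem bt_range_inj {m : ℕ} (hF : Fintype.card F = 2 ^ (2 * m + 1)) {a b : F} (ha : a ≠ 0)
    (hb : b ≠ 0) (h : ∀ z, (∃ c, bt m a c = z) ↔ ∃ c, bt m b c = z) : a = b := by
  apply norm_inj hF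
  have h1 : a ^ (1 + 2 ^ (m + 1)) * (b ^ (1 + 2 ^ (m + 1)))⁻¹ = 1 := by
    apply eq_one_of_mul_KK hF
    intro x
    rw [← mem_range_bt hb, ← mem_range_bt ha, h]
    have : b ^ (1 + 2 ^ (m + 1)) * (a ^ (1 + 2 ^ (m + 1)) * (b ^ (1 + 2 ^ (m + 1)))⁻¹ * x) =
        a ^ (1 + 2 ^ (m + 1)) * x := by
      field_simp
    rw [this]
  have hb' : b ^ (1 + 2 ^ (m + 1)) ≠ 0 := pow_ne_zero _ hb
  field_simp at h1
  exact h1

/-- the commutator form on `V3`. -/
def B (m : ℕ) (δ : F) (x y : V3 F) : F :=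
  cc x.1 * y.2.2 + cc y.1 * x.2.2 + bt m x.2.1 y.2.1 + δ * (x.2.2 * y.2.1) ^ (2 ^ m) +
    δ * (y.2.2 * x.2.1) ^ (2 ^ m)

/-- the squaring map on `V3`. -/
def Sq (m : ℕ) (γ δ : F) (x : V3 F) : F :=
  cc x.1 * x.2.2 + x.2.1 ^ (1 + 2 ^ (m + 1)) + γ * x.2.2 + δ * (x.2.2 * x.2.1) ^ (2 ^ m)

/-- the vector of `t`. -/
def tt : V3 F := (1, 0, 0)

theorem B_comm (m : ℕ) (δ : F) (x y : V3 F) : B m δ x y = B m δ y x := by
  unfold B
  rw [bt_comm]; ring

theorem B_add_right (m : ℕ) (δ : F) (x y z : V3 F) :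
    B m δ x (y + z) = B m δ x y + B m δ x z := by
  unfold B
  simp only [Prod.fst_add, Prod.snd_add, cc_add, bt_add_right, mul_add, add_mul, pow_add]
  ring

theorem B_add_left (m : ℕ) (δ : F) (x y z : V3 F) :
    B m δ (x + y) z = B m δ x z + B m δ y z := by
  rw [B_comm, B_add_right, B_comm, B_comm m δ z y]

theorem B_self (m : ℕ) (δ : F) (x : V3 F) : B m δ x x = 0 := by
  unfold B
  rw [bt_self, add_self, add_zero, zero_add, add_self]

theorem Sq_add (m : ℕ) (γ δ : F) (x y : V3 F) :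
    Sq m γ δ (x + y) = Sq m γ δ x + Sq m γ δ y + B m δ x y := by
  unfold Sq B bt
  simp only [Prod.fst_add, Prod.snd_add, cc_add, mul_add, add_mul, pow_add]
  have e : ∀ a b : F, (a + b) ^ (1 + 2 ^ (m + 1)) = a ^ (1 + 2 ^ (m + 1)) + b ^ (1 + 2 ^ (m + 1)) +
      (a * b ^ (2 ^ (m + 1)) + a ^ (2 ^ (m + 1)) * b) := by
    intro a b
    rw [_root_.pow_add, pow_one, pow_add, _root_.pow_add, _root_.pow_add]
    ring
  rw [e]
  ring

theorem B_tt (m : ℕ) (δ : F) (x : V3 F) : B m δ tt x = x.2.2 := by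
  unfold B tt
  simp

end Cfsg.Agent.StdSz.FormAlg
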