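import Cfsg.Agent.S1347

/-!
# Standard subgroups with a centralizing involution: reduction to a simple layer

Common first step of the standard-component theorems: `O(G) = 1`, `A` standard and not normal,
`t` an involution centralizing `A`.  Either `E(G) ≅ A × A`, or `E(G)` is a nonabelian simple group
containing `A`, `O₂(G) = 1` and `C_G(E(G)) = 1`.
-/

set_option autoImplicit false
set_option linter.unusedSectionVars false

namespace Cfsg.Agent.StdSz.Reduce

open Cfsg Subgroup
open Cfsg.Agent.SignalizersComponents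

variable {G : Type*} [Group G]

/-- If `X` and `Y` commute elementwise and meet trivially, then `X ⊔ Y ≃* X × Y`. -/
theorem nonempty_sup_mulEquiv_prod {X Y : Subgroup G}
    (hcomm : ∀ a ∈ X, ∀ b ∈ Y, a * b = b * a) (hinf : X ⊓ Y = ⊥) :
    Nonempty (↥(X ⊔ Y) ≃* ↥X × ↥Y) := by
  let f : ↥X × ↥Y →* G := X.subtype.noncommCoprod Y.subtype
    (fun a b => hcomm a a.2 b b.2)
  have hf : ∀ p : ↥X × ↥Y, f p = (p.1 : G) * (p.2 : G) := fun p => rfl
  have hinj : Function.Injective f := by
    rw [injective_iff_map_eq_one]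
    rintro ⟨a, b⟩ h
    rw [hf] at h
    have h1 : (a : G) = (b : G)⁻¹ := eq_inv_of_mul_eq_one_left h
    have h2 : (a : G) ∈ X ⊓ Y := mem_inf.mpr ⟨a.2, by rw [h1]; exact inv_mem b.2⟩
    rw [hinf, mem_bot] at h2
    have h3 : (b : G) = 1 := by
      rw [h2] at h1
      exact inv_eq_one.mp h1.symm
    ext
    · exact h2
    · exact h3
  have hrange : f.range = X ⊔ Y := by
    apply le_antisymm
    · rintro _ ⟨p, rfl⟩
      rw [hf]
      exact mul_mem ((le_sup_left : X ≤ X ⊔ Y) p.1.2) ((le_sup_right : Y ≤ X ⊔ Y) p.2.2)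
    · rw [sup_le_iff]
      refine ⟨fun x hx => ⟨(⟨x, hx⟩, 1), ?_⟩, fun y hy => ⟨(1, ⟨y, hy⟩), ?_⟩⟩
      · rw [hf]; simp
      · rw [hf]; simp
  rw [← hrange]
  exact ⟨(MonoidHom.ofInjective hinj).symm⟩

variable [Finite G]

/-- The situation of case (iii) of the trichotomy: `E(G)` is nonabelian simple, contains the
standard subgroup `A`, and `C_G(E(G)) = 1`. -/
structure Simple (A : Subgroup G) : Prop where
  std : IsStandardSubgroup A
  not_normal : ¬ A.Normal
  oddCore : Cfsg.oddCore G = ⊥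
  pCore : Cfsg.pCore 2 G = ⊥
  centralizer : Subgroup.centralizer (Cfsg.layer G : Set G) = ⊥
  le_layer : A ≤ Cfsg.layer G
  simple : IsSimpleGroup ↥(Cfsg.layer G)
  not_comm : ¬ IsMulCommutative ↥(Cfsg.layer G)

/-- Either `E(G) ≅ A × A` or `E(G)` is simple (in the sense of `Simple`). -/
theorem prod_or_simple {A : Subgroup G} (hA : IsStandardSubgroup A) (hnA : ¬ A.Normal)
    (hO : Cfsg.oddCore G = ⊥) {t : G} (ht : orderOf t = 2)
    (htA : t ∈ Subgroup.centralizer (A : Set G)) :
    Nonempty (↥(Cfsg.layer G) ≃* ↥A × ↥A) ∨ Simple A := by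
  have h2 : Cfsg.pCore 2 G = ⊥ := by
    by_contra h
    exact hnA (StandardTrichotomy.normal_of_pCore_ne_bot hA ht htA h)
  have hC := StandardTrichotomy.centralizer_layer_eq_bot hO h2
  rcases Cfsg.Agent.S1347.result A hA hO t ht htA with h | h | h
  · exact absurd h hnA
  · left
    obtain ⟨X, -, -, ⟨e⟩, hcomm, hinf, hsup, -⟩ := h
    obtain ⟨f⟩ := nonempty_sup_mulEquiv_prod hcomm hinf
    rw [hsup] at f
    have g : ↥X ≃* ↥(X.map (MulAut.conj t).toMonoidHom) :=
      X.equivMapOfInjective _ (MulAut.conj t).injective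
    exact ⟨f.trans (e.prodCongr (g.symm.trans e))⟩
  · exact Or.inr ⟨hA, hnA, hO, h2, hC, h.1, h.2.1, h.2.2⟩

/-- If `C_G(E) = 1`, an element induces the same automorphism on `E` as an element of `E` only if
it lies in `E`. -/
theorem mem_of_exists_inner {E : Subgroup G} (hC : Subgroup.centralizer (E : Set G) = ⊥) {t : G}
    (h : ∃ e : G, e ∈ E ∧ ∀ x ∈ E, t * x * t⁻¹ = e * x * e⁻¹) : t ∈ E := by
  obtain ⟨e, he, h⟩ := h
  have h1 : e⁻¹ * t ∈ Subgroup.centralizer (E : Set G) := by
    rw [mem_centralizer_iff]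
    intro x hx
    have h2 := h x hx
    have h3 : (e⁻¹ * t) * x = x * (e⁻¹ * t) := by
      calc (e⁻¹ * t) * x = e⁻¹ * (t * x * t⁻¹) * t := by group
        _ = e⁻¹ * (e * x * e⁻¹) * t := by rw [h2]
        _ = x * (e⁻¹ * t) := by group
    exact h3.symm
  rw [hC, mem_bot, inv_mul_eq_one] at h1
  rw [← h1]; exact he

namespace Simple

variable {A : Subgroup G} (S : Simple A)
include S

theorem not_inner {t : G} (ht : t ∉ Cfsg.layer G) :
    ¬ ∃ e : G, e ∈ Cfsg.layer G ∧ ∀ x ∈ Cfsg.layer G, t * x * t⁻¹ = e * x * e⁻¹ :=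
  fun h => ht (mem_of_exists_inner S.centralizer h)

/-- Centralizers of involutions of `C_G(A)` lie in `N_G(A)`. -/
theorem centralizer_involution_le {t : G} (ht : orderOf t = 2)
    (htA : t ∈ Subgroup.centralizer (A : Set G)) :
    Subgroup.centralizer ({t} : Set G) ≤ Subgroup.normalizer (A : Set G) :=
  StandardTrichotomy.centralizer_involution_le S.std ht htA

theorem layer_normal : (Cfsg.layer G).Normal := Components.layer_normal G

theorem isSimple_normal {N : Subgroup G} (hN : N.Normal) (hne : N ≠ ⊥) : Cfsg.layer G ≤ N := by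
  have := S.simple
  have := S.layer_normal
  have h1 : (N.subgroupOf (Cfsg.layer G)).Normal := inferInstance
  rcases h1.eq_bot_or_eq_top with h | h
  · exfalso
    apply hne
    rw [← le_bot_iff, ← S.centralizer]
    have h2 : N ⊓ Cfsg.layer G = ⊥ := by
      rw [Subgroup.subgroupOf_eq_bot] at h
      exact h.eq_bot
    intro x hx
    rw [mem_centralizer_iff]
    intro y hy
    have h3 : x * y * x⁻¹ * y⁻¹ ∈ N ⊓ Cfsg.layer G := by
      rw [mem_inf]
      refine ⟨?_, ?_⟩
      · have : x * (y * x⁻¹ * y⁻¹) ∈ N := mul_mem hx (hN.conj_mem _ (inv_mem hx) y)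
        simpa only [mul_assoc] using this
      · exact mul_mem (S.layer_normal.conj_mem y hy x) (inv_mem hy)
    rw [h2, mem_bot, mul_inv_eq_one, mul_inv_eq_iff_eq_mul] at h3
    exact h3.symm
  · exact subgroupOf_eq_top.mp h

end Simple

end Cfsg.Agent.StdSz.Reduce
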