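import Cfsg.Agent.StdSz.Base
import Cfsg.Agent.StdSz.Reduce
import Cfsg.Agent.S0215

/-!
# From a standard subgroup of type `Sz(q)` to the environment `Env`

Main result `exists_env`: in the situation `Reduce.Simple A`, `A / Z(A) ≅ Sz(q)`, `|Z(A)|` odd,
`C_G(A)` with cyclic Sylow 2-subgroups and `t ∈ C_G(A)` an involution, there is an `Env` with this
`t` and `P ≤ A`, and `t` is not central in `N_G(T)`.
-/

set_option autoImplicit false
set_option linter.unusedSectionVars false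
set_option linter.dupNamespace false

namespace Cfsg.Agent.StdSz.FromStd

open Subgroup Cfsg.Agent.ThreePrime Cfsg.Agent.ThreePrime.AutQuot Cfsg.Agent.StdSz.Base
open Cfsg.Agent.SignalizersComponents

section Cyc

variable {G : Type*} [Group G] [Finite G]

theorem isCyclic_of_le {K : Subgroup G} (hK : ∀ P : Sylow 2 K, IsCyclic (P : Subgroup K))
    {Y : Subgroup G} (hY : IsPGroup 2 Y) (hYK : Y ≤ K) : IsCyclic Y := by
  have h1 : IsPGroup 2 (Y.subgroupOf K) := hY.comap_subtype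
  obtain ⟨P, hP⟩ := h1.exists_le_sylow
  have := hK P
  have h2 : IsCyclic (Y.subgroupOf K) :=
    isCyclic_of_injective (Subgroup.inclusion hP) (Subgroup.inclusion_injective hP)
  exact isCyclic_of_surjective (Subgroup.subgroupOfEquivOfLe hYK)
    (Subgroup.subgroupOfEquivOfLe hYK).surjective

theorem involution_unique {Y : Subgroup G} (hY : IsCyclic Y) {r s : G} (hr : r ∈ Y) (hs : s ∈ Y)
    (hr2 : r * r = 1) (hs2 : s * s = 1) (hr1 : r ≠ 1) (hs1 : s ≠ 1) : r = s := by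
  classical
  by_contra hne
  have : Fintype Y := Fintype.ofFinite Y
  have h1 := IsCyclic.card_pow_eq_one_le (α := Y) (n := 2) (by norm_num)
  have h2 : ({1, ⟨r, hr⟩, ⟨s, hs⟩} : Finset Y) ⊆ Finset.univ.filter (fun a : Y => a ^ 2 = 1) := by
    intro a ha
    rw [Finset.mem_filter]
    refine ⟨Finset.mem_univ _, ?_⟩
    simp only [Finset.mem_insert, Finset.mem_singleton] at ha
    rcases ha with rfl | rfl | rfl
    · exact one_pow 2
    · apply Subtype.ext; show r ^ 2 = 1; rw [pow_two, hr2]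
    · apply Subtype.ext; show s ^ 2 = 1; rw [pow_two, hs2]
  have h3 : ({1, ⟨r, hr⟩, ⟨s, hs⟩} : Finset Y).card = 3 := by
    rw [Finset.card_eq_three]
    refine ⟨1, ⟨r, hr⟩, ⟨s, hs⟩, ?_, ?_, ?_, rfl⟩
    · intro h; exact hr1 (congrArg Subtype.val h).symm
    · intro h; exact hs1 (congrArg Subtype.val h).symm
    · intro h; exact hne (congrArg Subtype.val h)
  have h4 := Finset.card_le_card h2
  omega

end Cyc

variable {G : Type*} [Group G] [Finite G]

/-- The situation of a standard subgroup `A`, `A / Z(A) ≅ Sz(q)`, with coordinates of a Sylow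
2-subgroup of `A`. -/
structure Ctx (A : Subgroup G) (t : G) (F : Type*) [Field F] [Fintype F] (m : ℕ) where
  S : Reduce.Simple A
  ht : orderOf t = 2
  htA : t ∈ centralizer (A : Set G)
  hm : 1 ≤ m
  hF : Fintype.card F = 2 ^ (2 * m + 1)
  R : SzRel.Rel (A ⧸ center A) F
  θ_eq : ∀ x, R.θ x = x ^ (2 ^ (m + 1))
  hZ : Odd (Nat.card (center A))
  cyc : ∀ P : Sylow 2 ↥(centralizer (A : Set G)), IsCyclic ↥(P : Subgroup ↥(centralizer (A : Set G)))
  P1 : Subgroup A
  P1_two : IsPGroup 2 P1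
  q : F → F → A
  q_mem : ∀ a b, q a b ∈ P1
  q_surj : ∀ x ∈ P1, ∃ a b, x = q a b
  q_mk : ∀ a b, (QuotientGroup.mk (q a b) : A ⧸ center A) = R.u a b
  q_uniq : ∀ w : A, (∃ k : ℕ, w ^ 2 ^ k = 1) → ∀ a b,
    (QuotientGroup.mk w : A ⧸ center A) = R.u a b → w = q a b

namespace Ctx

variable {A : Subgroup G} {t : G} {F : Type*} [Field F] [Fintype F] {m : ℕ} (C : Ctx A t F m)

include C in
theorem tt : t * t = 1 := by
  have := pow_orderOf_eq_one t
  rwa [C.ht, pow_two] at this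

include C in
theorem t_ne : t ≠ 1 := by
  intro h
  have := C.ht
  rw [h, orderOf_one] at this
  exact absurd this (by norm_num)

include C in
theorem comm_K {k a : G} (hk : k ∈ centralizer (A : Set G)) (ha : a ∈ A) : k * a = a * k :=
  (mem_centralizer_iff.mp hk a ha).symm

theorem map_P1 : C.P1.map (QuotientGroup.mk' (center A)) = C.R.T := by
  ext j
  constructor
  · rintro ⟨x, hx, rfl⟩
    obtain ⟨a, b, rfl⟩ := C.q_surj x hx
    exact ⟨a, b, C.q_mk a b⟩
  · rintro ⟨a, b, rfl⟩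
    exact ⟨C.q a b, C.q_mem a b, C.q_mk a b⟩

theorem P1_pow {x : A} (hx : x ∈ C.P1) : ∃ k : ℕ, x ^ 2 ^ k = 1 := by
  obtain ⟨k, hk⟩ := C.P1_two ⟨x, hx⟩
  exact ⟨k, congrArg Subtype.val hk⟩

theorem q_mul (a b c e : F) : C.q a b * C.q c e = C.q (a + c) (b + e + a * C.R.θ c) := by
  apply C.q_uniq _ (C.P1_pow (mul_mem (C.q_mem _ _) (C.q_mem _ _)))
  rw [QuotientGroup.mk_mul, C.q_mk, C.q_mk, C.R.u_mul]

theorem q_inj {a b c e : F} (h : C.q a b = C.q c e) : a = c ∧ b = e := by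
  apply C.R.u_inj
  rw [← C.q_mk, ← C.q_mk, h]

theorem q_zero : C.q 0 0 = 1 := by
  symm
  apply C.q_uniq _ ⟨0, one_pow _⟩
  rw [QuotientGroup.mk_one, C.R.u_zero]

theorem q_sq (a b : F) : C.q a b * C.q a b = C.q 0 (a * C.R.θ a) := by
  rw [C.q_mul, C.R.add_self, C.R.add_self, zero_add]

include C in
theorem h8 : 8 ≤ Nat.card F := by
  rw [Nat.card_eq_fintype_card, C.hF]
  exact SzRel.Rel.eight_le C.hm

/-- elements of `P1` with square one, or central in `P1`, are of the form `q 0 b`. -/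
theorem eq_of_sq {x : A} (hx : x ∈ C.P1) (h : x * x = 1) : ∃ b, x = C.q 0 b := by
  obtain ⟨a, b, rfl⟩ := C.q_surj x hx
  rw [C.q_sq, ← C.q_zero] at h
  have h1 := (C.q_inj h).2
  rcases mul_eq_zero.mp h1 with h2 | h2
  · exact ⟨b, by rw [h2]⟩
  · rw [map_eq_zero] at h2
    exact ⟨b, by rw [h2]⟩

theorem q_comm_z (a b e : F) : C.q a b * C.q 0 e = C.q 0 e * C.q a b := by
  rw [C.q_mul, C.q_mul, map_zero, mul_zero, zero_mul, add_zero, zero_add, add_zero, add_comm b e,
    add_zero]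

theorem eq_of_central {x : A} (hx : x ∈ C.P1) (h : ∀ y ∈ C.P1, x * y = y * x) :
    ∃ b, x = C.q 0 b := by
  obtain ⟨a, b, rfl⟩ := C.q_surj x hx
  have h1 : ∀ c, a * C.R.θ c = c * C.R.θ a := by
    intro c
    have h2 := h _ (C.q_mem c 0)
    have h3 := congrArg (QuotientGroup.mk : A → A ⧸ center A) h2
    rw [QuotientGroup.mk_mul, QuotientGroup.mk_mul, C.q_mk, C.q_mk, C.R.comm_iff] at h3
    exact h3
  have h4 : a = 0 := by
    by_contra ha
    obtain ⟨x, hx⟩ := C.R.exists_theta_ne C.h8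
    have e1 := h1 1
    rw [map_one, mul_one, one_mul] at e1
    have e2 := h1 x
    rw [← e1, mul_comm x] at e2
    exact hx (mul_left_cancel₀ ha e2)
  exact ⟨b, by rw [h4]⟩

include C in
/-- 2-elements of `Z(A)` are trivial. -/
theorem eq_one_of_center {z : A} (hz : z ∈ center A) {k : ℕ} (hk : z ^ 2 ^ k = 1) : z = 1 :=
  eq_one_of_two_odd hk C.hZ (Subgroup.orderOf_dvd_natCard _ hz)

include C in
theorem mem_center_of {x : G} (hxA : x ∈ A) (hxK : x ∈ centralizer (A : Set G)) :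
    (⟨x, hxA⟩ : A) ∈ center A := by
  rw [mem_center_iff]
  intro g
  exact Subtype.ext (C.comm_K hxK g.2).symm

include C in
theorem eq_one_of_mem {x : G} (hxA : x ∈ A) (hxK : x ∈ centralizer (A : Set G)) {k : ℕ}
    (hk : x ^ 2 ^ k = 1) : x = 1 :=
  congrArg Subtype.val (C.eq_one_of_center (C.mem_center_of hxA hxK) (k := k) (Subtype.ext hk))

/-! ### Sylow 2-subgroups of `C(A)` -/

/-- data of a maximal 2-subgroup `R0` of `C(A)` containing `t`. -/
structure IsR (A : Subgroup G) (t : G) (R0 : Subgroup G) : Prop where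
  two : IsPGroup 2 R0
  le : R0 ≤ centralizer (A : Set G)
  mem : t ∈ R0
  max : ∀ X : Subgroup G, IsPGroup 2 X → X ≤ centralizer (A : Set G) → R0 ≤ X → X = R0

include C in
theorem exists_R : ∃ R0 : Subgroup G, IsR A t R0 := by
  have hzp : IsPGroup 2 (zpowers t) := by
    intro x
    obtain ⟨x, hx⟩ := x
    obtain ⟨i, rfl⟩ := mem_zpowers_iff.mp hx
    refine ⟨1, Subtype.ext ?_⟩
    show (t ^ i) ^ 2 ^ 1 = 1
    rw [← zpow_natCast, ← zpow_mul, mul_comm, zpow_mul, zpow_natCast, pow_one, pow_two, C.tt,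
      one_zpow]
  have htK : zpowers t ≤ centralizer (A : Set G) := by rw [zpowers_le]; exact C.htA
  have hz1 : IsPGroup 2 ((zpowers t).subgroupOf (centralizer (A : Set G))) := hzp.comap_subtype
  obtain ⟨P, hP⟩ := hz1.exists_le_sylow
  refine ⟨(P : Subgroup (centralizer (A : Set G))).map (centralizer (A : Set G)).subtype,
    IsPGroup.map P.isPGroup' _, ?_, ?_, ?_⟩
  · rintro _ ⟨x, -, rfl⟩
    exact x.2
  · exact ⟨⟨t, C.htA⟩, hP (mem_subgroupOf.mpr (mem_zpowers t)), rfl⟩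
  · intro X hX hXK hle
    have h1 : IsPGroup 2 (X.subgroupOf (centralizer (A : Set G))) := hX.comap_subtype
    have h2 : (P : Subgroup (centralizer (A : Set G))) ≤ X.subgroupOf (centralizer (A : Set G)) := by
      intro x hx
      exact mem_subgroupOf.mpr (hle ⟨x, hx, rfl⟩)
    have h3 := P.is_maximal' h1 h2
    apply le_antisymm
    · intro x hx
      have h4 : (⟨x, hXK hx⟩ : centralizer (A : Set G)) ∈ X.subgroupOf (centralizer (A : Set G)) :=
        mem_subgroupOf.mpr hx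
      rw [h3] at h4
      exact ⟨_, h4, rfl⟩
    · exact hle

variable {R0 : Subgroup G} (hR : IsR A t R0)

/-- The group `R0 × P1`. -/
def T0 (hR : IsR A t R0) : Subgroup G where
  carrier := {g | ∃ r ∈ R0, ∃ x ∈ C.P1, g = r * x}
  mul_mem' := by
    rintro g h ⟨r, hr, x, hx, rfl⟩ ⟨s, hs, y, hy, rfl⟩
    refine ⟨r * s, mul_mem hr hs, x * y, mul_mem hx hy, ?_⟩
    rw [coe_mul]
    calc r * x * (s * y) = r * (x * s) * y := by group
      _ = r * (s * x) * y := by rw [C.comm_K (hR.le hs) x.2]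
      _ = r * s * (x * y) := by group
  one_mem' := ⟨1, one_mem _, 1, one_mem _, by simp⟩
  inv_mem' := by
    rintro g ⟨r, hr, x, hx, rfl⟩
    refine ⟨r⁻¹, inv_mem hr, x⁻¹, inv_mem hx, ?_⟩
    rw [mul_inv_rev, coe_inv]
    exact (C.comm_K (inv_mem (hR.le hr)) (inv_mem x.2)).symm

include C hR in
theorem R0_comm {r s : G} (hr : r ∈ R0) (hs : s ∈ R0) : r * s = s * r := by
  have h1 := isCyclic_of_le C.cyc hR.two hR.le
  have h2 := (@IsCyclic.commGroup R0 _ h1).mul_comm ⟨r, hr⟩ ⟨s, hs⟩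
  exact congrArg Subtype.val h2

theorem mem_T0 {g : G} : g ∈ C.T0 hR ↔ ∃ r ∈ R0, ∃ x ∈ C.P1, g = r * x := Iff.rfl

theorem R0_le_T0 : R0 ≤ C.T0 hR := fun r hr => ⟨r, hr, 1, one_mem _, by simp⟩

theorem P1_le_T0 {x : A} (hx : x ∈ C.P1) : (x : G) ∈ C.T0 hR := ⟨1, one_mem _, x, hx, by simp⟩

theorem T0_two : IsPGroup 2 (C.T0 hR) := by
  rintro ⟨g, r, hr, x, hx, rfl⟩
  obtain ⟨k, hk⟩ := hR.two ⟨r, hr⟩
  have hk : r ^ 2 ^ k = 1 := congrArg Subtype.val hk
  obtain ⟨l, hl⟩ := C.P1_pow hx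
  have hl : (x : G) ^ 2 ^ l = 1 := congrArg Subtype.val hl
  refine ⟨k + l, Subtype.ext ?_⟩
  show (r * x) ^ 2 ^ (k + l) = 1
  have hc : Commute r (x : G) := C.comm_K (hR.le hr) x.2
  rw [hc.mul_pow]
  have e1 : r ^ 2 ^ (k + l) = 1 := by rw [pow_add, pow_mul, hk, one_pow]
  have e2 : (x : G) ^ 2 ^ (k + l) = 1 := by rw [pow_add, mul_comm (2 ^ k), pow_mul, hl, one_pow]
  rw [e1, e2, mul_one]

/-- `T0` is a maximal 2-subgroup of `N(A)`. -/
theorem T0_max {X : Subgroup G} (hX : IsPGroup 2 X) (hXN : X ≤ normalizer (A : Set G))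
    (hle : C.T0 hR ≤ X) : X = C.T0 hR := by
  apply le_antisymm _ hle
  intro y hy
  obtain ⟨x, hx, hxy⟩ := exists_mem_sylow C.R C.S.std.1 C.hm C.hF C.map_P1 hX hXN
    (fun x hx => hle (C.P1_le_T0 hR hx)) hy
  have h1 : (x : G)⁻¹ * y ∈ X := mul_mem (inv_mem (hle (C.P1_le_T0 hR hx))) hy
  have h2 : X ⊓ centralizer (A : Set G) = R0 :=
    hR.max _ (hX.to_le inf_le_left) inf_le_right
      (le_inf ((C.R0_le_T0 hR).trans hle) hR.le)
  have h3 : (x : G)⁻¹ * y ∈ R0 := by rw [← h2]; exact mem_inf.mpr ⟨h1, hxy⟩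
  refine ⟨(x : G)⁻¹ * y, h3, x, hx, ?_⟩
  rw [C.comm_K (hR.le h3) x.2, mul_inv_cancel_left]

/-- involutions of `T0` are central in `T0`. -/
theorem central_of_sq {g : G} (hg : g ∈ C.T0 hR) (h : g * g = 1) :
    ∀ y ∈ C.T0 hR, g * y = y * g := by
  obtain ⟨r, hr, x, hx, rfl⟩ := hg
  have hrx : r * x = x * r := C.comm_K (hR.le hr) x.2
  have h1 : (r * r) * ((x * x : A) : G) = 1 := by
    rw [coe_mul, ← h]
    calc r * r * (x * x) = r * (r * x) * x := by group
      _ = r * (x * r) * x := by rw [hrx]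
      _ = r * x * (r * x) := by group
  obtain ⟨k, hk⟩ := C.P1_pow (mul_mem hx hx)
  have h2 : ((x * x : A) : G) = (r * r)⁻¹ := (inv_eq_of_mul_eq_one_right h1).symm
  have h3 : ((x * x : A) : G) = 1 := by
    apply C.eq_one_of_mem (x * x).2 (k := k)
    · rw [h2]; exact hR.le (inv_mem (mul_mem hr hr))
    · exact congrArg Subtype.val hk
  have h4 : x * x = 1 := Subtype.ext h3
  obtain ⟨b, rfl⟩ := C.eq_of_sq hx h4
  rintro y ⟨s, hs, z, hz, rfl⟩
  obtain ⟨c, e, rfl⟩ := C.q_surj z hz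
  have e1 : ((C.q 0 b : A) : G) * s = s * (C.q 0 b : A) := (C.comm_K (hR.le hs) (C.q 0 b).2).symm
  have e2 : r * s = s * r := C.R0_comm hR hr hs
  have e3 : ((C.q 0 b : A) : G) * (C.q c e : A) = (C.q c e : A) * (C.q 0 b : A) :=
    (congrArg Subtype.val (C.q_comm_z c e b)).symm
  have e4 : r * ((C.q c e : A) : G) = (C.q c e : A) * r := C.comm_K (hR.le hr) (C.q c e).2
  calc r * (C.q 0 b : A) * (s * (C.q c e : A)) = r * ((C.q 0 b : A) * s) * (C.q c e : A) := by group
    _ = r * (s * (C.q 0 b : A)) * (C.q c e : A) := by rw [e1]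
    _ = (r * s) * ((C.q 0 b : A) * (C.q c e : A)) := by group
    _ = (s * r) * ((C.q c e : A) * (C.q 0 b : A)) := by rw [e2, e3]
    _ = s * (r * (C.q c e : A)) * (C.q 0 b : A) := by group
    _ = s * ((C.q c e : A) * r) * (C.q 0 b : A) := by rw [e4]
    _ = s * (C.q c e : A) * (r * (C.q 0 b : A)) := by group

/-- `N(T0)` does not centralize `t` (Glauberman's Z*-theorem). -/
theorem exists_not_comm : ∃ g ∈ normalizer (C.T0 hR : Set G), g * t ≠ t * g := by
  have : Fact (Nat.Prime 2) := ⟨Nat.prime_two⟩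
  by_contra hcon
  push Not at hcon
  have hNA : ∀ g, g * t = t * g → g ∈ normalizer (A : Set G) := by
    intro g hg
    apply C.S.centralizer_involution_le C.ht C.htA
    rw [mem_centralizer_singleton_iff]; exact hg
  have htT : t ∈ C.T0 hR := C.R0_le_T0 hR hR.mem
  -- `T0` is a Sylow 2-subgroup of `G`
  obtain ⟨P2, hP2⟩ := (C.T0_two hR).exists_le_sylow
  have hP2e : (P2 : Subgroup G) = C.T0 hR := by
    by_contra hne
    have hlt : C.T0 hR < P2 := lt_of_le_of_ne hP2 (fun h => hne h.symm)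
    have h1 := StandardTrichotomy.lt_inf_normalizer P2.isPGroup' hlt
    have h2 := C.T0_max hR (X := (P2 : Subgroup G) ⊓ normalizer (C.T0 hR : Set G))
      (P2.isPGroup'.to_le inf_le_left)
      (fun g hg => hNA g (hcon g hg.2)) h1.le
    exact absurd h1 (by rw [h2]; exact lt_irrefl _)
  have hcent : ∀ s ∈ C.T0 hR, s * s = 1 → s ∈ centralizer ((P2 : Subgroup G) : Set G) := by
    intro s hs hs2
    rw [mem_centralizer_iff]
    intro y hy
    rw [SetLike.mem_coe, hP2e] at hy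
    exact (C.central_of_sq hR hs hs2 y hy).symm
  have hiso : ∀ g : G, g * t * g⁻¹ ∈ (P2 : Subgroup G) → g * t * g⁻¹ = t := by
    intro g hg
    rw [hP2e] at hg
    have h1 : (g * t * g⁻¹) * (g * t * g⁻¹) = 1 := by
      have : (g * t * g⁻¹) * (g * t * g⁻¹) = g * (t * t) * g⁻¹ := by group
      rw [this, C.tt, mul_one, mul_inv_cancel]
    obtain ⟨n, hn, h⟩ := P2.conj_eq_normalizer_conj_of_mem_centralizer t g⁻¹
      (hcent t htT C.tt) (by rw [inv_inv]; exact hcent _ hg h1)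
    rw [inv_inv] at h
    have hn' : n ∈ normalizer (C.T0 hR : Set G) := by rw [← hP2e]; exact hn
    rw [h, mul_assoc, ← hcon n hn', inv_mul_cancel_left]
  obtain ⟨N, hN, hNo, hNc⟩ := Cfsg.Agent.S0215.result P2 t C.ht (hP2 htT) hiso
  have hNbot : N = ⊥ := by
    have h1 := CompBasic.subnormal_coprime_le_pPrimeCore (p := 2) hN.isSubnormal
      (Nat.coprime_two_right.mpr hNo)
    have h2 : Cfsg.pPrimeCore 2 G = ⊥ := C.S.oddCore
    rw [h2] at h1
    exact le_bot_iff.mp h1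
  apply C.S.not_normal
  rw [← Subgroup.normalizer_eq_top_iff, eq_top_iff]
  intro g _
  apply hNA
  have := hNc g
  rw [hNbot, mem_bot, mul_inv_eq_one, mul_inv_eq_iff_eq_mul] at this
  exact this.symm

include C hR in
/-- `R0 = {1, t}`. -/
theorem R0_eq {r : G} (hr : r ∈ R0) : r = 1 ∨ r = t := by
  have : Fact (Nat.Prime 2) := ⟨Nat.prime_two⟩
  by_contra hcon
  push Not at hcon
  obtain ⟨hr1, hrt⟩ := hcon
  have hcyc := isCyclic_of_le C.cyc hR.two hR.le
  -- an element of order four with square `t`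
  obtain ⟨s, hs, hst⟩ : ∃ s ∈ R0, s * s = t := by
    obtain ⟨⟨g, hg⟩, hgen⟩ := hcyc.exists_generator
    have hpow : ∀ x ∈ R0, ∃ i : ℤ, x = g ^ i := by
      intro x hx
      obtain ⟨i, hi⟩ := mem_zpowers_iff.mp (hgen ⟨x, hx⟩)
      exact ⟨i, (congrArg Subtype.val hi).symm⟩
    obtain ⟨k, hk⟩ := hR.two ⟨g, hg⟩
    have hk : g ^ 2 ^ k = 1 := congrArg Subtype.val hk
    obtain ⟨k, hk⟩ := (Nat.dvd_prime_pow Nat.prime_two).mp (orderOf_dvd_of_pow_eq_one hk)
    obtain ⟨hkle, hk⟩ := hk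
    -- `orderOf g = 2 ^ k`
    match k, hk with
    | 0, hk =>
      exfalso
      rw [pow_zero, orderOf_eq_one_iff] at hk
      obtain ⟨i, hi⟩ := hpow r hr
      rw [hk, one_zpow] at hi
      exact hr1 hi
    | 1, hk =>
      exfalso
      have hgg : g * g = 1 := by
        rw [← pow_two, ← pow_one 2, ← hk, pow_orderOf_eq_one]
      have hgi : ∀ i : ℤ, g ^ i = 1 ∨ g ^ i = g := by
        intro i
        rcases Int.even_or_odd' i with ⟨j, rfl | rfl⟩
        · left; rw [zpow_mul, zpow_two, hgg, one_zpow]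
        · right; rw [zpow_add, zpow_mul, zpow_two, hgg, one_zpow, one_mul, zpow_one]
      obtain ⟨i, hi⟩ := hpow r hr
      obtain ⟨j, hj⟩ := hpow t hR.mem
      rcases hgi i with h | h
      · exact hr1 (hi.trans h)
      · rcases hgi j with h' | h'
        · exact C.t_ne (hj.trans h')
        · exact hrt ((hi.trans h).trans (hj.trans h').symm)
    | k + 2, hk =>
      refine ⟨g ^ 2 ^ k, pow_mem hg _, ?_⟩
      apply involution_unique hcyc (mul_mem (pow_mem hg _) (pow_mem hg _)) hR.mem _ C.tt _ C.t_ne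
      · have : g ^ 2 ^ k * g ^ 2 ^ k * (g ^ 2 ^ k * g ^ 2 ^ k) = g ^ 2 ^ (k + 2) := by
          rw [← pow_add, ← pow_add]; congr 1; ring
        rw [this, ← hk, pow_orderOf_eq_one]
      · intro h
        have h1 : g ^ 2 ^ (k + 1) = 1 := by
          rw [← h, ← pow_add]; congr 1; ring
        have h2 := orderOf_dvd_of_pow_eq_one h1
        rw [hk] at h2
        have := (Nat.pow_dvd_pow_iff_le_right (x := 2) (by norm_num)).mp h2
        omega
  obtain ⟨g, hg, hne⟩ := C.exists_not_comm hR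
  apply hne
  -- `g s g⁻¹` is central in `T0`
  have hsT : s ∈ C.T0 hR := C.R0_le_T0 hR hs
  have hsc : ∀ y ∈ C.T0 hR, s * y = y * s := by
    rintro y ⟨r', hr', x, hx, rfl⟩
    have e1 : s * r' = r' * s := C.R0_comm hR hs hr'
    have e2 : s * x = x * s := C.comm_K (hR.le hs) x.2
    calc s * (r' * x) = (s * r') * x := by group
      _ = r' * (s * x) := by rw [e1]; group
      _ = r' * x * s := by rw [e2]; group
  have h1 : g * s * g⁻¹ ∈ C.T0 hR := (mem_normalizer_iff.mp hg s).mp hsT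
  have h2 : ∀ y ∈ C.T0 hR, (g * s * g⁻¹) * y = y * (g * s * g⁻¹) := by
    intro y hy
    have h3 : g⁻¹ * y * g ∈ C.T0 hR := by
      have := (mem_normalizer_iff.mp (inv_mem hg) y).mp hy
      rwa [inv_inv] at this
    have h4 := hsc _ h3
    calc g * s * g⁻¹ * y = g * (s * (g⁻¹ * y * g)) * g⁻¹ := by group
      _ = g * ((g⁻¹ * y * g) * s) * g⁻¹ := by rw [h4]
      _ = y * (g * s * g⁻¹) := by group
  obtain ⟨r', hr', x, hx, hgs⟩ := h1
  have hx2 : ∀ y ∈ C.P1, x * y = y * x := by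
    intro y hy
    apply Subtype.ext
    have h3 := h2 y (C.P1_le_T0 hR hy)
    rw [hgs] at h3
    have e1 : r' * y = y * r' := C.comm_K (hR.le hr') y.2
    have e2 : r' * (x * y) = r' * ((y : G) * x) := by
      calc r' * ((x : G) * y) = r' * x * y := by group
        _ = y * (r' * x) := h3
        _ = (r' * y) * x := by rw [e1]; group
        _ = r' * (y * x) := by group
    exact mul_left_cancel e2
  obtain ⟨b, rfl⟩ := C.eq_of_central hx hx2
  have hzz : ((C.q 0 b : A) : G) * (C.q 0 b : A) = 1 := by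
    have h3 := congrArg (Subtype.val : A → G) (C.q_sq 0 b)
    rw [coe_mul, zero_mul, C.q_zero] at h3
    exact h3
  have e1 : r' * ((C.q 0 b : A) : G) = (C.q 0 b : A) * r' := C.comm_K (hR.le hr') (C.q 0 b).2
  have h3 : g * t * g⁻¹ = r' * r' := by
    calc g * t * g⁻¹ = (g * s * g⁻¹) * (g * s * g⁻¹) := by rw [← hst]; group
      _ = (r' * (C.q 0 b : A)) * (r' * (C.q 0 b : A)) := by rw [hgs]
      _ = r' * ((C.q 0 b : A) * r') * (C.q 0 b : A) := by group
      _ = r' * (r' * (C.q 0 b : A)) * (C.q 0 b : A) := by rw [e1]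
      _ = r' * r' * ((C.q 0 b : A) * (C.q 0 b : A)) := by group
      _ = r' * r' := by rw [hzz, mul_one]
  have h4 : g * t * g⁻¹ = t := by
    apply involution_unique hcyc _ hR.mem _ C.tt _ C.t_ne
    · rw [h3]; exact mul_mem hr' hr'
    · have : (g * t * g⁻¹) * (g * t * g⁻¹) = g * (t * t) * g⁻¹ := by group
      rw [this, C.tt, mul_one, mul_inv_cancel]
    · intro h
      apply C.t_ne
      have : t = g⁻¹ * (g * t * g⁻¹) * g := by group
      rw [this, h]; group
  rwa [mul_inv_eq_iff_eq_mul] at h4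

include C hR in
/-- 2-elements of `C(A)` commuting with `t` are `1` or `t`. -/
theorem eq_of_two {r : G} (hr : r ∈ centralizer (A : Set G)) {k : ℕ} (hk : r ^ 2 ^ k = 1)
    (hrt : r * t = t * r) : r = 1 ∨ r = t := by
  have hz : ∀ {x : G} {n : ℕ}, x ^ 2 ^ n = 1 → IsPGroup 2 (zpowers x) := by
    intro x n hx y
    obtain ⟨y, hy⟩ := y
    obtain ⟨i, rfl⟩ := mem_zpowers_iff.mp hy
    refine ⟨n, Subtype.ext ?_⟩
    show (x ^ i) ^ 2 ^ n = 1
    rw [← zpow_natCast, ← zpow_mul, mul_comm, zpow_mul, zpow_natCast, hx, one_zpow]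
  have hsup : IsPGroup 2 ↥(R0 ⊔ zpowers r) := by
    apply IsPGroup.to_sup_of_normal_left' hR.two (hz hk)
    rw [zpowers_le]
    have key : ∀ x ∈ R0, r * x * r⁻¹ = x := by
      intro x hx
      rcases C.R0_eq hR hx with rfl | rfl
      · group
      · rw [hrt, mul_inv_cancel_right]
    have key' : ∀ x ∈ R0, r⁻¹ * x * r = x := by
      intro x hx
      have := key x hx
      rw [mul_inv_eq_iff_eq_mul] at this
      rw [mul_assoc, ← this]; group
    rw [mem_normalizer_iff]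
    intro x
    constructor
    · intro hx; rw [key x hx]; exact hx
    · intro hx
      have := key' _ hx
      have e : r⁻¹ * (r * x * r⁻¹) * r = x := by group
      rw [e] at this
      rw [this]; exact hx
  have hle : R0 ⊔ zpowers r ≤ centralizer (A : Set G) := by
    rw [sup_le_iff, zpowers_le]; exact ⟨hR.le, hr⟩
  have h := hR.max _ hsup hle le_sup_left
  apply C.R0_eq hR
  rw [← h]
  exact (le_sup_right : zpowers r ≤ _) (mem_zpowers r)

include C in
/-- The group of elements of odd order of `C(A) ∩ C(t)`. -/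
theorem exists_Y : ∃ Y : Subgroup G, Odd (Nat.card Y) ∧ Y ≤ centralizer (A : Set G) ∧
    (∀ y ∈ Y, y * t = t * y) ∧
    ∀ y ∈ centralizer (A : Set G), y * t = t * y → Odd (orderOf y) → y ∈ Y := by
  classical
  have : Fact (Nat.Prime 2) := ⟨Nat.prime_two⟩
  obtain ⟨R0, hR⟩ := C.exists_R
  let H : Subgroup G := centralizer (A : Set G) ⊓ centralizer ({t} : Set G)
  have hHt : ∀ x ∈ H, x * t = t * x := fun x hx => mem_centralizer_singleton_iff.mp hx.2
  let P : Sylow 2 H := Classical.arbitrary _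
  have hPt : ∀ x ∈ (P : Subgroup H), (x : G) = 1 ∨ (x : G) = t := by
    intro x hx
    obtain ⟨k, hk⟩ := P.isPGroup' ⟨x, hx⟩
    have hk : x ^ 2 ^ k = 1 := congrArg Subtype.val hk
    exact C.eq_of_two hR x.2.1 (congrArg Subtype.val hk) (hHt x x.2)
  have hPN : normalizer ((P : Subgroup H) : Set H) ≤ centralizer ((P : Subgroup H) : Set H) := by
    intro g _
    rw [mem_centralizer_iff]
    intro x hx
    apply Subtype.ext
    rw [coe_mul, coe_mul]
    rcases hPt x hx with h | h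
    · rw [h, one_mul, mul_one]
    · rw [h]; exact (hHt g g.2).symm
  refine ⟨(MonoidHom.transferSylow P hPN).ker.map H.subtype, ?_, ?_, ?_, ?_⟩
  · rw [← Nat.card_congr ((MonoidHom.transferSylow P hPN).ker.equivMapOfInjective _
      H.subtype_injective).toEquiv]
    have := MonoidHom.not_dvd_card_ker_transferSylow P hPN
    rwa [← even_iff_two_dvd, Nat.not_even_iff_odd] at this
  · rintro _ ⟨x, -, rfl⟩
    exact x.2.1
  · rintro _ ⟨x, -, rfl⟩
    exact hHt x x.2
  · intro y hyK hyt ho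
    have hyH : y ∈ H := ⟨hyK, mem_centralizer_singleton_iff.mpr hyt⟩
    refine ⟨⟨y, hyH⟩, ?_, rfl⟩
    rw [SetLike.mem_coe, MonoidHom.mem_ker]
    obtain ⟨k, hk⟩ := P.isPGroup' (MonoidHom.transferSylow P hPN ⟨y, hyH⟩)
    apply eq_one_of_two_odd hk ho
    refine (orderOf_map_dvd _ _).trans ?_
    rw [Subgroup.orderOf_mk]

/-- the preimage of the torus in `A`. -/
def DA : Subgroup G := (C.R.D.comap (QuotientGroup.mk' (center A))).map A.subtype

theorem mem_DA {x : G} : x ∈ C.DA ↔ ∃ a : A, (∃ k : Fˣ, QuotientGroup.mk a = C.R.d k) ∧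
    (a : G) = x := by
  constructor
  · rintro ⟨a, ha, rfl⟩
    exact ⟨a, ha, rfl⟩
  · rintro ⟨a, ha, rfl⟩
    exact ⟨a, ha, rfl⟩

theorem DA_le : C.DA ≤ A := by
  intro x hx
  obtain ⟨a, -, rfl⟩ := C.mem_DA.mp hx
  exact a.2

/-- the group `Y × (preimage of the torus)`. -/
def DD (Y : Subgroup G) (hY : Y ≤ centralizer (A : Set G)) : Subgroup G :=
  (Y.subtype.noncommCoprod C.DA.subtype
    (fun y a => C.comm_K (hY y.2) (C.DA_le a.2))).range

theorem mem_DD {Y : Subgroup G} (hY : Y ≤ centralizer (A : Set G)) {x : G} :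
    x ∈ C.DD Y hY ↔ ∃ y ∈ Y, ∃ a : A, (∃ k : Fˣ, QuotientGroup.mk a = C.R.d k) ∧ x = y * a := by
  constructor
  · rintro ⟨⟨y, a⟩, rfl⟩
    obtain ⟨a', ha', h⟩ := C.mem_DA.mp a.2
    refine ⟨y, y.2, a', ha', ?_⟩
    rw [h]; rfl
  · rintro ⟨y, hy, a, ha, rfl⟩
    exact ⟨(⟨y, hy⟩, ⟨a, C.mem_DA.mpr ⟨a, ha, rfl⟩⟩), rfl⟩

/-- the action of the preimages of torus elements. -/
theorem conj_q {a : A} {k : Fˣ} (ha : (QuotientGroup.mk a : A ⧸ center A) = C.R.d k) (c e : F) :
    a * C.q c e * a⁻¹ = C.q (c * (k : F) ^ 2 * (C.R.θ k)⁻¹) (e * C.R.θ k) := by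
  obtain ⟨n, hn⟩ := C.P1_pow (C.q_mem c e)
  apply C.q_uniq _ ⟨n, by rw [conj_pow, hn, mul_one, mul_inv_cancel]⟩
  rw [QuotientGroup.mk_mul, QuotientGroup.mk_mul, QuotientGroup.mk_inv, ha, C.q_mk, C.R.conj_d]

/-- the coordinates of `Env`. -/
def pp (a b : F) : G := (C.q a (b + a * C.R.θ a) : A)

theorem pp_mem (a b : F) : C.pp a b ∈ A := (C.q _ _).2

theorem exists_pp {x : A} (hx : x ∈ C.P1) : ∃ a b, (x : G) = C.pp a b := by
  obtain ⟨a, b, rfl⟩ := C.q_surj x hx
  refine ⟨a, b + a * C.R.θ a, ?_⟩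
  unfold pp
  rw [add_assoc, C.R.add_self, add_zero]

theorem pp_mul (a b c d : F) :
    C.pp a b * C.pp c d = C.pp (a + c) (b + d + a ^ (2 ^ (m + 1)) * c) := by
  unfold pp
  rw [← coe_mul, C.q_mul]
  congr 2
  rw [← C.θ_eq, map_add]
  have := C.R.two
  linear_combination (- a * C.R.θ a - c * C.R.θ c - C.R.θ a * c + C.R.θ a * c + a * C.R.θ a + c * C.R.θ c - c * C.R.θ a) * this

theorem pp_inj {a b c d : F} (h : C.pp a b = C.pp c d) : a = c ∧ b = d := by
  unfold pp at h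
  obtain ⟨h1, h2⟩ := C.q_inj (Subtype.ext h)
  subst h1
  exact ⟨rfl, add_right_cancel h2⟩

/-- `k ^ 2 / θ k` as a unit. -/
noncomputable def lam (k : Fˣ) : Fˣ :=
  Units.mk0 ((k : F) ^ 2 * (C.R.θ k)⁻¹)
    (mul_ne_zero (pow_ne_zero _ k.ne_zero) (inv_ne_zero (C.R.theta_ne_zero k)))

theorem lam_pow (k : Fˣ) : ((C.lam k : Fˣ) : F) ^ (1 + 2 ^ (m + 1)) = C.R.θ k := by
  rw [pow_add, pow_one, ← C.θ_eq]
  unfold lam
  rw [Units.val_mk0, map_mul, map_pow, map_inv₀, C.R.sq]
  have h1 := k.ne_zero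
  have h2 := C.R.theta_ne_zero k
  field_simp

theorem acts_of_mem {Y : Subgroup G} (hY : Y ≤ centralizer (A : Set G)) {y : G} (hy : y ∈ Y) {a : A}
    {k : Fˣ} (ha : (QuotientGroup.mk a : A ⧸ center A) = C.R.d k) :
    Env.Acts m C.pp (y * a) (C.lam k) := by
  intro c e
  have h1 := congrArg (Subtype.val : A → G) (C.conj_q ha c (e + c * C.R.θ c))
  rw [coe_mul, coe_mul, coe_inv] at h1
  have h2 : (y * a) * C.pp c e * (y * a)⁻¹ = y * (a * C.pp c e * (a : G)⁻¹) * y⁻¹ := by group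
  rw [h2]
  have h3 : (a : G) * C.pp c e * (a : G)⁻¹ ∈ A :=
    mul_mem (mul_mem a.2 (C.pp_mem c e)) (inv_mem a.2)
  rw [C.comm_K (hY hy) h3, mul_inv_cancel_right]
  unfold pp
  rw [h1]
  congr 2
  · unfold lam
    rw [Units.val_mk0]; ring
  · rw [C.lam_pow, map_mul]
    have h4 := C.lam_pow k
    rw [pow_add, pow_one, ← C.θ_eq] at h4
    linear_combination (- c * C.R.θ c) * h4

end Ctx

/-- **The environment of a standard subgroup of type `Sz(q)`.** -/
theorem Ctx.exists_env {A : Subgroup G} {t : G} {F : Type*} [Field F] [Fintype F] [CharP F 2] {m : ℕ}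
    (C : Ctx A t F m) : ∃ E : Env.Env G F m, E.t = t ∧ E.p = C.pp ∧
      (∃ g ∈ normalizer (E.T : Set G), g * E.t * g⁻¹ ≠ E.t) ∧
      (∀ g, g * E.t = E.t * g → g ∈ normalizer (A : Set G)) ∧
      (∀ g, g * E.t = E.t * g → (∀ b, g * E.p 0 b = E.p 0 b * g) →
        g ∈ normalizer (E.T : Set G)) := by
  classical
  obtain ⟨R0, hR⟩ := C.exists_R
  obtain ⟨Y, hYo, hYA, hYt, hYm⟩ := C.exists_Y
  have hNA : ∀ g, g * t = t * g → g ∈ normalizer (A : Set G) := by
    intro g hg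
    apply C.S.centralizer_involution_le C.ht C.htA
    rw [mem_centralizer_singleton_iff]; exact hg
  have htA : ∀ a ∈ A, t * a = a * t := fun a ha => C.comm_K C.htA ha
  have hmaxT : ∀ X : Subgroup G, IsPGroup 2 X → (∀ a b, C.pp a b ∈ X) → t ∈ X →
      (∀ x ∈ X, x * t = t * x) → ∀ x ∈ X, ∃ a b, x = C.pp a b ∨ x = C.pp a b * t := by
    intro X hX hpX htX hXt x hx
    have hP1 : ∀ w ∈ C.P1, (w : G) ∈ X := by
      intro w hw
      obtain ⟨a, b, h⟩ := C.exists_pp hw
      rw [h]; exact hpX a b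
    obtain ⟨w, hw, hwx⟩ := exists_mem_sylow C.R C.S.std.1 C.hm C.hF C.map_P1 hX
      (fun g hg => hNA g (hXt g hg)) hP1 hx
    have h1 : (w : G)⁻¹ * x ∈ X := mul_mem (inv_mem (hP1 w hw)) hx
    obtain ⟨n, hn⟩ := hX ⟨_, h1⟩
    obtain ⟨a, b, hab⟩ := C.exists_pp hw
    rcases C.eq_of_two hR hwx (congrArg Subtype.val hn) (hXt _ h1) with h | h
    · refine ⟨a, b, Or.inl ?_⟩
      rw [← hab]; exact (inv_mul_eq_one.mp h).symm
    · refine ⟨a, b, Or.inr ?_⟩
      rw [← hab, ← h, mul_inv_cancel_left]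
  have hodd : Odd (Nat.card (C.DD Y hYA)) := by
    rw [← Nat.not_even_iff_odd, even_iff_two_dvd]
    intro h2
    have : Fact (Nat.Prime 2) := ⟨Nat.prime_two⟩
    obtain ⟨⟨x, hx⟩, hx2⟩ := exists_prime_orderOf_dvd_card' 2 h2
    rw [Subgroup.orderOf_mk] at hx2
    have hxx : x * x = 1 := by
      have := pow_orderOf_eq_one x
      rwa [hx2, pow_two] at this
    obtain ⟨y, hy, a, ⟨k, hk⟩, rfl⟩ := (C.mem_DD hYA).mp hx
    have hya : y * a = a * y := C.comm_K (hYA hy) a.2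
    have h3 : (y * y) * ((a * a : A) : G) = 1 := by
      rw [coe_mul, ← hxx]
      calc y * y * (a * a) = y * (y * a) * a := by group
        _ = y * (a * y) * a := by rw [hya]
        _ = y * a * (y * a) := by group
    -- `a * a` is central, so `d k ^ 2 = 1`
    have h4 : (a * a : A) ∈ center A := by
      have h5 : ((a * a : A) : G) ∈ centralizer (A : Set G) := by
        have : ((a * a : A) : G) = (y * y)⁻¹ := (inv_eq_of_mul_eq_one_right h3).symm
        rw [this]; exact hYA (inv_mem (mul_mem hy hy))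
      exact C.mem_center_of (a * a).2 h5
    have h5 : C.R.d k * C.R.d k = 1 := by
      rw [← hk, ← QuotientGroup.mk_mul, QuotientGroup.eq_one_iff]; exact h4
    have h6 : C.R.d k = 1 := by
      have hD : Odd (Nat.card C.R.D) := C.R.odd_D C.hF
      apply eq_one_of_two_odd (k := 1) (by rw [pow_one, pow_two]; exact h5) hD
      exact Subgroup.orderOf_dvd_natCard _ (C.R.d_mem k)
    have h7 : a ∈ center A := by
      rw [← QuotientGroup.eq_one_iff, hk, h6]
    have h8 : (a : G) ∈ Y := by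
      apply hYm
      · rw [mem_centralizer_iff]
        intro g hg
        exact congrArg Subtype.val (mem_center_iff.mp h7 ⟨g, hg⟩)
      · exact (htA a a.2).symm
      · apply Odd.of_dvd_nat C.hZ
        rw [Subgroup.orderOf_coe]
        exact Subgroup.orderOf_dvd_natCard _ h7
    have h9 : orderOf (y * (a : G)) ∣ Nat.card Y := Subgroup.orderOf_dvd_natCard _ (mul_mem hy h8)
    rw [hx2] at h9
    have := Odd.of_dvd_nat hYo h9
    exact absurd this (by decide)
  let E : Env.Env G F m :=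
    { hm := C.hm
      hF := C.hF
      p := C.pp
      p_mul := C.pp_mul
      p_inj := fun a b c d h => C.pp_inj h
      t := t
      t_sq := C.tt
      t_p := fun a b => htA _ (C.pp_mem a b)
      t_not := by
        intro a b h
        apply C.t_ne
        have h1 := C.pp_mem a b
        rw [h] at h1
        exact C.eq_one_of_mem h1 C.htA (k := 1) (by rw [pow_one, pow_two]; exact C.tt)
      D := C.DD Y hYA
      D_odd := hodd
      D_t := by
        intro g hg
        obtain ⟨y, hy, a, -, rfl⟩ := (C.mem_DD hYA).mp hg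
        rw [mul_assoc, ← htA a a.2, ← mul_assoc, hYt y hy, mul_assoc]
      D_act := by
        intro g hg
        obtain ⟨y, hy, a, ⟨k, hk⟩, rfl⟩ := (C.mem_DD hYA).mp hg
        exact ⟨C.lam k, C.acts_of_mem hYA hy hk⟩
      D_surj := by
        intro l
        obtain ⟨k, hk⟩ := C.R.exists_sq_div l
        obtain ⟨a, ha⟩ := QuotientGroup.mk_surjective (C.R.d k)
        refine ⟨1 * a, (C.mem_DD hYA).mpr ⟨1, one_mem _, a, ⟨k, ha⟩, rfl⟩, ?_⟩
        have h := C.acts_of_mem hYA (one_mem Y) ha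
        have hl : C.lam k = l := Units.ext hk
        rwa [hl] at h
      T_max := hmaxT
      odd_mem := by
        intro y ho hyt hyp
        rw [C.mem_DD hYA]
        refine ⟨y, hYm y ?_ hyt ho, 1, ⟨1, ?_⟩, by simp⟩
        · refine mem_centralizer_of_odd C.R C.S.std.1.1 C.hm C.hF (hNA y hyt) ho ?_
          rintro j ⟨a, b, rfl⟩
          refine ⟨C.q a b, C.q_mk a b, ?_⟩
          obtain ⟨c, d, h⟩ := C.exists_pp (C.q_mem a b)
          rw [h]; exact hyp c d
        · rw [QuotientGroup.mk_one, C.R.d_one] }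
  have hTT : ∀ x, x ∈ E.T ↔ x ∈ C.T0 hR := by
    intro x
    constructor
    · rintro ⟨a, b, h | h⟩
      · rw [h]; exact C.P1_le_T0 hR (C.q_mem _ _)
      · rw [h]; exact mul_mem (C.P1_le_T0 hR (C.q_mem _ _)) (C.R0_le_T0 hR hR.mem)
    · rintro ⟨r, hr, w, hw, rfl⟩
      obtain ⟨a, b, hab⟩ := C.exists_pp hw
      rcases C.R0_eq hR hr with rfl | rfl
      · rw [one_mul]; exact ⟨a, b, Or.inl hab⟩
      · refine ⟨a, b, Or.inr ?_⟩
        rw [htA w w.2, hab]
  have hTe : E.T = C.T0 hR := Subgroup.ext hTT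
  refine ⟨E, rfl, rfl, ?_, hNA, ?_⟩
  · obtain ⟨g, hg, hne⟩ := C.exists_not_comm hR
    rw [hTe]
    refine ⟨g, hg, ?_⟩
    intro h
    apply hne
    show g * E.t = E.t * g
    rwa [mul_inv_eq_iff_eq_mul] at h
  · intro g hgt hgz
    have hgA := hNA g hgt
    have key : ∀ g, g ∈ normalizer (A : Set G) → g * t = t * g →
        (∀ b, g * C.pp 0 b = C.pp 0 b * g) → ∀ x ∈ E.T, g * x * g⁻¹ ∈ E.T := by
      intro g hgA hgt hgz x hx
      have hP : ∀ w ∈ C.P1, ∃ a b, g * w * g⁻¹ = C.pp a b := by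
        intro w hw
        have h1 := conj_mem_of_comm C.R C.hm C.hF ⟨g, hgA⟩ (C.q 0 1) (C.q_mk 0 1) (by
          have := hgz 1
          unfold Ctx.pp at this
          rwa [zero_mul, add_zero] at this) w (by
          obtain ⟨a, b, rfl⟩ := C.q_surj w hw
          rw [C.q_mk]; exact C.R.u_mem a b)
        obtain ⟨a, b, hab⟩ := h1
        obtain ⟨n, hn⟩ := C.P1_pow hw
        have h2 := C.q_uniq (A.normalizerMonoidHom ⟨g, hgA⟩ w) ⟨n, by
          rw [← map_pow, hn, map_one]⟩ a b hab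
        obtain ⟨c, d, hcd⟩ := C.exists_pp (C.q_mem a b)
        refine ⟨c, d, ?_⟩
        rw [← hcd, ← h2]; rfl
      obtain ⟨a, b, h | h⟩ := hx
      · obtain ⟨c, d, h'⟩ := hP _ (C.q_mem a (b + a * C.R.θ a))
        exact ⟨c, d, Or.inl (by rw [h]; exact h')⟩
      · obtain ⟨c, d, h'⟩ := hP _ (C.q_mem a (b + a * C.R.θ a))
        refine ⟨c, d, Or.inr ?_⟩
        have h1 : g * x * g⁻¹ = (g * (C.q a (b + a * C.R.θ a) : A) * g⁻¹) * (g * t * g⁻¹) := by
          rw [h]
          show g * ((C.q a (b + a * C.R.θ a) : A) * t) * g⁻¹ = _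
          group
        rw [h1, h', hgt, mul_inv_cancel_right]
    rw [mem_normalizer_iff]
    intro x
    refine ⟨key g hgA hgt hgz x, fun h => ?_⟩
    have hgt' : g⁻¹ * t = t * g⁻¹ := by
      rw [inv_mul_eq_iff_eq_mul, ← mul_assoc, hgt, mul_inv_cancel_right]
    have hgz' : ∀ b, g⁻¹ * C.pp 0 b = C.pp 0 b * g⁻¹ := by
      intro b
      rw [inv_mul_eq_iff_eq_mul, ← mul_assoc]
      have := hgz b
      show C.pp 0 b = g * C.pp 0 b * g⁻¹
      rw [show g * C.pp 0 b = C.pp 0 b * g from this, mul_inv_cancel_right]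
    have := key g⁻¹ (inv_mem hgA) hgt' hgz' _ h
    rw [inv_inv] at this
    have e : g⁻¹ * (g * x * g⁻¹) * g = x := by group
    rwa [e] at this

/-- existence of the context. -/
theorem exists_ctx {A : Subgroup G} {t : G} {F : Type*} [Field F] [Fintype F] {m : ℕ}
    (S : Reduce.Simple A) (ht : orderOf t = 2) (htA : t ∈ centralizer (A : Set G)) (hm : 1 ≤ m)
    (hF : Fintype.card F = 2 ^ (2 * m + 1))
    (hX : Nonempty (↥A ⧸ Subgroup.center ↥A ≃* ↥(Cfsg.Lie.Sz F (2 ^ (m + 1)))))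
    (hZ : Odd (Nat.card (center A)))
    (hcyc : ∀ P : Sylow 2 ↥(centralizer (A : Set G)),
      IsCyclic ↥(P : Subgroup ↥(centralizer (A : Set G)))) :
    Nonempty (Ctx A t F m) := by
  obtain ⟨f⟩ := hX
  let R : SzRel.Rel (A ⧸ center A) F :=
    (SzRel.ofGood (Cfsg.Agent.LieRecognition.SzMatrix.good hF)).map f.symm
  obtain ⟨P1, q, h1, h2, h3, h4⟩ := exists_lift R hZ hm hF
  exact ⟨{ S := S, ht := ht, htA := htA, hm := hm, hF := hF, R := R,
           θ_eq := fun x => ((Cfsg.Agent.LieRecognition.SzMatrix.good hF).pow x).symm,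
           hZ := hZ, cyc := hcyc, P1 := P1, P1_two := P1.isPGroup', q := q, q_mem := h1,
           q_surj := h2, q_mk := h3, q_uniq := h4 }⟩

end Cfsg.Agent.StdSz.FromStd
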