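import Mathlib

/-!
# A 2-central configuration that does not exist

`T` is a Sylow 2-subgroup of `C_G(t)`, all involutions of `T` lie in the elementary abelian group
`E ≤ T`, on which `T` acts by transvections with centre `t`; `t` is conjugate to another element
of `C_G(t)`.  Then some transvection with another centre fixes `t`: contradiction.
-/

set_option autoImplicit false

namespace Cfsg.Agent.StdSz.CoverB

open scoped commutatorElement

variable {G : Type*} [Group G] [Finite G]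

/-- Sylow's theorem inside the subgroup `C`. -/
theorem exists_conj_le (C T X : Subgroup G) (hT : IsPGroup 2 T) (hTC : T ≤ C)
    (hmax : ∀ Y : Subgroup G, IsPGroup 2 Y → T ≤ Y → Y ≤ C → Y ≤ T)
    (hX : IsPGroup 2 X) (hXC : X ≤ C) : ∃ c ∈ C, ∀ x ∈ X, c * x * c⁻¹ ∈ T := by
  haveI : Fact (Nat.Prime 2) := ⟨Nat.prime_two⟩
  have hT' : IsPGroup 2 (T.subgroupOf C) := hT.comap_subtype
  have hX' : IsPGroup 2 (X.subgroupOf C) := hX.comap_subtype
  obtain ⟨S1, hS1⟩ := hT'.exists_le_sylow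
  obtain ⟨S2, hS2⟩ := hX'.exists_le_sylow
  obtain ⟨c, hc⟩ := MulAction.exists_smul_eq C S2 S1
  refine ⟨c, c.2, fun x hx => ?_⟩
  have h1 : (⟨x, hXC hx⟩ : C) ∈ (S2 : Subgroup C) := hS2 (Subgroup.mem_subgroupOf.mpr hx)
  have h2 : c * ⟨x, hXC hx⟩ * c⁻¹ ∈ (S1 : Subgroup C) := by
    rw [← hc, Sylow.coe_subgroup_smul]
    exact Subgroup.smul_mem_pointwise_smul _ (MulAut.conj c) _ h1
  have h3 : (S1 : Subgroup C).map C.subtype ≤ T := by
    apply hmax
    · exact S1.isPGroup'.map _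
    · intro y hy
      exact ⟨⟨y, hTC hy⟩, hS1 (Subgroup.mem_subgroupOf.mpr hy), rfl⟩
    · rintro _ ⟨y, -, rfl⟩
      exact y.2
  exact h3 ⟨_, h2, rfl⟩

theorem isPGroup_zpowers {x : G} {k : ℕ} (h : x ^ 2 ^ k = 1) :
    IsPGroup 2 (Subgroup.zpowers x) := by
  rintro ⟨y, j, rfl⟩
  refine ⟨k, ?_⟩
  apply Subtype.ext
  show (x ^ j) ^ 2 ^ k = 1
  rw [← zpow_natCast, zpow_comm, zpow_natCast, h, one_zpow]

theorem false_of_config (t : G) (T E : Subgroup G) (ht1 : t ≠ 1) (T2 : IsPGroup 2 T)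
    (Tt : ∀ x ∈ T, x * t = t * x)
    (Tmax : ∀ X : Subgroup G, IsPGroup 2 X → T ≤ X → (∀ x ∈ X, x * t = t * x) → X ≤ T)
    (htE : t ∈ E) (ET : E ≤ T) (Einv : ∀ x ∈ T, x * x = 1 → x ∈ E) (Esq : ∀ x ∈ E, x * x = 1)
    (TE : ∀ u ∈ T, ∀ x ∈ E, ⁅u, x⁆ = 1 ∨ ⁅u, x⁆ = t)
    (hx : ∀ t' ∈ E, t' ≠ t → t' ≠ 1 → ∃ x ∈ T, x * t' = t' * x ∧ ∃ e ∈ E, ⁅x, e⁆ = t)
    (hfus : ∃ g : G, g * t * g⁻¹ ≠ t ∧ (g * t * g⁻¹) * t = t * (g * t * g⁻¹)) : False := by
  classical
  set C : Subgroup G := Subgroup.centralizer {t} with hC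
  have memC : ∀ x : G, x ∈ C ↔ x * t = t * x := by
    intro x
    rw [hC, Subgroup.mem_centralizer_singleton_iff]
  have hTC : T ≤ C := fun x hx => (memC x).mpr (Tt x hx)
  have hmax : ∀ Y : Subgroup G, IsPGroup 2 Y → T ≤ Y → Y ≤ C → Y ≤ T :=
    fun Y hY hTY hYC => Tmax Y hY hTY (fun x hx => (memC x).mp (hYC hx))
  have Ecomm : ∀ x ∈ E, ∀ y ∈ E, x * y = y * x := by
    intro x hx y hy
    have h1 : ∀ z ∈ E, z⁻¹ = z := fun z hz => inv_eq_of_mul_eq_one_right (Esq z hz)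
    have h2 := h1 _ (E.mul_mem hx hy)
    rw [mul_inv_rev, h1 x hx, h1 y hy] at h2
    exact h2.symm
  have hE2 : IsPGroup 2 E := T2.to_le ET
  -- a conjugate of `t` in `E`
  obtain ⟨g0, hg1, hg2⟩ := hfus
  obtain ⟨c0, hc0, hc0'⟩ := exists_conj_le C T (Subgroup.zpowers (g0 * t * g0⁻¹)) T2 hTC hmax
    (isPGroup_zpowers (k := 1) (by
      rw [pow_one, sq]
      have := Esq t htE
      calc g0 * t * g0⁻¹ * (g0 * t * g0⁻¹) = g0 * (t * t) * g0⁻¹ := by group
        _ = 1 := by rw [this]; group))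
    (by
      rw [Subgroup.zpowers_le]
      exact (memC _).mpr hg2)
  set g := c0 * g0 with hg
  set s := g * t * g⁻¹ with hs
  have hs' : s = c0 * (g0 * t * g0⁻¹) * c0⁻¹ := by rw [hs, hg]; group
  have hsT : s ∈ T := by
    rw [hs']
    exact hc0' _ (Subgroup.mem_zpowers _)
  have hss : s * s = 1 := by
    have := Esq t htE
    calc s * s = g * (t * t) * g⁻¹ := by rw [hs]; group
      _ = 1 := by rw [this]; group
  have hsE : s ∈ E := Einv s hsT hss
  have hst : s ≠ t := by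
    intro h
    apply hg1
    have h1 : g0 * t * g0⁻¹ = c0⁻¹ * s * c0 := by rw [hs']; group
    rw [h1, h]
    have := (memC c0).mp hc0
    rw [mul_assoc, ← this, inv_mul_cancel_left]
  -- `n` normalises `E` and maps `t` to `s`
  have hEg : IsPGroup 2 (E.map (MulAut.conj g⁻¹).toMonoidHom) := hE2.map _
  obtain ⟨c, hc, hc'⟩ := exists_conj_le C T (E.map (MulAut.conj g⁻¹).toMonoidHom) T2 hTC hmax hEg
    (by
      rintro _ ⟨x, hx, rfl⟩
      rw [memC]
      have h1 := Ecomm x hx s hsE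
      show g⁻¹ * x * (g⁻¹)⁻¹ * t = t * (g⁻¹ * x * (g⁻¹)⁻¹)
      have h2 : g⁻¹ * x * (g⁻¹)⁻¹ * t = g⁻¹ * (x * s) * g := by rw [hs]; group
      rw [h2, h1, hs]
      group)
  set n := g * c⁻¹ with hn
  have hnt : n * t * n⁻¹ = s := by
    have h1 := (memC c).mp hc
    have h2 : c⁻¹ * t * c = t := by rw [mul_assoc, ← h1, inv_mul_cancel_left]
    calc n * t * n⁻¹ = g * (c⁻¹ * t * c) * g⁻¹ := by rw [hn]; group
      _ = s := by rw [h2]
  have hnE : ∀ x ∈ E, n⁻¹ * x * n ∈ E := by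
    intro x hx
    have h1 : n⁻¹ * x * n = c * (g⁻¹ * x * (g⁻¹)⁻¹) * c⁻¹ := by rw [hn]; group
    apply Einv
    · rw [h1]
      exact hc' _ ⟨x, hx, rfl⟩
    · calc n⁻¹ * x * n * (n⁻¹ * x * n) = n⁻¹ * (x * x) * n := by group
        _ = 1 := by rw [Esq x hx]; group
  -- both directions
  have hnE' : ∀ x ∈ E, n * x * n⁻¹ ∈ E := by
    have h1 : E.map (MulAut.conj n⁻¹).toMonoidHom = E := by
      apply Subgroup.eq_of_le_of_card_ge
      · rintro _ ⟨x, hx, rfl⟩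
        have := hnE x hx
        show n⁻¹ * x * (n⁻¹)⁻¹ ∈ E
        rwa [inv_inv]
      · rw [Subgroup.card_map_of_injective (MulAut.conj n⁻¹).injective]
    intro x hx
    rw [← h1] at hx
    obtain ⟨y, hy, hyx⟩ := hx
    have : x = n⁻¹ * y * (n⁻¹)⁻¹ := hyx.symm
    have h2 : n * x * n⁻¹ = y := by rw [this]; group
    rw [h2]; exact hy
  -- the key property of 2-elements of `C(t) ∩ N(E)`
  set N : Subgroup G := Subgroup.normalizer (E : Set G) with hN
  have memN : ∀ x : G, x ∈ N → ∀ e ∈ E, x * e * x⁻¹ ∈ E := fun x hx e he =>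
    (Subgroup.mem_normalizer_iff.mp hx e).mp he
  have hTN : T ≤ N := by
    intro u hu
    have h1 : ∀ u ∈ T, ∀ e ∈ E, u * e * u⁻¹ ∈ E := by
      intro u hu e he
      rcases TE u hu e he with h | h
      · rw [commutatorElement_eq_one_iff_mul_comm] at h
        rw [h, mul_inv_cancel_right]; exact he
      · have : u * e * u⁻¹ = ⁅u, e⁆ * e := by rw [commutatorElement_def]; group
        rw [this, h]; exact E.mul_mem htE he
    rw [hN, Subgroup.mem_normalizer_iff]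
    intro e
    refine ⟨h1 u hu e, fun h => ?_⟩
    have := h1 u⁻¹ (T.inv_mem hu) _ h
    have h2 : u⁻¹ * (u * e * u⁻¹) * (u⁻¹)⁻¹ = e := by group
    rwa [h2] at this
  have key : ∀ y : G, (∃ k : ℕ, y ^ 2 ^ k = 1) → y ∈ C → y ∈ N → ∀ e ∈ E,
      ⁅y, e⁆ = 1 ∨ ⁅y, e⁆ = t := by
    rintro y ⟨k, hk⟩ hyC hyN e he
    obtain ⟨d, hd, hd'⟩ := exists_conj_le (C ⊓ N) T (Subgroup.zpowers y) T2 (le_inf hTC hTN)
      (fun Y hY hTY hYC => hmax Y hY hTY (hYC.trans inf_le_left)) (isPGroup_zpowers hk)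
      (by rw [Subgroup.zpowers_le]; exact ⟨hyC, hyN⟩)
    have hdy := hd' y (Subgroup.mem_zpowers y)
    have hdt : d * t * d⁻¹ = t := by
      rw [(memC d).mp hd.1, mul_inv_cancel_right]
    have h1 : d * ⁅y, e⁆ * d⁻¹ = ⁅d * y * d⁻¹, d * e * d⁻¹⁆ := by
      simp only [commutatorElement_def]; group
    rcases TE _ hdy _ (memN d hd.2 e he) with h | h
    · left
      rw [← h1] at h
      calc ⁅y, e⁆ = d⁻¹ * (d * ⁅y, e⁆ * d⁻¹) * d := by group
        _ = 1 := by rw [h]; group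
    · right
      rw [← h1] at h
      calc ⁅y, e⁆ = d⁻¹ * (d * ⁅y, e⁆ * d⁻¹) * d := by group
        _ = d⁻¹ * (d * t * d⁻¹) * d := by rw [h, hdt]
        _ = t := by group
  -- the final contradiction
  have ht'E : n⁻¹ * t * n ∈ E := hnE t htE
  have ht'1 : n⁻¹ * t * n ≠ 1 := by
    intro h
    apply ht1
    calc t = n * (n⁻¹ * t * n) * n⁻¹ := by group
      _ = 1 := by rw [h]; group
  have ht't : n⁻¹ * t * n ≠ t := by
    intro h
    apply hst
    rw [← hnt]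
    calc n * t * n⁻¹ = n * (n⁻¹ * t * n) * n⁻¹ := by rw [h]
      _ = t := by group
  obtain ⟨x, hxT, hxt', e, heE, hxe⟩ := hx _ ht'E ht't ht'1
  have hnN : n ∈ N := by
    rw [hN, Subgroup.mem_normalizer_iff]
    intro e
    refine ⟨hnE' e, fun h => ?_⟩
    have := hnE _ h
    have h2 : n⁻¹ * (n * e * n⁻¹) * n = e := by group
    rwa [h2] at this
  obtain ⟨k, hk⟩ := T2 ⟨x, hxT⟩
  have hk' : x ^ 2 ^ k = 1 := congrArg Subtype.val hk
  have hy := key (n * x * n⁻¹) ⟨k, by rw [conj_pow, hk', mul_one, mul_inv_cancel]⟩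
    ((memC _).mpr (by
      calc n * x * n⁻¹ * t = n * (x * (n⁻¹ * t * n)) * n⁻¹ := by group
        _ = n * ((n⁻¹ * t * n) * x) * n⁻¹ := by rw [hxt']
        _ = t * (n * x * n⁻¹) := by group))
    (N.mul_mem (N.mul_mem hnN (hTN hxT)) (N.inv_mem hnN)) (n * e * n⁻¹) (hnE' e heE)
  have h5 : ⁅n * x * n⁻¹, n * e * n⁻¹⁆ = s := by
    rw [← hnt, ← hxe]
    simp only [commutatorElement_def]; group
  rw [h5] at hy
  rcases hy with h | h
  · apply ht1
    have : t = n⁻¹ * s * n := by rw [← hnt]; group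
    rw [this, h]; group
  · exact hst h

end Cfsg.Agent.StdSz.CoverB
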