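import Cfsg.Agent.StdSz.CoverA
import Cfsg.Agent.StdSz.CoverB
import Cfsg.Agent.StdSz.Env
import Cfsg.Agent.StdSz.Reduce
import Cfsg.Agent.ThreePrime.SzDataExists
import Cfsg.Agent.StandardComponent.AltFinal

/-!
# The centre of a standard subgroup of type `Sz(q)` has odd order

(if its centralizer has cyclic Sylow 2-subgroups and it is not normal).
-/

set_option autoImplicit false
set_option linter.unusedSectionVars false
set_option linter.style.haveILetI false
set_option linter.unusedVariables false

namespace Cfsg.Agent.StdSz.CoverC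

open scoped commutatorElement
open Cfsg.Agent.StdSz.FormAlg Cfsg.Agent.StdSz.BorelCoord Cfsg.Agent.StdSz.CoverA
open Cfsg.Agent.LieRecognition

section General

variable {A : Type*} [Group A]

/-- the automorphism induced on `A / Z(A)`. -/
def ind (α : MulAut A) : MulAut (A ⧸ Subgroup.center A) :=
  QuotientGroup.congr (Subgroup.center A) (Subgroup.center A) α
    (Subgroup.characteristic_iff_map_eq.mp inferInstance α)

theorem ind_mk (α : MulAut A) (x : A) :
    ind α (QuotientGroup.mk' (Subgroup.center A) x) = QuotientGroup.mk' (Subgroup.center A) (α x) :=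
  rfl

theorem ind_pow_mk (α : MulAut A) (n : ℕ) (x : A) :
    (ind α ^ n) (QuotientGroup.mk' (Subgroup.center A) x) =
      QuotientGroup.mk' (Subgroup.center A) ((α ^ n) x) := by
  induction n with
  | zero => simp
  | succ n ih => rw [pow_succ', MulAut.mul_apply, ih, ind_mk, pow_succ', MulAut.mul_apply]

theorem ind_pow_eq_one (α : MulAut A) (n : ℕ) (h : α ^ n = 1) : ind α ^ n = 1 := by
  ext x
  obtain ⟨x, rfl⟩ := QuotientGroup.mk'_surjective (Subgroup.center A) x
  rw [ind_pow_mk, h]
  rfl

/-- an automorphism of a perfect group which is trivial modulo the centre is trivial. -/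
theorem eq_of_mod_center (hp : commutator A = ⊤) (β : MulAut A)
    (h : ∀ x, β x * x⁻¹ ∈ Subgroup.center A) (x : A) : β x = x := by
  let f : A →* Subgroup.center A :=
    { toFun := fun x => ⟨β x * x⁻¹, h x⟩
      map_one' := by
        apply Subtype.ext
        simp
      map_mul' := by
        intro x y
        apply Subtype.ext
        show β (x * y) * (x * y)⁻¹ = β x * x⁻¹ * (β y * y⁻¹)
        have h1 := (Subgroup.mem_center_iff.mp (h y)) x⁻¹
        calc β (x * y) * (x * y)⁻¹ = β x * ((β y * y⁻¹) * x⁻¹) := by rw [map_mul]; group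
          _ = β x * (x⁻¹ * (β y * y⁻¹)) := by rw [← h1]
          _ = _ := by group }
  have h1 : commutator A ≤ f.ker := by
    rw [commutator_def, Subgroup.commutator_le]
    intro a _ b _
    rw [MonoidHom.mem_ker, map_commutatorElement, commutatorElement_eq_one_iff_mul_comm]
    exact Subtype.ext (Subgroup.mem_center_iff.mp (f b).2 (f a : A))
  rw [hp] at h1
  have h2 : f x = 1 := h1 (Subgroup.mem_top x)
  have h3 : β x * x⁻¹ = 1 := congrArg Subtype.val h2
  exact mul_inv_eq_one.mp h3

/-- in a group with cyclic Sylow 2-subgroups, a central `z` with `z² = 1` is `1` or the given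
involution. -/
theorem eq_of_cyclic_sylow {K : Type*} [Group K] [Finite K]
    (hR : ∀ R : Sylow 2 K, IsCyclic ↥(R : Subgroup K)) (t z : K) (ht : t * t = 1) (ht1 : t ≠ 1)
    (hz : ∀ x, z * x = x * z) (hz2 : z * z = 1) : z = 1 ∨ z = t := by
  classical
  by_contra hcon
  push Not at hcon
  have hH : IsPGroup 2 (Subgroup.closure {t, z}) := by
    have h1 : ∀ x ∈ Subgroup.closure {t, z}, x * x = 1 ∧ (x = 1 ∨ x = t ∨ x = z ∨ x = t * z) := by
      intro x hx
      have h2 : x = 1 ∨ x = t ∨ x = z ∨ x = t * z := by
        induction hx using Subgroup.closure_induction with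
        | mem x hx =>
          rcases hx with rfl | rfl
          · exact Or.inr (Or.inl rfl)
          · exact Or.inr (Or.inr (Or.inl rfl))
        | one => exact Or.inl rfl
        | mul x y _ _ hx hy =>
          have e1 := hz t
          rcases hx with rfl | rfl | rfl | rfl <;> rcases hy with rfl | rfl | rfl | rfl
          · simp
          · simp
          · simp
          · simp
          · simp
          · simp [ht]
          · simp
          · right; right; left; rw [← mul_assoc, ht, one_mul]
          · simp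
          · right; right; right; rw [e1]
          · simp [hz2]
          · right; left; rw [← mul_assoc, e1, mul_assoc, hz2, mul_one]
          · simp
          · right; right; left; rw [mul_assoc, e1, ← mul_assoc, ht, one_mul]
          · right; left; rw [mul_assoc, hz2, mul_one]
          · left
            calc t * z * (t * z) = t * (z * t) * z := by group
              _ = (t * t) * (z * z) := by rw [e1]; group
              _ = 1 := by rw [ht, hz2, one_mul]
        | inv x _ hx =>
          have e1 := hz t
          have i1 : t⁻¹ = t := inv_eq_of_mul_eq_one_right ht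
          have i2 : z⁻¹ = z := inv_eq_of_mul_eq_one_right hz2
          rcases hx with rfl | rfl | rfl | rfl
          · simp
          · right; left; exact i1
          · right; right; left; exact i2
          · right; right; right; rw [mul_inv_rev, i1, i2, e1]
      refine ⟨?_, h2⟩
      rcases h2 with rfl | rfl | rfl | rfl
      · simp
      · exact ht
      · exact hz2
      · calc t * z * (t * z) = t * (z * t) * z := by group
          _ = (t * t) * (z * z) := by rw [hz t]; group
          _ = 1 := by rw [ht, hz2, one_mul]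
    rintro ⟨x, hx⟩
    refine ⟨1, Subtype.ext ?_⟩
    show x ^ 2 ^ 1 = 1
    rw [pow_one, sq]
    exact (h1 x hx).1
  obtain ⟨R, hRle⟩ := hH.exists_le_sylow
  haveI := hR R
  haveI : Fintype ↥(R : Subgroup K) := Fintype.ofFinite _
  have hc := IsCyclic.card_pow_eq_one_le (α := ↥(R : Subgroup K)) (n := 2) (by norm_num)
  have htR : t ∈ (R : Subgroup K) := hRle (Subgroup.subset_closure (by simp))
  have hzR : z ∈ (R : Subgroup K) := hRle (Subgroup.subset_closure (by simp))
  have hsub : ({1, ⟨t, htR⟩, ⟨z, hzR⟩} : Finset ↥(R : Subgroup K)) ⊆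
      Finset.univ.filter (fun a => a ^ 2 = 1) := by
    intro a ha
    simp only [Finset.mem_insert, Finset.mem_singleton] at ha
    simp only [Finset.mem_filter, Finset.mem_univ, true_and]
    rcases ha with rfl | rfl | rfl
    · simp
    · exact Subtype.ext (by show t ^ 2 = 1; rw [sq, ht])
    · exact Subtype.ext (by show z ^ 2 = 1; rw [sq, hz2])
  have h3 : ({1, ⟨t, htR⟩, ⟨z, hzR⟩} : Finset ↥(R : Subgroup K)).card = 3 := by
    rw [Finset.card_insert_of_notMem, Finset.card_insert_of_notMem, Finset.card_singleton]
    · simp only [Finset.mem_singleton]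
      intro h
      exact hcon.2 (congrArg Subtype.val h).symm
    · simp only [Finset.mem_insert, Finset.mem_singleton, not_or]
      exact ⟨fun h => ht1 (congrArg Subtype.val h).symm, fun h => hcon.1 (congrArg Subtype.val h).symm⟩
  have := Finset.card_le_card hsub
  omega

end General

section Lift

variable {A : Type*} [Group A] [Finite A] {S : Type*} [Group S]

/-- the 2-elements over a 2-subgroup `U` form a subgroup, if the kernel is central. -/
theorem exists_sylow_over (π : A →* S) (hsurj : Function.Surjective π)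
    (hcen : ∀ x, π x = 1 → ∀ y, x * y = y * x) (U : Subgroup S) (hU : IsPGroup 2 U)
    (hodd : Odd U.index) :
    ∃ P : Subgroup A, IsPGroup 2 P ∧ Odd P.index ∧
      (∀ x, x ∈ P ↔ π x ∈ U ∧ ∃ k : ℕ, x ^ 2 ^ k = 1) ∧ ∀ u ∈ U, ∃ x ∈ P, π x = u := by
  classical
  haveI : Fact (Nat.Prime 2) := ⟨Nat.prime_two⟩
  set N : Subgroup A := U.comap π with hN
  let f : N →* U := (π.subgroupComap U)
  have hf : ∀ x : N, ((f x : U) : S) = π x := fun x => rfl
  have hker : f.ker ≤ Subgroup.center N := by
    intro x hx
    rw [Subgroup.mem_center_iff]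
    intro y
    have h1 : π x = 1 := by
      have := congrArg Subtype.val (MonoidHom.mem_ker.mp hx)
      rw [hf] at this
      exact this
    exact Subtype.ext (hcen x h1 y).symm
  haveI : Finite S := Finite.of_surjective π hsurj
  haveI : Group.IsNilpotent U := hU.isNilpotent
  haveI hnil : Group.IsNilpotent N := Subgroup.isNilpotent_of_ker_le_center f hker
  let P1 : Sylow 2 N := default
  have hnorm : (P1 : Subgroup N).Normal := by
    have := (Group.isNilpotent_of_finite_tfae (G := N)).out 0 3
    exact (this.mp hnil) 2 ⟨Nat.prime_two⟩ P1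
  have huniq : ∀ Q : Sylow 2 N, Q = P1 := by
    intro Q
    haveI := Sylow.unique_of_normal P1 hnorm
    exact Subsingleton.elim _ _
  have hmem : ∀ x : N, x ∈ (P1 : Subgroup N) ↔ ∃ k : ℕ, x ^ 2 ^ k = 1 := by
    intro x
    constructor
    · intro hx
      obtain ⟨k, hk⟩ := P1.isPGroup' ⟨x, hx⟩
      exact ⟨k, congrArg Subtype.val hk⟩
    · rintro ⟨k, hk⟩
      obtain ⟨Q, hQ⟩ := (CoverB.isPGroup_zpowers hk).exists_le_sylow
      rw [huniq Q] at hQ
      exact hQ (Subgroup.mem_zpowers x)
  have hchar : ∀ x, x ∈ (P1 : Subgroup N).map N.subtype ↔ π x ∈ U ∧ ∃ k : ℕ, x ^ 2 ^ k = 1 := by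
    intro x
    constructor
    · rintro ⟨y, hy, rfl⟩
      obtain ⟨k, hk⟩ := (hmem y).mp hy
      exact ⟨y.2, k, by
        have := congrArg Subtype.val hk
        simpa using this⟩
    · rintro ⟨h1, k, hk⟩
      exact ⟨⟨x, h1⟩, (hmem _).mpr ⟨k, Subtype.ext hk⟩, rfl⟩
  refine ⟨(P1 : Subgroup N).map N.subtype, P1.isPGroup'.map _, ?_, hchar, ?_⟩
  · have hidx : N.index = U.index := by
      rw [hN]; exact Subgroup.index_comap_of_surjective _ hsurj
    rw [Subgroup.index_map_subtype]
    refine Odd.mul ?_ (hidx ▸ hodd)
    rw [← Nat.not_even_iff_odd, even_iff_two_dvd]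
    exact P1.not_dvd_index
  · intro u hu
    obtain ⟨x, hx⟩ := hsurj u
    obtain ⟨i, j, hij, hi, k, hk⟩ := Env.exists_decomp x
    refine ⟨x ^ j, (hchar _).mpr ⟨by rw [map_pow, hx]; exact U.pow_mem hu j, k, hk⟩, ?_⟩
    have h1 : π (x ^ i) ∈ U := by rw [map_pow, hx]; exact U.pow_mem hu i
    have h2 : π (x ^ i) = 1 := by
      obtain ⟨k', hk'⟩ := hU ⟨_, h1⟩
      have hk'' : (π (x ^ i)) ^ 2 ^ k' = 1 := congrArg Subtype.val hk'
      have h3 : orderOf (π (x ^ i)) ∣ 2 ^ k' := orderOf_dvd_of_pow_eq_one hk''
      have h4 : orderOf (π (x ^ i)) ∣ orderOf (x ^ i) := orderOf_map_dvd π _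
      have h5 : Nat.Coprime (2 ^ k') (orderOf (x ^ i)) :=
        Nat.Coprime.pow_left _ (Nat.coprime_two_left.mpr hi)
      exact orderOf_eq_one_iff.mp (Nat.eq_one_of_dvd_coprimes h5 h3 h4)
    calc π (x ^ j) = π (x ^ i) * π (x ^ j) := by rw [h2, one_mul]
      _ = π (x ^ i * x ^ j) := (map_mul _ _ _).symm
      _ = u := by rw [← hij, hx]

end Lift

end Cfsg.Agent.StdSz.CoverC
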