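import Cfsg.Agent.S1225
import Cfsg.Prelude.Def_TwoFusion

/-!
# The end of the tower: strongly closed central subgroup

`L` simple, `X` a Sylow 2-subgroup of `L`, `V` central in `X` with set of squares `Z`, every
square of `X` of order at most 2 lies in `Z`.  Then `Z` is strongly closed in `X`, and Goldschmidt's
theorem on strongly closed abelian subgroups (`S1169`) gives a contradiction if `X` is not
commutative and has an involution outside `Z`.
-/

set_option autoImplicit false
set_option linter.unusedSectionVars false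

namespace Cfsg.Agent.StdSz.EndClosed

open Subgroup
open scoped Pointwise

/-- The statement `S1169` (Goldschmidt's theorem) in a fixed universe. -/
def Gold.{u} : Prop :=
  ∀ {G : Type u} [Group G] [Finite G] [IsSimpleGroup G] (S : Sylow 2 G) (A : Subgroup G)
    (_ : A ≠ ⊥) (_ : IsMulCommutative A) (_ : Cfsg.IsStronglyClosed A (S : Subgroup G)),
    IsMulCommutative (S : Subgroup G) ∨ ∃ H : Subgroup G, Cfsg.IsStronglyEmbedded H

section

variable {L : Type*} [Group L] [Finite L]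

/-- If `y = g z g⁻¹` lies in the Sylow subgroup `X` and `z` is central in `X`, then some `k` with
`k z k⁻¹ = y` conjugates `C_X(y)` into `X`. -/
theorem exists_extremal (X : Sylow 2 L) {z g : L} (hz : ∀ x ∈ X, z * x = x * z) :
    ∃ k : L, k * z * k⁻¹ = g * z * g⁻¹ ∧
      ∀ x ∈ X, x * (g * z * g⁻¹) = (g * z * g⁻¹) * x → k⁻¹ * x * k ∈ X := by
  classical
  have : Fact (Nat.Prime 2) := ⟨Nat.prime_two⟩
  set y := g * z * g⁻¹ with hy
  let C : Subgroup L := centralizer ({y} : Set L)
  have hgX : ((g • X : Sylow 2 L) : Subgroup L) ≤ C := by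
    intro x hx
    have h1 : g⁻¹ * x * g ∈ X := by
      have h2 : x ∈ (MulAut.conj g • (X : Subgroup L)) := hx
      rw [Subgroup.mem_pointwise_smul_iff_inv_smul_mem] at h2
      have h3 : (MulAut.conj g)⁻¹ • x = g⁻¹ * x * g := by
        show (MulAut.conj g)⁻¹ x = _
        rw [← map_inv, MulAut.conj_apply, inv_inv]
      rwa [h3] at h2
    rw [mem_centralizer_singleton_iff]
    have h4 := hz _ h1
    calc x * y = g * ((g⁻¹ * x * g) * z) * g⁻¹ := by rw [hy]; group
      _ = g * (z * (g⁻¹ * x * g)) * g⁻¹ := by rw [h4]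
      _ = y * x := by rw [hy]; group
  let Xg : Sylow 2 C := (g • X : Sylow 2 L).subtype hgX
  have hP : IsPGroup 2 (((X : Subgroup L)).subgroupOf C) := X.isPGroup'.comap_subtype
  obtain ⟨R, hR⟩ := hP.exists_le_sylow
  obtain ⟨c, hc⟩ := MulAction.exists_smul_eq C Xg R
  refine ⟨(c : L) * g, ?_, ?_⟩
  · have h1 := mem_centralizer_singleton_iff.mp c.2
    calc (c : L) * g * z * ((c : L) * g)⁻¹ = (c : L) * y * (c : L)⁻¹ := by rw [hy]; group
      _ = y := by rw [h1]; group
  · intro x hx hxy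
    have hxC : x ∈ C := by rw [mem_centralizer_singleton_iff]; exact hxy
    have h1 : (⟨x, hxC⟩ : C) ∈ (R : Subgroup C) := hR (mem_subgroupOf.mpr hx)
    rw [← hc] at h1
    have h2 : (⟨x, hxC⟩ : C) ∈ (MulAut.conj c • (Xg : Subgroup C)) := h1
    rw [Subgroup.mem_pointwise_smul_iff_inv_smul_mem] at h2
    have h3 : (MulAut.conj c)⁻¹ • (⟨x, hxC⟩ : C) = c⁻¹ * ⟨x, hxC⟩ * c := by
      show (MulAut.conj c)⁻¹ _ = _
      rw [← map_inv, MulAut.conj_apply, inv_inv]
    rw [h3] at h2
    have h4 : (c : L)⁻¹ * x * c ∈ ((g • X : Sylow 2 L) : Subgroup L) := h2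
    have h5 : (c : L)⁻¹ * x * c ∈ (MulAut.conj g • (X : Subgroup L)) := h4
    rw [Subgroup.mem_pointwise_smul_iff_inv_smul_mem] at h5
    have h6 : (MulAut.conj g)⁻¹ • ((c : L)⁻¹ * x * c) = g⁻¹ * ((c : L)⁻¹ * x * c) * g := by
      show (MulAut.conj g)⁻¹ _ = _
      rw [← map_inv, MulAut.conj_apply, inv_inv]
    rw [h6] at h5
    have h7 : ((c : L) * g)⁻¹ * x * ((c : L) * g) = g⁻¹ * ((c : L)⁻¹ * x * c) * g := by group
    rw [h7]; exact h5

variable (X : Sylow 2 L) (Z V : Subgroup L)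

/-- `Z` is strongly closed. -/
theorem stronglyClosed (hZV : Z ≤ V) (hVX : V ≤ (X : Subgroup L))
    (hVc : ∀ v ∈ V, ∀ x ∈ X, v * x = x * v)
    (hsqV : ∀ z ∈ Z, ∃ v ∈ V, v * v = z)
    (hsqX : ∀ x ∈ X, (x * x) * (x * x) = 1 → x * x ∈ Z)
    (hZ2 : ∀ z ∈ Z, z * z = 1) : Cfsg.IsStronglyClosed Z (X : Subgroup L) := by
  refine ⟨hZV.trans hVX, ?_⟩
  intro z hz g hgX
  obtain ⟨k, hk, hkX⟩ := exists_extremal X (z := z) (g := g) (hVc z (hZV hz))
  -- `k⁻¹ Z k ≤ Z`
  have hmap : ∀ z' ∈ Z, k⁻¹ * z' * k ∈ Z := by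
    intro z' hz'
    obtain ⟨v, hv, hvz⟩ := hsqV z' hz'
    have h1 : k⁻¹ * v * k ∈ X := hkX v (hVX hv) (hVc v hv _ hgX)
    have h2 : (k⁻¹ * v * k) * (k⁻¹ * v * k) = k⁻¹ * z' * k := by
      rw [← hvz]; group
    have h3 : ((k⁻¹ * v * k) * (k⁻¹ * v * k)) * ((k⁻¹ * v * k) * (k⁻¹ * v * k)) = 1 := by
      rw [h2]
      calc k⁻¹ * z' * k * (k⁻¹ * z' * k) = k⁻¹ * (z' * z') * k := by group
        _ = 1 := by rw [hZ2 z' hz']; group
    have h4 := hsqX _ h1 h3
    rwa [h2] at h4
  let f : Z → Z := fun x => ⟨k⁻¹ * (x : L) * k, hmap x x.2⟩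
  have hf : Function.Injective f := by
    intro a b hab
    have h1 : k⁻¹ * (a : L) * k = k⁻¹ * (b : L) * k := congrArg Subtype.val hab
    exact Subtype.ext (mul_left_cancel (mul_right_cancel h1))
  have hs : Function.Surjective f := Finite.surjective_of_injective hf
  obtain ⟨z'', hz''⟩ := hs ⟨z, hz⟩
  have h1 : k⁻¹ * (z'' : L) * k = z := congrArg Subtype.val hz''
  rw [← hk, ← h1]
  have h2 : k * (k⁻¹ * (z'' : L) * k) * k⁻¹ = z'' := by group
  rw [h2]
  exact z''.2

end

universe u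

/-- The contradiction at the end of the tower. -/
theorem false_of_closed {L : Type u} [Group L] [Finite L] [IsSimpleGroup L] (gold : Gold.{u})
    (X : Sylow 2 L) (Z V : Subgroup L) (hZV : Z ≤ V) (hVX : V ≤ (X : Subgroup L))
    (hVc : ∀ v ∈ V, ∀ x ∈ X, v * x = x * v)
    (hsqV : ∀ z ∈ Z, ∃ v ∈ V, v * v = z)
    (hsqX : ∀ x ∈ X, (x * x) * (x * x) = 1 → x * x ∈ Z)
    (hZ2 : ∀ z ∈ Z, z * z = 1) (hZne : ∃ z ∈ Z, z ≠ 1)
    (hnc : ¬ IsMulCommutative (X : Subgroup L))
    (hy : ∃ y ∈ X, y ∉ Z ∧ y * y = 1) : False := by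
  have hsc := stronglyClosed X Z V hZV hVX hVc hsqV hsqX hZ2
  obtain ⟨z, hz, hz1⟩ := hZne
  obtain ⟨y, hyX, hyZ, hy2⟩ := hy
  have hy1 : y ≠ 1 := by rintro rfl; exact hyZ (one_mem _)
  have hoz : orderOf z = 2 := orderOf_eq_prime (by rw [pow_two]; exact hZ2 z hz) hz1
  have hoy : orderOf y = 2 := orderOf_eq_prime (by rw [pow_two]; exact hy2) hy1
  have hne : Z ≠ ⊥ := by
    intro h
    rw [h, mem_bot] at hz
    exact hz1 hz
  have hcomm : IsMulCommutative Z := by
    refine ⟨⟨fun a b => Subtype.ext ?_⟩⟩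
    have ha := hZ2 a a.2
    have hb := hZ2 b b.2
    have hab := hZ2 _ (mul_mem a.2 b.2)
    show (a : L) * b = b * a
    have ha' : (a : L)⁻¹ = a := inv_eq_of_mul_eq_one_left ha
    have hb' : (b : L)⁻¹ = b := inv_eq_of_mul_eq_one_left hb
    have h1 : ((a : L) * b)⁻¹ = a * b := inv_eq_of_mul_eq_one_left hab
    rw [mul_inv_rev, ha', hb'] at h1
    exact h1.symm
  rcases gold X Z hne hcomm hsc with h | ⟨H, hH⟩
  · exact hnc h
  · -- all involutions are conjugate
    have hone : ∀ a b : L, orderOf a = 2 → orderOf b = 2 → IsConj a b := by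
      have hfact : Fact (Nat.Prime 2) := ⟨Nat.prime_two⟩
      -- an involution in `H`
      have h2 : 2 ∣ Nat.card H := hH.2.1.two_dvd
      obtain ⟨s, hs⟩ := exists_prime_orderOf_dvd_card' 2 h2
      have hs' : orderOf (s : L) = 2 := by rw [orderOf_coe]; exact hs
      -- an involution outside `H`
      obtain ⟨u, hu, huH⟩ : ∃ u : L, orderOf u = 2 ∧ u ∉ H := by
        by_contra hcon
        push Not at hcon
        -- the normal closure of `s` is `L`, generated by involutions lying in `H`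
        have h3 : normalClosure ({(s : L)} : Set L) ≤ H := by
          rw [normalClosure, closure_le]
          intro x hx
          rw [Group.mem_conjugatesOfSet_iff] at hx
          obtain ⟨a, ha, hax⟩ := hx
          rw [Set.mem_singleton_iff] at ha
          subst ha
          obtain ⟨c, hc⟩ := isConj_iff.mp hax
          apply hcon
          rw [← hc]
          have : orderOf (c * (s : L) * c⁻¹) = orderOf (s : L) := (MulAut.conj c).orderOf_eq (s : L)
          rw [this, hs']
        have h4 : (normalClosure ({(s : L)} : Set L)).Normal := normalClosure_normal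
        rcases h4.eq_bot_or_eq_top with h5 | h5
        · have h6 : (s : L) ∈ normalClosure ({(s : L)} : Set L) :=
            subset_normalClosure (Set.mem_singleton _)
          rw [h5, mem_bot] at h6
          rw [h6, orderOf_one] at hs'
          omega
        · rw [h5] at h3
          exact hH.1 (top_le_iff.mp h3)
      exact (Cfsg.Agent.S1225.result H hH u hu huH s s hs' s.2 hs' s.2).2
    obtain ⟨c, hc⟩ := isConj_iff.mp (hone z y hoz hoy)
    have h1 := hsc.2 z hz c (by rw [hc]; exact hyX)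
    rw [hc] at h1
    exact hyZ h1

end Cfsg.Agent.StdSz.EndClosed
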