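import Cfsg.Agent.StdSz.CoverC

/-!
# The centre of a standard subgroup of type `Sz(q)` has odd order: assembly
-/

set_option autoImplicit false
set_option linter.unusedSectionVars false
set_option linter.style.haveILetI false
set_option linter.unusedVariables false

namespace Cfsg.Agent.StdSz.CoverD

open scoped commutatorElement
open Cfsg.Agent.StdSz.FormAlg Cfsg.Agent.StdSz.BorelCoord Cfsg.Agent.StdSz.CoverA
open Cfsg.Agent.StdSz.CoverC
open Cfsg.Agent.LieRecognition

variable {G : Type*} [Group G] [Finite G]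

/-- a 2-element normalising `A` acts on `A` as an element of `A`. -/
theorem exists_inner {A : Subgroup G} (hp : commutator ↥A = ⊤) {F : Type*} [Field F] [Fintype F]
    {m : ℕ} (hm : 1 ≤ m) (hF : Fintype.card F = 2 ^ (2 * m + 1))
    (e : ↥A ⧸ Subgroup.center ↥A ≃* ↥(Cfsg.Lie.Sz F (2 ^ (m + 1)))) {g : G}
    (hg : g ∈ Subgroup.normalizer (A : Set G)) {k : ℕ} (hk : g ^ 2 ^ k = 1) :
    ∃ a : A, ∀ x ∈ A, ((a : G)⁻¹ * g) * x = x * ((a : G)⁻¹ * g) := by
  haveI := EquivMaps.charP_two hF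
  let R0 : ThreePrime.SzRel.Rel ↥(Cfsg.Lie.Sz F (2 ^ (m + 1))) F :=
    ThreePrime.SzRel.ofGood (SzMatrix.good hF)
  let R : ThreePrime.SzRel.Rel (↥A ⧸ Subgroup.center ↥A) F := R0.map e.symm
  let α : MulAut A := Subgroup.normalizerMonoidHom A ⟨g, hg⟩
  have hα : ∀ x : A, ((α x : A) : G) = g * x * g⁻¹ := fun x => rfl
  have hαk : α ^ 2 ^ k = 1 := by
    have : α ^ 2 ^ k = Subgroup.normalizerMonoidHom A (⟨g, hg⟩ ^ 2 ^ k) := (map_pow _ _ _).symm
    rw [this]
    have h1 : (⟨g, hg⟩ : Subgroup.normalizer (A : Set G)) ^ 2 ^ k = 1 := Subtype.ext hk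
    rw [h1, map_one]
  obtain ⟨j, hj⟩ := R.inner hm hF (ind α) ⟨k, ind_pow_eq_one α _ hαk⟩
  obtain ⟨a, rfl⟩ := QuotientGroup.mk'_surjective _ j
  refine ⟨a, fun x hx => ?_⟩
  let β : MulAut A := (MulAut.conj a)⁻¹ * α
  have hβ : ∀ y : A, β y = a⁻¹ * α y * a := by
    intro y
    show (MulAut.conj a)⁻¹ (α y) = _
    rw [MulAut.inv_apply, MulAut.conj_symm_apply]
  have h1 := eq_of_mod_center hp β (by
    intro y
    rw [hβ]
    have h2 : ind α (QuotientGroup.mk' (Subgroup.center ↥A) y) =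
        MulAut.conj (QuotientGroup.mk' (Subgroup.center ↥A) a)
          (QuotientGroup.mk' (Subgroup.center ↥A) y) := by rw [hj]
    rw [ind_mk, MulAut.conj_apply] at h2
    have h3 : QuotientGroup.mk' (Subgroup.center ↥A) (a⁻¹ * α y * a * y⁻¹) = 1 := by
      rw [map_mul, map_mul, map_mul, h2, map_inv, map_inv]
      group
    rwa [← MonoidHom.mem_ker, QuotientGroup.ker_mk'] at h3) ⟨x, hx⟩
  rw [hβ] at h1
  have h2 : (a : G)⁻¹ * (g * x * g⁻¹) * a = x := congrArg Subtype.val h1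
  calc ((a : G)⁻¹ * g) * x = ((a : G)⁻¹ * (g * x * g⁻¹) * a) * ((a : G)⁻¹ * g) := by group
    _ = x * ((a : G)⁻¹ * g) := by rw [h2]

/-- **The centre has odd order.** -/
theorem odd_center {A : Subgroup G} (S : Reduce.Simple A) {F : Type*} [Field F] [Fintype F]
    {m : ℕ} (hm : 1 ≤ m) (hF : Fintype.card F = 2 ^ (2 * m + 1))
    (e : ↥A ⧸ Subgroup.center ↥A ≃* ↥(Cfsg.Lie.Sz F (2 ^ (m + 1))))
    (hR : ∀ R : Sylow 2 ↥(Subgroup.centralizer (A : Set G)),
      IsCyclic ↥(R : Subgroup ↥(Subgroup.centralizer (A : Set G))))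
    {t : G} (ht : orderOf t = 2) (htA : t ∈ Subgroup.centralizer (A : Set G)) :
    Odd (Nat.card (Subgroup.center ↥A)) := by
  classical
  haveI := EquivMaps.charP_two hF
  haveI : Fact (Nat.Prime 2) := ⟨Nat.prime_two⟩
  by_contra hodd
  rw [Nat.not_odd_iff_even, even_iff_two_dvd] at hodd
  have hp : commutator ↥A = ⊤ := by
    have := S.std.1.1
    exact this.commutator_eq_top
  have htt : t * t = 1 := by rw [← sq, ← ht, pow_orderOf_eq_one]
  have ht1 : t ≠ 1 := by
    rintro rfl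
    rw [orderOf_one] at ht
    omega
  set K : Subgroup G := Subgroup.centralizer (A : Set G) with hK
  have memK : ∀ x : G, x ∈ K ↔ ∀ a ∈ A, a * x = x * a := fun x => Subgroup.mem_centralizer_iff
  -- central elements of `A`
  have hcenK : ∀ z : A, z ∈ Subgroup.center ↥A → (z : G) ∈ K := by
    intro z hz
    rw [memK]
    intro a ha
    exact congrArg Subtype.val (Subgroup.mem_center_iff.mp hz ⟨a, ha⟩)
  have hcyc : ∀ z : A, z ∈ Subgroup.center ↥A → z * z = 1 → (z : G) = 1 ∨ (z : G) = t := by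
    intro z hz hz2
    have := eq_of_cyclic_sylow hR ⟨t, htA⟩ ⟨z, hcenK z hz⟩ (Subtype.ext htt)
      (fun h => ht1 (congrArg Subtype.val h))
      (fun x => Subtype.ext ((memK x).mp x.2 z z.2))
      (Subtype.ext (show (z : G) * z = 1 from congrArg Subtype.val hz2))
    rcases this with h | h
    · exact Or.inl (congrArg Subtype.val h)
    · exact Or.inr (congrArg Subtype.val h)
  obtain ⟨z0, hz0⟩ := exists_prime_orderOf_dvd_card' 2 hodd
  have hz0' : ((z0 : A) : G) = t := by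
    have h1 : (z0 : A) * z0 = 1 := by
      have : z0 * z0 = 1 := by rw [← sq, ← hz0, pow_orderOf_eq_one]
      exact congrArg Subtype.val this
    rcases hcyc z0 z0.2 h1 with h | h
    · exfalso
      have h2 : z0 = 1 := Subtype.ext (Subtype.ext h)
      rw [h2, orderOf_one] at hz0
      omega
    · exact h
  have htmem : t ∈ A := hz0' ▸ (z0 : A).2
  let tA : A := ⟨t, htmem⟩
  have htcen : tA ∈ Subgroup.center ↥A := by
    have : tA = (z0 : A) := Subtype.ext hz0'.symm
    rw [this]; exact z0.2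
  -- `π`
  let π : ↥A →* ↥(Cfsg.Lie.Sz F (2 ^ (m + 1))) := e.toMonoidHom.comp (QuotientGroup.mk' _)
  have hπsurj : Function.Surjective π :=
    e.surjective.comp (QuotientGroup.mk'_surjective _)
  have hπker : ∀ x : A, π x = 1 ↔ x ∈ Subgroup.center ↥A := by
    intro x
    have h1 : π x = e (QuotientGroup.mk' (Subgroup.center ↥A) x) := rfl
    rw [h1, map_eq_one_iff e e.injective, ← MonoidHom.mem_ker, QuotientGroup.ker_mk']
  have hπcen : ∀ x : A, π x = 1 → ∀ y, x * y = y * x := fun x hx y =>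
    (Subgroup.mem_center_iff.mp ((hπker x).mp hx) y).symm
  let C : Data m F ↥(Cfsg.Lie.Sz F (2 ^ (m + 1))) := szData hF
  let R0 : ThreePrime.SzRel.Rel ↥(Cfsg.Lie.Sz F (2 ^ (m + 1))) F :=
    ThreePrime.SzRel.ofGood (SzMatrix.good hF)
  have hT0 : ∀ x, x ∈ R0.T ↔ ∃ a b, x = C.p a b := by
    intro x
    constructor
    · rintro ⟨a, b, rfl⟩
      refine ⟨a, b + a * SzMatrix.theta hF a, ?_⟩
      show (SzMatrix.good hF).u a b = (SzMatrix.good hF).u a _
      rw [add_assoc, CharTwo.add_self_eq_zero, add_zero]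
    · rintro ⟨a, b, rfl⟩
      exact ⟨a, b + a * SzMatrix.theta hF a, rfl⟩
  obtain ⟨Sy, hSy⟩ := R0.exists_sylow_eq hm hF
  have hT0odd : Odd R0.T.index := by
    rw [← hSy, ← Nat.not_even_iff_odd, even_iff_two_dvd]
    exact Sy.not_dvd_index
  obtain ⟨P, P2, Podd, Pmem, Psurj⟩ := exists_sylow_over π hπsurj hπcen R0.T R0.isPGroup hT0odd
  -- the cover data
  have hcov : Cov C π P tA :=
    { cen := hπcen
      to_p := fun x hx => (hT0 _).mp ((Pmem x).mp hx).1
      from_p := fun a b => Psurj _ ((hT0 _).mpr ⟨a, b, rfl⟩)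
      tor := fun l => hπsurj _
      tor_P := by
        intro g l hg x hx
        obtain ⟨h1, k, hk⟩ := (Pmem x).mp hx
        refine (Pmem _).mpr ⟨?_, k, by rw [conj_pow, hk, mul_one, mul_inv_cancel]⟩
        obtain ⟨a, b, hab⟩ := (hT0 _).mp h1
        rw [map_mul, map_mul, map_inv, hg, hab, C.h_p]
        exact (hT0 _).mpr ⟨_, _, rfl⟩
      t_mem := (Pmem _).mpr ⟨by rw [(hπker _).mpr htcen]; exact one_mem _, 1, by
        rw [pow_one, sq]; exact Subtype.ext htt⟩
      t_one := fun h => ht1 (congrArg Subtype.val h)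
      t_sq := Subtype.ext htt
      t_ker := (hπker _).mpr htcen
      uniq := by
        intro x hx hx1 hx2
        rcases hcyc x ((hπker x).mp hx1) hx2 with h | h
        · exact Or.inl (Subtype.ext h)
        · exact Or.inr (Subtype.ext h) }
  have hcom : (⟨tA, hcov.t_mem⟩ : P) ∈ commutator P :=
    mem_commutator_of_central P Podd tA hcov.t_mem (fun g => hπcen _ hcov.t_ker g) hcov.t_sq
      (by rw [hp]; exact Subgroup.mem_top _)
  obtain ⟨zh, Z, hval, hleft, hright⟩ := hcov.main hm hF hcom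
  -- Sylow 2-subgroup of `K` containing `t`
  have htz : IsPGroup 2 (Subgroup.zpowers (⟨t, htA⟩ : K)) :=
    CoverB.isPGroup_zpowers (k := 1) (by rw [pow_one, sq]; exact Subtype.ext htt)
  obtain ⟨R, hRt⟩ := htz.exists_le_sylow
  have hRcen : ∀ z : A, z ∈ Subgroup.center ↥A → (∃ k : ℕ, z ^ 2 ^ k = 1) →
      ∃ h : (z : G) ∈ K, (⟨z, h⟩ : K) ∈ (R : Subgroup K) := by
    rintro z hz ⟨k, hk⟩
    refine ⟨hcenK z hz, ?_⟩
    have h1 : IsPGroup 2 (Subgroup.zpowers (⟨z, hcenK z hz⟩ : K)) :=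
      CoverB.isPGroup_zpowers (k := k)
        (Subtype.ext (show (z : G) ^ 2 ^ k = 1 from congrArg Subtype.val hk))
    have hn : (Subgroup.zpowers (⟨z, hcenK z hz⟩ : K)).Normal := by
      constructor
      rintro _ ⟨i, rfl⟩ g
      have h2 : Commute (⟨z, hcenK z hz⟩ : K) g := Subtype.ext ((memK g).mp g.2 z z.2)
      have h3 : g * (⟨z, hcenK z hz⟩ : K) ^ i * g⁻¹ = (⟨z, hcenK z hz⟩ : K) ^ i := by
        rw [← (h2.zpow_left i).eq, mul_inv_cancel_right]
      show g * (⟨z, hcenK z hz⟩ : K) ^ i * g⁻¹ ∈ _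
      rw [h3]
      exact ⟨i, rfl⟩
    have h4 : IsPGroup 2 ((R : Subgroup K) ⊔ Subgroup.zpowers (⟨z, hcenK z hz⟩ : K) : Subgroup K) :=
      IsPGroup.to_sup_of_normal_right R.isPGroup' h1
    have h5 := R.is_maximal' h4 le_sup_left
    rw [← h5]
    exact (le_sup_right : _ ≤ (R : Subgroup K) ⊔ _) (Subgroup.mem_zpowers _)
  -- `T`
  have hKA : ∀ k ∈ K, ∀ a ∈ A, k * a = a * k := fun k hk a ha => ((memK k).mp hk a ha).symm
  let T : Subgroup G :=
    { carrier := {x | ∃ r : K, r ∈ (R : Subgroup K) ∧ ∃ p : A, p ∈ P ∧ x = r * p}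
      mul_mem' := by
        rintro x y ⟨r, hr, p, hpP, rfl⟩ ⟨r', hr', p', hpP', rfl⟩
        refine ⟨r * r', mul_mem hr hr', p * p', mul_mem hpP hpP', ?_⟩
        have := hKA r' r'.2 p p.2
        calc (r : G) * p * (r' * p') = r * (p * r') * p' := by group
          _ = r * (r' * p) * p' := by rw [this]
          _ = ((r * r' : K) : G) * ((p * p' : A) : G) := by push_cast; group
      one_mem' := ⟨1, one_mem _, 1, one_mem _, by simp⟩
      inv_mem' := by
        rintro x ⟨r, hr, p, hpP, rfl⟩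
        refine ⟨r⁻¹, inv_mem hr, p⁻¹, inv_mem hpP, ?_⟩
        have := hKA r⁻¹ (inv_mem r.2) p⁻¹ (inv_mem p.2)
        push_cast
        rw [mul_inv_rev, this] }
  have memT : ∀ x, x ∈ T ↔ ∃ r : K, r ∈ (R : Subgroup K) ∧ ∃ p : A, p ∈ P ∧ x = r * p :=
    fun x => Iff.rfl
  have hPT : ∀ p : A, p ∈ P → (p : G) ∈ T := fun p hp => ⟨1, one_mem _, p, hp, by simp⟩
  have hRT : ∀ r : K, r ∈ (R : Subgroup K) → (r : G) ∈ T := fun r hr => ⟨r, hr, 1, one_mem _, by simp⟩
  have T2 : IsPGroup 2 T := by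
    rintro ⟨x, r, hr, p, hpP, rfl⟩
    obtain ⟨i, hi⟩ := R.isPGroup' ⟨r, hr⟩
    obtain ⟨j, hj⟩ := P2 ⟨p, hpP⟩
    have hi' : (r : G) ^ 2 ^ i = 1 := congrArg (fun x => ((x : K) : G)) (congrArg Subtype.val hi)
    have hj' : (p : G) ^ 2 ^ j = 1 := congrArg (fun x => ((x : A) : G)) (congrArg Subtype.val hj)
    refine ⟨i + j, Subtype.ext ?_⟩
    show ((r : G) * p) ^ 2 ^ (i + j) = 1
    have hc : Commute (r : G) p := hKA r r.2 p p.2
    rw [hc.mul_pow, _root_.pow_add, pow_mul, hi', one_pow, one_mul, mul_comm (2 ^ i), pow_mul, hj',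
      one_pow]
  have Tt : ∀ x ∈ T, x * t = t * x := by
    rintro x ⟨r, hr, p, hpP, rfl⟩
    have h1 := hKA r r.2 t htmem
    have h2 := hKA t htA p p.2
    rw [mul_assoc, ← h2, ← mul_assoc, h1, mul_assoc]
  -- `C_G(t) ≤ N_G(A)`
  have hCN : ∀ x : G, x * t = t * x → x ∈ Subgroup.normalizer (A : Set G) := by
    intro x hx
    apply S.centralizer_involution_le ht htA
    rw [Subgroup.mem_centralizer_singleton_iff]
    exact hx
  have Tmax : ∀ X : Subgroup G, IsPGroup 2 X → T ≤ X → (∀ x ∈ X, x * t = t * x) → X ≤ T := by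
    intro X hX hTX hXt x hx
    -- the subgroup of `A/Z(A)` of elements induced by `X`
    let Y : Subgroup ↥(Cfsg.Lie.Sz F (2 ^ (m + 1))) :=
      { carrier := {j | ∃ x ∈ X, ∃ a : A, π a = j ∧ (a : G)⁻¹ * x ∈ K}
        mul_mem' := by
          rintro j j' ⟨x, hx, a, rfl, hk⟩ ⟨x', hx', a', rfl, hk'⟩
          refine ⟨x * x', mul_mem hx hx', a * a', map_mul _ _ _, ?_⟩
          have h1 := hKA _ hk a' a'.2
          have h2 : ((a * a' : A) : G)⁻¹ * (x * x') =
              ((a' : G)⁻¹ * (((a : G)⁻¹ * x) * a')) * ((a' : G)⁻¹ * x') := by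
            push_cast; group
          rw [h2, h1, inv_mul_cancel_left]
          exact mul_mem hk hk'
        one_mem' := ⟨1, one_mem _, 1, map_one _, by simp [one_mem]⟩
        inv_mem' := by
          rintro j ⟨x, hx, a, rfl, hk⟩
          refine ⟨x⁻¹, inv_mem hx, a⁻¹, map_inv _ _, ?_⟩
          have h1 := hKA _ (inv_mem hk) a a.2
          have h2 : ((a⁻¹ : A) : G)⁻¹ * x⁻¹ = (a * ((a : G)⁻¹ * x)⁻¹) * (a : G)⁻¹ := by
            push_cast; group
          rw [h2, ← h1, mul_inv_cancel_right]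
          exact inv_mem hk }
    have hY2 : IsPGroup 2 Y := by
      rintro ⟨j, x, hx, a, rfl, hk⟩
      obtain ⟨k, hk2⟩ := hX ⟨x, hx⟩
      have hk2' : x ^ 2 ^ k = 1 := congrArg Subtype.val hk2
      refine ⟨k, Subtype.ext ?_⟩
      show (π a) ^ 2 ^ k = 1
      rw [← map_pow, hπker, Subgroup.mem_center_iff]
      intro y
      have hc : Commute ((a : G)⁻¹ * x) a := hKA _ hk a a.2
      have h3 : x = a * ((a : G)⁻¹ * x) := by group
      have h4 : x ^ 2 ^ k = (a : G) ^ 2 ^ k * ((a : G)⁻¹ * x) ^ 2 ^ k := by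
        conv_lhs => rw [h3]
        exact hc.symm.mul_pow _
      have h5 : (a : G) ^ 2 ^ k ∈ K := by
        have : (a : G) ^ 2 ^ k = (((a : G)⁻¹ * x) ^ 2 ^ k)⁻¹ := by
          rw [eq_inv_iff_mul_eq_one, ← h4, hk2']
        rw [this]
        exact inv_mem (pow_mem hk _)
      apply Subtype.ext
      push_cast
      exact (hKA _ h5 y y.2).symm
    have hTY : (Sy : Subgroup _) ≤ Y := by
      rw [hSy]
      intro j hj
      obtain ⟨p, hpP, hpj⟩ := Psurj j hj
      exact ⟨p, hTX (hPT p hpP), p, hpj, by rw [inv_mul_cancel]; exact one_mem _⟩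
    have hYS := Sy.is_maximal' hY2 hTY
    obtain ⟨k, hk2⟩ := hX ⟨x, hx⟩
    obtain ⟨a, ha⟩ := exists_inner hp hm hF e (hCN x (hXt x hx)) (congrArg Subtype.val hk2)
    have hak : (a : G)⁻¹ * x ∈ K := (memK _).mpr (fun y hy => (ha y hy).symm)
    have haY : π a ∈ R0.T := by
      rw [← hSy, ← hYS]
      exact ⟨x, hx, a, rfl, hak⟩
    obtain ⟨p, hpP, hpa⟩ := Psurj _ haY
    have hpk : (p : G)⁻¹ * x ∈ K := by
      have h1 : π (p⁻¹ * a) = 1 := by rw [map_mul, map_inv, hpa, inv_mul_cancel]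
      have h2 := hcenK _ ((hπker _).mp h1)
      have h3 : (p : G)⁻¹ * x = ((p⁻¹ * a : A) : G) * ((a : G)⁻¹ * x) := by push_cast; group
      rw [h3]
      exact mul_mem h2 hak
    -- `X ∩ K` is a 2-group containing `R`
    have hXK : IsPGroup 2 (X.subgroupOf K) := hX.comap_subtype
    have hRX : (R : Subgroup K) ≤ X.subgroupOf K := fun r hr => hTX (hRT r hr)
    have hXR := R.is_maximal' hXK hRX
    have h4 : (⟨(p : G)⁻¹ * x, hpk⟩ : K) ∈ (R : Subgroup K) := by
      rw [← hXR]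
      exact mul_mem (inv_mem (hTX (hPT p hpP))) hx
    refine ⟨_, h4, p, hpP, ?_⟩
    show x = ((p : G)⁻¹ * x) * p
    rw [hKA _ hpk p p.2]; group
  -- `E`
  have Zcomm : ∀ b, (zh b : G) * t = t * zh b := fun b => (hKA t htA (zh b) (zh b).2).symm
  have Zmul : ∀ b c, (zh (b + c) : G) = zh b * zh c := fun b c => by
    rw [Z.add]; rfl
  have Zsq : ∀ b, (zh b : G) * zh b = 1 := fun b => congrArg Subtype.val (Z.sq b)
  have Z0 : (zh 0 : G) = 1 := congrArg Subtype.val Z.zero
  let E : Subgroup G :=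
    { carrier := {x | ∃ b, x = zh b ∨ x = zh b * t}
      mul_mem' := by
        rintro x y ⟨b, hb⟩ ⟨c, hc⟩
        refine ⟨b + c, ?_⟩
        rcases hb with rfl | rfl <;> rcases hc with rfl | rfl
        · left; rw [Zmul]
        · right; rw [Zmul]; group
        · right
          rw [Zmul, mul_assoc, ← Zcomm]; group
        · left
          calc (zh b : G) * t * (zh c * t) = zh b * (t * zh c) * t := by group
            _ = zh b * zh c * (t * t) := by rw [← Zcomm]; group
            _ = _ := by rw [htt, mul_one, Zmul]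
      one_mem' := ⟨0, Or.inl Z0.symm⟩
      inv_mem' := by
        rintro x ⟨b, rfl | rfl⟩
        · exact ⟨b, Or.inl (inv_eq_of_mul_eq_one_right (Zsq b))⟩
        · refine ⟨b, Or.inr (inv_eq_of_mul_eq_one_right ?_)⟩
          calc (zh b : G) * t * (zh b * t) = zh b * (t * zh b) * t := by group
            _ = zh b * zh b * (t * t) := by rw [← Zcomm]; group
            _ = 1 := by rw [htt, mul_one, Zsq] }
  have memE : ∀ x, x ∈ E ↔ ∃ b, x = (zh b : G) ∨ x = zh b * t := fun x => Iff.rfl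
  have htE : t ∈ E := ⟨0, Or.inr (by rw [Z0, one_mul])⟩
  have hZT : ∀ b, (zh b : G) ∈ T := fun b => hPT _ (Z.mem b)
  have htT : t ∈ T := hPT tA hcov.t_mem
  have Esq : ∀ x ∈ E, x * x = 1 := by
    rintro x ⟨b, rfl | rfl⟩
    · exact Zsq b
    · calc (zh b : G) * t * (zh b * t) = zh b * (t * zh b) * t := by group
        _ = zh b * zh b * (t * t) := by rw [← Zcomm]; group
        _ = 1 := by rw [htt, mul_one, Zsq]
  have Einv : ∀ x ∈ T, x * x = 1 → x ∈ E := by
    rintro x ⟨r, hr, p, hpP, rfl⟩ hxx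
    have hc := hKA r r.2 p p.2
    have h1 : ((r * r : K) : G) * ((p * p : A) : G) = 1 := by
      push_cast
      calc (r : G) * r * (p * p) = r * (r * p) * p := by group
        _ = r * (p * r) * p := by rw [hc]
        _ = r * p * (r * p) := by group
        _ = 1 := hxx
    have h2 : ((p * p : A) : G) ∈ K := by
      rw [eq_inv_of_mul_eq_one_right h1]
      exact inv_mem (r * r : K).2
    have h3 : π (p * p) = 1 := by
      rw [hπker, Subgroup.mem_center_iff]
      intro y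
      exact Subtype.ext ((memK _).mp h2 y y.2)
    obtain ⟨a, b, hab⟩ := hcov.to_p p hpP
    have ha : a = 0 := by
      rw [map_mul, hab, C.p_sq] at h3
      have h4 := (C.p_inj _ _ _ _ (h3.trans C.p_zero.symm)).2
      exact (pow_eq_zero_iff (by positivity)).mp h4
    subst ha
    -- `p = zh b * z`
    set z := (zh b)⁻¹ * p with hz
    have hz1 : π z = 1 := by rw [hz, map_mul, map_inv, Z.pi, hab, inv_mul_cancel]
    have hzcen := (hπker z).mp hz1
    have hzP : z ∈ P := mul_mem (inv_mem (Z.mem b)) hpP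
    obtain ⟨k, hk⟩ := P2 ⟨z, hzP⟩
    obtain ⟨hzK, hzR⟩ := hRcen z hzcen ⟨k, congrArg Subtype.val hk⟩
    have hpz : (p : G) = zh b * z := by rw [hz]; push_cast; group
    have hrz : (r : G) * z ∈ K := mul_mem r.2 hzK
    have hx' : (r : G) * p = zh b * (r * z) := by
      rw [hpz, ← mul_assoc, hKA r r.2 (zh b) (zh b).2, mul_assoc]
    have hrz2 : (r : G) * z * (r * z) = 1 := by
      have h5 := hKA _ hrz (zh b) (zh b).2
      have h6 : (zh b : G) * (r * z) * (zh b * (r * z)) = 1 := by rw [← hx']; exact hxx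
      calc (r : G) * z * (r * z) = (zh b * zh b) * (r * z * (r * z)) := by rw [Zsq, one_mul]
        _ = zh b * (zh b * (r * z)) * (r * z) := by group
        _ = zh b * ((r * z) * zh b) * (r * z) := by rw [h5]
        _ = zh b * (r * z) * (zh b * (r * z)) := by group
        _ = 1 := h6
    -- `r z` is `1` or `t`: it lies in the cyclic group `R`
    have h7 : (⟨(r : G) * z, hrz⟩ : K) ∈ (R : Subgroup K) := mul_mem hr hzR
    have h8 : (r : G) * z = 1 ∨ (r : G) * z = t := by
      haveI := hR R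
      by_contra hcon
      push Not at hcon
      haveI : Fintype ↥(R : Subgroup K) := Fintype.ofFinite _
      have hc := IsCyclic.card_pow_eq_one_le (α := ↥(R : Subgroup K)) (n := 2) (by norm_num)
      have htR : (⟨t, htA⟩ : K) ∈ (R : Subgroup K) := hRt (Subgroup.mem_zpowers _)
      have hsub : ({1, ⟨_, htR⟩, ⟨_, h7⟩} : Finset ↥(R : Subgroup K)) ⊆
          Finset.univ.filter (fun a => a ^ 2 = 1) := by
        intro a ha
        simp only [Finset.mem_insert, Finset.mem_singleton] at ha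
        simp only [Finset.mem_filter, Finset.mem_univ, true_and]
        rcases ha with rfl | rfl | rfl
        · simp
        · exact Subtype.ext (Subtype.ext (by show t ^ 2 = 1; rw [sq, htt]))
        · exact Subtype.ext (Subtype.ext (by show ((r : G) * z) ^ 2 = 1; rw [sq, hrz2]))
      have h3 : ({1, ⟨_, htR⟩, ⟨_, h7⟩} : Finset ↥(R : Subgroup K)).card = 3 := by
        rw [Finset.card_insert_of_notMem, Finset.card_insert_of_notMem, Finset.card_singleton]
        · simp only [Finset.mem_singleton]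
          intro h
          exact hcon.2 (congrArg Subtype.val (congrArg Subtype.val h)).symm
        · simp only [Finset.mem_insert, Finset.mem_singleton, not_or]
          exact ⟨fun h => ht1 (congrArg Subtype.val (congrArg Subtype.val h)).symm,
            fun h => hcon.1 (congrArg Subtype.val (congrArg Subtype.val h)).symm⟩
      have := Finset.card_le_card hsub
      omega
    rw [hx']
    rcases h8 with h8 | h8
    · rw [h8, mul_one]; exact ⟨b, Or.inl rfl⟩
    · rw [h8]; exact ⟨b, Or.inr rfl⟩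
  have ET : E ≤ T := by
    rintro x ⟨b, rfl | rfl⟩
    · exact hZT b
    · exact mul_mem (hZT b) htT
  have TE : ∀ u ∈ T, ∀ x ∈ E, ⁅u, x⁆ = 1 ∨ ⁅u, x⁆ = t := by
    rintro u ⟨r, hr, p, hpP, rfl⟩ x ⟨b, hb⟩
    have hkey : ⁅(r : G) * p, (zh b : G)⁆ = ((⁅p, zh b⁆ : A) : G) := by
      have h1 := hKA r r.2 ((p * zh b * p⁻¹ : A) : G) (p * zh b * p⁻¹ : A).2
      have h2 : ⁅(r : G) * p, (zh b : G)⁆ =
          (r * ((p * zh b * p⁻¹ : A) : G)) * (r : G)⁻¹ * (zh b : G)⁻¹ := by
        rw [commutatorElement_def]; push_cast; group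
      rw [h2, h1, mul_inv_cancel_right, commutatorElement_def]
      push_cast
      rfl
    have hv : ⁅(r : G) * p, (zh b : G)⁆ = 1 ∨ ⁅(r : G) * p, (zh b : G)⁆ = t := by
      rw [hkey]
      rcases hval p hpP b with h | h
      · left; rw [h]; rfl
      · right; rw [h]
    rcases hb with rfl | rfl
    · exact hv
    · have h3 : ⁅(r : G) * p, (zh b : G) * t⁆ = ⁅(r : G) * p, (zh b : G)⁆ := by
        have h4 : (r : G) * p * t = t * (r * p) := Tt _ ⟨r, hr, p, hpP, rfl⟩
        have h5 : ((r : G) * p) * (zh b * t) * ((r : G) * p)⁻¹ =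
            ((r : G) * p) * zh b * ((r : G) * p)⁻¹ * t := by
          have h6 : t * ((r : G) * p)⁻¹ = ((r : G) * p)⁻¹ * t := by
            rw [mul_inv_eq_iff_eq_mul, mul_assoc, ← h4]; group
          rw [← mul_assoc, mul_assoc _ t, h6]; group
        rw [commutatorElement_def, h5, commutatorElement_def]
        group
      rw [h3]; exact hv
  have hx : ∀ t' ∈ E, t' ≠ t → t' ≠ 1 → ∃ x ∈ T, x * t' = t' * x ∧ ∃ e ∈ E, ⁅x, e⁆ = t := by
    rintro t' ⟨b, hb⟩ h1 h2
    -- two elements of `F`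
    obtain ⟨k, hk⟩ := Cov.exists_unit_ne_one (F := F) hm hF
    have hk1 : (k : F) ≠ 1 := fun h => hk (by rw [h, one_pow])
    obtain ⟨x1, hx1, hx1'⟩ := hcov.from_p 1 0
    obtain ⟨x2, hx2, hx2'⟩ := hcov.from_p k 0
    have hex : ∃ x ∈ P, (∃ a b, π x = C.p a b ∧ a ≠ 0) ∧ ⁅x, zh b⁆ = 1 := by
      rcases hval x1 hx1 b with h3 | h3
      · exact ⟨x1, hx1, ⟨1, 0, hx1', one_ne_zero⟩, h3⟩
      · rcases hval x2 hx2 b with h4 | h4
        · exact ⟨x2, hx2, ⟨k, 0, hx2', k.ne_zero⟩, h4⟩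
        · refine ⟨x1 * x2, mul_mem hx1 hx2, ⟨1 + k, _, by rw [map_mul, hx1', hx2', C.p_mul], ?_⟩, ?_⟩
          · intro h5
            exact hk1 (CharTwo.add_eq_zero.mp h5).symm
          · rw [hcov.cl (by rw [h4]; exact hcov.t_ker), h3, h4, hcov.t_sq]
    obtain ⟨x, hxP, ⟨a, b', hab, ha⟩, hxb⟩ := hex
    obtain ⟨c, hc⟩ := hleft x hxP a b' hab ha
    have hxb' : (x : G) * zh b = zh b * x := by
      rw [commutatorElement_eq_one_iff_mul_comm] at hxb
      exact congrArg Subtype.val hxb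
    refine ⟨x, hPT x hxP, ?_, zh c, ⟨c, Or.inl rfl⟩, ?_⟩
    · rcases hb with rfl | rfl
      · exact hxb'
      · have := Tt _ (hPT x hxP)
        rw [← mul_assoc, hxb', mul_assoc, this, mul_assoc]
    · have := congrArg Subtype.val hc
      rw [commutatorElement_def] at this ⊢
      push_cast at this
      exact this
  -- `t` is fused, by the Z*-theorem in the simple group `E(G)`
  have hfus : ∃ g : G, g * t * g⁻¹ ≠ t ∧ (g * t * g⁻¹) * t = t * (g * t * g⁻¹) := by
    haveI := S.simple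
    have htL : t ∈ Cfsg.layer G := S.le_layer htmem
    have ho : orderOf (⟨t, htL⟩ : ↥(Cfsg.layer G)) = 2 := by
      rw [Subgroup.orderOf_mk, ht]
    obtain ⟨g, hg1, hg2⟩ := StandardComponent.AltFinal.exists_conj S.not_comm ho
    exact ⟨g, fun h => hg1 (Subtype.ext h), congrArg Subtype.val hg2⟩
  exact CoverB.false_of_config t T E ht1 T2 Tt Tmax htE ET Einv Esq TE hx hfus

end Cfsg.Agent.StdSz.CoverD
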