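import Cfsg.Agent.StdSz.OneBranch

/-!
# Standard subgroups of Suzuki type

The statement S1772 from S1169 (Goldschmidt's theorem) and S1170 (strongly closed subgroups of
class two).
-/

set_option autoImplicit false
set_option linter.unusedSectionVars false
set_option linter.style.haveILetI false

namespace Cfsg.Agent.StdSz.Main

open Cfsg Subgroup Cfsg.Agent.StdSz.Out Cfsg.Agent.StdSz.EndClosed

universe u

/-- The case of a simple layer. -/
theorem of_simple {G : Type u} [Group G] [Finite G] (gold : Gold.{u}) (h1170 : S1170Stmt.{u})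
    {A : Subgroup G} (S : Reduce.Simple A)
    (hR : ∀ R : Sylow 2 ↥(Subgroup.centralizer (A : Set G)),
      IsCyclic ↥(R : Subgroup ↥(Subgroup.centralizer (A : Set G))))
    {t : G} (ht : orderOf t = 2) (htA : t ∈ Subgroup.centralizer (A : Set G))
    {F : Type*} [Field F] [Fintype F] {m : ℕ} (hm : 1 ≤ m)
    (hF : Fintype.card F = 2 ^ (2 * m + 1))
    (hAX : Nonempty (↥A ⧸ Subgroup.center ↥A ≃* ↥(Cfsg.Lie.Sz F (2 ^ (m + 1))))) :
    t ∉ Cfsg.layer G ∧ IsLieTypeChar 2 ↥(Cfsg.layer G) := by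
  haveI := EquivMaps.charP_two hF
  exact Final.of_simple gold h1170 S hR ht htA hm hF hAX (fun D => OneBranch.oneBranch D)

/-- **Standard subgroups of Suzuki type.** -/
theorem main {G : Type u} [Group G] [Finite G] (gold : Gold.{u}) (h1170 : S1170Stmt.{u})
    (hO : Cfsg.oddCore G = ⊥) (A : Subgroup G) (hA : Cfsg.IsStandardSubgroup A) (hnA : ¬ A.Normal)
    (hR : ∀ R : Sylow 2 ↥(Subgroup.centralizer (A : Set G)),
      IsCyclic ↥(R : Subgroup ↥(Subgroup.centralizer (A : Set G))))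
    (t : G) (ht : orderOf t = 2) (htA : t ∈ Subgroup.centralizer (A : Set G))
    {F : Type*} [Field F] [Fintype F] (m : ℕ) (hm : 1 ≤ m)
    (hF : Fintype.card F = 2 ^ (2 * m + 1))
    (hAX : Nonempty (↥A ⧸ Subgroup.center ↥A ≃* ↥(Cfsg.Lie.Sz F (2 ^ (m + 1))))) :
    Nonempty (↥(Cfsg.layer G) ≃* ↥A × ↥A) ∨ (IsLieTypeChar 2 ↥(Cfsg.layer G) ∧
      ¬ (∃ e : G, e ∈ Cfsg.layer G ∧ ∀ x ∈ Cfsg.layer G, t * x * t⁻¹ = e * x * e⁻¹)) := by
  haveI := EquivMaps.charP_two hF
  exact Final.main gold h1170 hO A hA hnA hR t ht htA m hm hF hAX (fun D => OneBranch.oneBranch D)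

end Cfsg.Agent.StdSz.Main
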