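import Mathlib.GroupTheory.Sylow

/-!
# The uniform end of the Suzuki case: the data

`Out G F t`: a Sylow 2-subgroup `S` of `G` with a subgroup `M` of index 2 and class at most 2
containing no conjugate of the involution `t`, on which `Fˣ` acts fixed point freely.
-/

set_option autoImplicit false

namespace Cfsg.Agent.StdSz.OutDef

/-- the data at the end of the growth process. -/
structure OutBase (G : Type*) [Group G] (F : Type*) [Field F] [Fintype F] (t : G) where
  S : Sylow 2 G
  M : Subgroup G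
  M_le : M ≤ (S : Subgroup G)
  idx : M.relIndex (S : Subgroup G) = 2
  t_sq : t * t = 1
  t_mem : t ∈ (S : Subgroup G)
  fus : ∀ g : G, g * t * g⁻¹ ∉ M
  h : Fˣ → G
  h_M : ∀ l, ∀ x ∈ M, h l * x * (h l)⁻¹ ∈ M
  h_mul : ∀ l l', ∀ x ∈ M,
    h (l * l') * x * (h (l * l'))⁻¹ = h l * (h l' * x * (h l')⁻¹) * (h l)⁻¹
  h_free : ∀ l, l ≠ 1 → ∀ x ∈ M, h l * x * (h l)⁻¹ = x → x = 1

/-- the data at the end of the growth process, class two case. -/
structure Out (G : Type*) [Group G] (F : Type*) [Field F] [Fintype F] (t : G) extends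
    OutBase G F t where
  comm : ∀ x ∈ M, ∀ y ∈ M, ∀ z ∈ M, (x * y * x⁻¹ * y⁻¹) * z = z * (x * y * x⁻¹ * y⁻¹)
  card_le : Nat.card M ≤ Fintype.card F ^ 4

end Cfsg.Agent.StdSz.OutDef
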