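import Cfsg.Agent.Transfer.ThompsonTransfer
import Cfsg.Agent.SmallSimple.PSLTwoPart
import Cfsg.Statements.S1170
import Cfsg.Agent.StdSz.OutDef

/-!
# The uniform end of the Suzuki case

`Out G F t`: a Sylow 2-subgroup `S` of `G` with a subgroup `M` of index 2 and class at most 2
containing no conjugate of the involution `t`, on which `Fˣ` acts fixed point freely.
If `L` is a normal simple subgroup of `G`, then `t ∉ L` and `S ⊓ L = M ⊓ L`, and (using the
classification of simple groups with a Sylow 2-subgroup of class 2) `L` is of Lie type in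
characteristic 2 or has the order of `Sz F`.
-/

set_option autoImplicit false
set_option linter.unusedSectionVars false
set_option linter.style.haveILetI false

namespace Cfsg.Agent.StdSz.Out

open Cfsg Cfsg.Agent.StdSz.OutDef

universe u

/-- The statement of S1170. -/
def S1170Stmt : Prop :=
  ∀ (G : Type u) [Group G] [Finite G] [IsSimpleGroup G] (S : Sylow 2 G) (A : Subgroup G),
    Cfsg.IsStronglyClosed A (S : Subgroup G) → ¬ IsMulCommutative A →
    ⁅(⊤ : Subgroup A), ⊤⁆ ≤ Subgroup.center A →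
    (∃ (F : Type) (_ : Field F) (_ : Fintype F),
      (Fintype.card F % 16 = 7 ∨ Fintype.card F % 16 = 9) ∧
        Nonempty (G ≃* Matrix.ProjectiveSpecialLinearGroup (Fin 2) F)) ∨
    (∃ (F : Type) (_ : Field F) (_ : Fintype F) (q : ℕ), Fintype.card F = q ^ 2 ∧ Even q ∧ 4 ≤ q ∧
      Nonempty (G ≃* Cfsg.PSU 3 F q)) ∨ Cfsg.IsSuzuki G ∨
    (∃ (F : Type) (_ : Field F) (_ : Fintype F), CharP F 2 ∧
      Nonempty (G ≃* Matrix.ProjectiveSpecialLinearGroup (Fin 3) F)) ∨
    (∃ (F : Type) (_ : Field F) (_ : Fintype F), CharP F 2 ∧ 4 ≤ Fintype.card F ∧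
      Nonempty (G ≃* Cfsg.PSp 2 F)) ∨ Nonempty (G ≃* alternatingGroup (Fin 7))

variable {G : Type*} [Group G] {F : Type*} [Field F] [Fintype F] {t : G}
variable (O : OutBase G F t)

theorem h_one (x : G) (hx : x ∈ O.M) : O.h 1 * x * (O.h 1)⁻¹ = x := by
  have h1 := O.h_mul 1 1 x hx
  rw [mul_one] at h1
  have h2 := mul_left_cancel (mul_right_cancel h1)
  exact h2.symm

/-- there is an index 2 normal subgroup containing `M` but not `t`. -/
theorem exists_normal [Finite G] (hF : 2 < Fintype.card F) :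
    ∃ N : Subgroup G, N.Normal ∧ N.index = 2 ∧ t ∉ N ∧ O.M ≤ N := by
  classical
  have hu : t ^ 2 = 1 := by rw [pow_two, O.t_sq]
  rcases Cfsg.Agent.Transfer.ThompsonTransfer.thompson_transfer O.S O.M O.M_le O.idx t hu with
    ⟨N, hN, hi, ht⟩ | ⟨g, hg⟩
  · refine ⟨N, hN, hi, ht, ?_⟩
    -- choose `l ≠ 1`
    obtain ⟨l, hl⟩ : ∃ l : Fˣ, l ≠ 1 := by
      by_contra hcon
      push Not at hcon
      have : Fintype.card F ≤ 2 := by
        have h1 : (Finset.univ : Finset F) ⊆ {0, 1} := by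
          intro x _
          rcases eq_or_ne x 0 with h | h
          · simp [h]
          · have := congrArg Units.val (hcon (Units.mk0 x h))
            simp only [Units.val_mk0, Units.val_one] at this
            simp [this]
        calc Fintype.card F = (Finset.univ : Finset F).card := Finset.card_univ.symm
          _ ≤ ({0, 1} : Finset F).card := Finset.card_le_card h1
          _ ≤ 2 := Finset.card_le_two
      omega
    -- `y ↦ y (h y h⁻¹)⁻¹` is a bijection of `M`
    let φ : O.M → O.M := fun y => ⟨y * (O.h l * y * (O.h l)⁻¹)⁻¹,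
      mul_mem y.2 (inv_mem (O.h_M l y y.2))⟩
    have hinj : Function.Injective φ := by
      intro x y hxy
      have h1 : (x : G) * (O.h l * x * (O.h l)⁻¹)⁻¹ = y * (O.h l * y * (O.h l)⁻¹)⁻¹ :=
        congrArg Subtype.val hxy
      have h2 : O.h l * ((y : G)⁻¹ * x) * (O.h l)⁻¹ = (y : G)⁻¹ * x := by
        have h3 : (y : G)⁻¹ * ((x : G) * (O.h l * x * (O.h l)⁻¹)⁻¹) * (O.h l * x * (O.h l)⁻¹) =
            (y : G)⁻¹ * (y * (O.h l * y * (O.h l)⁻¹)⁻¹) * (O.h l * x * (O.h l)⁻¹) := by rw [h1]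
        have h4 : (y : G)⁻¹ * ((x : G) * (O.h l * x * (O.h l)⁻¹)⁻¹) * (O.h l * x * (O.h l)⁻¹) =
            (y : G)⁻¹ * x := by group
        have h5 : (y : G)⁻¹ * (y * (O.h l * y * (O.h l)⁻¹)⁻¹) * (O.h l * x * (O.h l)⁻¹) =
            O.h l * ((y : G)⁻¹ * x) * (O.h l)⁻¹ := by group
        rw [← h5, ← h3, h4]
      have h3 := O.h_free l hl _ (mul_mem (inv_mem y.2) x.2) h2
      exact Subtype.ext (inv_mul_eq_one.mp h3).symm
    have hsurj : Function.Surjective φ := Finite.injective_iff_surjective.mp hinj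
    intro x hx
    obtain ⟨y, hy⟩ := hsurj ⟨x, hx⟩
    have h1 : (y : G) * (O.h l * y * (O.h l)⁻¹)⁻¹ = x := congrArg Subtype.val hy
    rw [← h1]
    have h2 : (y : G) * (O.h l * y * (O.h l)⁻¹)⁻¹ = (y : G) * (O.h l * (y : G)⁻¹ * (O.h l)⁻¹) := by
      group
    rw [h2]
    have e1 := Subgroup.mul_mem_iff_of_index_two hi (a := (y : G))
      (b := O.h l * (y : G)⁻¹ * (O.h l)⁻¹)
    rw [e1]
    constructor
    · intro h; exact hN.conj_mem _ (inv_mem h) _
    · intro h
      have := hN.conj_mem _ h (O.h l)⁻¹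
      have e2 : (O.h l)⁻¹ * (O.h l * (y : G)⁻¹ * (O.h l)⁻¹) * (O.h l)⁻¹⁻¹ = (y : G)⁻¹ := by group
      rw [e2] at this
      simpa using inv_mem this
  · exact absurd hg (O.fus g)

theorem S_inf_eq {N : Subgroup G} (hN : O.M ≤ N) (ht : t ∉ N) : (O.S : Subgroup G) ⊓ N = O.M := by
  apply le_antisymm _ (le_inf O.M_le hN)
  -- index two
  intro x hx
  by_contra hxM
  have h1 : (O.M.subgroupOf (O.S : Subgroup G)).index = 2 := O.idx
  have ht' : t ∉ O.M := fun h => ht (hN h)
  have h2 := Subgroup.mul_mem_iff_of_index_two h1 (a := ⟨x, hx.1⟩) (b := ⟨t, O.t_mem⟩)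
  rw [Subgroup.mem_subgroupOf, Subgroup.mem_subgroupOf, Subgroup.mem_subgroupOf] at h2
  have h3 : x * t ∈ O.M := h2.mpr ⟨fun h => absurd h hxM, fun h => absurd h ht'⟩
  apply ht
  have h4 : x⁻¹ * (x * t) ∈ N := mul_mem (inv_mem hx.2) (hN h3)
  rwa [inv_mul_cancel_left] at h4

/-- a normal nonabelian simple subgroup does not contain `t` and meets `S` in `M ⊓ L`. -/
theorem not_mem_and_inf [Finite G] (hF : 2 < Fintype.card F) (L : Subgroup G) [hL : L.Normal]
    [IsSimpleGroup L] (hLc : ¬ IsMulCommutative L) :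
    t ∉ L ∧ (O.S : Subgroup G) ⊓ L = O.M ⊓ L := by
  obtain ⟨N, hN, hi, ht, hM⟩ := exists_normal O hF
  have hLN : L ≤ N := by
    have h1 : (N.subgroupOf L).Normal := inferInstance
    rcases h1.eq_bot_or_eq_top with h | h
    · exfalso
      apply hLc
      constructor
      constructor
      intro x y
      have h2 : x * y * x⁻¹ * y⁻¹ ∈ N.subgroupOf L := by
        rw [Subgroup.mem_subgroupOf]
        show (x : G) * y * (x : G)⁻¹ * (y : G)⁻¹ ∈ N
        have e1 := Subgroup.mul_mem_iff_of_index_two hi (a := (x : G) * y * (x : G)⁻¹)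
          (b := (y : G)⁻¹)
        rw [e1]
        constructor
        · intro h3
          have := hN.conj_mem _ h3 (x : G)⁻¹
          have e2 : (x : G)⁻¹ * ((x : G) * y * (x : G)⁻¹) * (x : G)⁻¹⁻¹ = y := by group
          rw [e2] at this
          exact inv_mem this
        · intro h3
          have := inv_mem h3
          rw [inv_inv] at this
          exact hN.conj_mem _ this _
      rw [h, Subgroup.mem_bot] at h2
      rw [mul_inv_eq_one, mul_inv_eq_iff_eq_mul] at h2
      exact h2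
    · exact Subgroup.subgroupOf_eq_top.mp h
  refine ⟨fun h => ht (hLN h), ?_⟩
  apply le_antisymm
  · intro x hx
    refine ⟨?_, hx.2⟩
    rw [← S_inf_eq O hM ht]
    exact ⟨hx.1, hLN hx.2⟩
  · exact inf_le_inf_right L O.M_le

/-- `q - 1` divides `|M ⊓ L| - 1`. -/
theorem dvd_card [Finite G] (L : Subgroup G) [hL : L.Normal] :
    Fintype.card F - 1 ∣ Nat.card ↥(O.M ⊓ L) - 1 := by
  classical
  let X := {x : G // x ∈ O.M ⊓ L ∧ x ≠ 1}
  letI act : MulAction Fˣ X :=
    { smul := fun l x => ⟨O.h l * x.1 * (O.h l)⁻¹, ⟨O.h_M l _ x.2.1.1,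
          hL.conj_mem _ x.2.1.2 _⟩, fun h => x.2.2 (by
            have : x.1 = (O.h l)⁻¹ * (O.h l * x.1 * (O.h l)⁻¹) * O.h l := by group
            rw [this, h]; group)⟩
      one_smul := fun x => Subtype.ext (h_one O x.1 x.2.1.1)
      mul_smul := fun l l' x => Subtype.ext (O.h_mul l l' x.1 x.2.1.1) }
  have hstab : ∀ x : X, MulAction.stabilizer Fˣ x = ⊥ := by
    intro x
    rw [Subgroup.eq_bot_iff_forall]
    intro l hl
    by_contra h1
    have h2 : O.h l * x.1 * (O.h l)⁻¹ = x.1 := congrArg Subtype.val (MulAction.mem_stabilizer_iff.mp hl)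
    exact x.2.2 (O.h_free l h1 x.1 x.2.1.1 h2)
  have e := MulAction.selfEquivOrbitsQuotientProd hstab
  have h1 : Nat.card X = Nat.card (Quotient (MulAction.orbitRel Fˣ X)) * Nat.card Fˣ := by
    rw [Nat.card_congr e, Nat.card_prod]
  have h2 : Nat.card Fˣ = Fintype.card F - 1 := by
    rw [Nat.card_eq_fintype_card, Fintype.card_units]
  have h3 : Nat.card X = Nat.card ↥(O.M ⊓ L) - 1 := by
    have e2 : X ≃ {x : ↥(O.M ⊓ L) // x ≠ 1} :=
      { toFun := fun x => ⟨⟨x.1, x.2.1⟩, fun h => x.2.2 (congrArg Subtype.val h)⟩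
        invFun := fun x => ⟨x.1.1, x.1.2, fun h => x.2 (Subtype.ext h)⟩
        left_inv := fun x => rfl
        right_inv := fun x => rfl }
    haveI : Fintype ↥(O.M ⊓ L) := Fintype.ofFinite _
    rw [Nat.card_congr e2, Nat.card_eq_fintype_card, Nat.card_eq_fintype_card]
    rw [Fintype.card_subtype_compl, Fintype.card_subtype_eq]
  rw [← h3, h1, h2]
  exact Dvd.intro_left _ rfl

end Cfsg.Agent.StdSz.Out
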