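import Cfsg.Agent.StdSz.FormAlg
import Mathlib.GroupTheory.PGroup

/-!
# The hyperplane trick

Let `V` be a finite group of exponent 2 and `H z` (`z ≠ 0`) hyperplanes with `z ∉ H z`.  An
automorphism of 2-power order permuting the pairs `(z, H z)` is trivial.
-/

set_option autoImplicit false
set_option linter.unusedSectionVars false
set_option linter.style.haveILetI false

namespace Cfsg.Agent.StdSz.Hyperplane

/-- an additive map of 2-power order has a nonzero fixed vector in every nonzero invariant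
subgroup of a finite 2-group. -/
theorem exists_fixed {V : Type*} [AddCommGroup V] [Finite V] (h2 : ∀ v : V, v + v = 0)
    (B : V → V) (hB : ∀ x y, B (x + y) = B x + B y) (k : ℕ) (hk : ∀ x, B^[2 ^ k] x = x)
    (W : AddSubgroup V) (hW : ∀ x ∈ W, B x ∈ W) (hne : W ≠ ⊥) :
    ∃ z ∈ W, z ≠ 0 ∧ B z = z := by
  classical
  have hB0 : B 0 = 0 := by
    have := hB 0 0
    rw [add_zero] at this
    simpa using this
  -- iterate `x ↦ B x + x`: it is nilpotent
  obtain ⟨w, hw, hw0⟩ : ∃ w ∈ W, w ≠ 0 := by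
    by_contra hcon
    push Not at hcon
    exact hne ((AddSubgroup.eq_bot_iff_forall W).mpr hcon)
  have hD : ∀ j : ℕ, ∀ x, (fun y => B y + y)^[2 ^ j] x = B^[2 ^ j] x + x := by
    have hadd : ∀ i : ℕ, ∀ x y, B^[i] (x + y) = B^[i] x + B^[i] y := by
      intro i
      induction i with
      | zero => intro x y; rfl
      | succ i ih =>
        intro x y
        rw [Function.iterate_succ_apply, hB, ih, ← Function.iterate_succ_apply,
          ← Function.iterate_succ_apply]
    intro j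
    induction j with
    | zero => intro x; simp
    | succ j ih =>
      intro x
      have e : 2 ^ (j + 1) = 2 ^ j + 2 ^ j := by rw [pow_succ]; ring
      rw [e, Function.iterate_add_apply, ih, ih, hadd, ← Function.iterate_add_apply]
      have : B^[2 ^ j + 2 ^ j] x + B^[2 ^ j] x + (B^[2 ^ j] x + x) =
          B^[2 ^ j + 2 ^ j] x + x + (B^[2 ^ j] x + B^[2 ^ j] x) := by abel
      rw [this, h2, add_zero]
  have hDk : (fun y => B y + y)^[2 ^ k] w = 0 := by rw [hD, hk, h2]
  have hDW : ∀ j : ℕ, (fun y => B y + y)^[j] w ∈ W := by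
    intro j
    induction j with
    | zero => exact hw
    | succ j ih =>
      rw [Function.iterate_succ_apply']
      exact W.add_mem (hW _ ih) ih
  have hex : ∃ j : ℕ, (fun y => B y + y)^[j] w = 0 := ⟨_, hDk⟩
  have hmin := Nat.find_spec hex
  have hpos : Nat.find hex ≠ 0 := by
    intro h0
    rw [h0] at hmin
    exact hw0 hmin
  obtain ⟨j, hj⟩ := Nat.exists_eq_succ_of_ne_zero hpos
  refine ⟨(fun y => B y + y)^[j] w, hDW j, Nat.find_min hex (by omega), ?_⟩
  rw [hj, Function.iterate_succ_apply'] at hmin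
  have := congrArg (fun y => y + (fun y => B y + y)^[j] w) hmin
  simp only [add_assoc, zero_add] at this
  rw [h2, add_zero] at this
  exact this

/-- **The hyperplane trick.** -/
theorem eq_id {V : Type*} [AddCommGroup V] [Finite V] (h2 : ∀ v : V, v + v = 0)
    (B : V → V) (hB : ∀ x y, B (x + y) = B x + B y) (k : ℕ) (hk : ∀ x, B^[2 ^ k] x = x)
    (H : V → AddSubgroup V) (hH : ∀ z, z ≠ 0 → z ∉ H z) (hi : ∀ z, z ≠ 0 → (H z).index = 2)
    (hBH : ∀ z x, z ≠ 0 → x ∈ H z → B x ∈ H (B z)) (x : V) : B x = x := by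
  classical
  have main : ∀ n : ℕ, ∀ W : AddSubgroup V, Nat.card W = n → (∀ x ∈ W, B x ∈ W) →
      ∀ x ∈ W, B x = x := by
    intro n
    induction n using Nat.strong_induction_on with
    | _ n ih =>
      intro W hn hW x hx
      by_cases hbot : W = ⊥
      · rw [hbot, AddSubgroup.mem_bot] at hx
        subst hx
        have := hB 0 0
        rw [add_zero] at this
        simpa using this
      obtain ⟨z, hz, hz0, hBz⟩ := exists_fixed h2 B hB k hk W hW hbot
      -- W' = W ⊓ H z
      have hlt : Nat.card (W ⊓ H z : AddSubgroup V) < n := by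
        rw [← hn]
        have hle : (W ⊓ H z : AddSubgroup V) < W := by
          refine lt_of_le_of_ne inf_le_left ?_
          intro e
          have : z ∈ W ⊓ H z := by rw [e]; exact hz
          exact hH z hz0 this.2
        exact Set.ncard_lt_ncard hle (Set.toFinite _)
      have hW' := ih _ hlt (W ⊓ H z) rfl (by
        intro y hy
        refine ⟨hW y hy.1, ?_⟩
        have := hBH z y hz0 hy.2
        rwa [hBz] at this)
      by_cases hxz : x ∈ H z
      · exact hW' x ⟨hx, hxz⟩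
      · have h3 : x + z ∈ H z := by
          rw [AddSubgroup.add_mem_iff_of_index_two (hi z hz0)]
          exact ⟨fun h => absurd h hxz, fun h => absurd h (hH z hz0)⟩
        have h4 := hW' (x + z) ⟨W.add_mem hx hz, h3⟩
        rw [hB, hBz] at h4
        exact add_right_cancel h4
  exact main _ ⊤ rfl (fun _ _ => AddSubgroup.mem_top _) x (AddSubgroup.mem_top _)

section Form

open Cfsg.Agent.StdSz.EquivMaps Cfsg.Agent.StdSz.SzMaps Cfsg.Agent.StdSz.FormAlg

variable {F : Type*} [Field F] [Fintype F] [CharP F 2] {m : ℕ}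

/-- The hyperplane attached to `z = a ^ (1 + θ)`: the range of `bt a`. -/
def hyp (m : ℕ) (z : F) : AddSubgroup F :=
  (AddMonoidHom.mk' (fun y : F => bt m (z ^ (2 ^ (m + 1) - 1)) y)
    (fun a b => bt_add_right m _ a b)).range

theorem mem_hyp {z x : F} : x ∈ hyp m z ↔ ∃ y : F, bt m (z ^ (2 ^ (m + 1) - 1)) y = x := by
  unfold hyp
  simp [AddMonoidHom.mem_range]

theorem root_norm (hF : Fintype.card F = 2 ^ (2 * m + 1)) (a : F) :
    (a ^ (1 + 2 ^ (m + 1))) ^ (2 ^ (m + 1) - 1) = a := by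
  apply norm_inj hF
  rw [norm_surj hF]

theorem not_mem_hyp (hF : Fintype.card F = 2 ^ (2 * m + 1)) {z : F} (hz : z ≠ 0) :
    z ∉ hyp m z := by
  rw [mem_hyp]
  rintro ⟨y, hy⟩
  set a := z ^ (2 ^ (m + 1) - 1) with ha
  have ha0 : a ≠ 0 := pow_ne_zero _ hz
  have hza : z = a ^ (1 + 2 ^ (m + 1)) := (norm_surj hF z).symm
  have h1 : (∃ b, bt m a b = a ^ (1 + 2 ^ (m + 1)) * 1) := ⟨y, by rw [mul_one, ← hza]; exact hy⟩
  rw [mem_range_bt ha0, mem_KK] at h1
  obtain ⟨w, hw⟩ := h1
  exact one_not_mem hF w hw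

theorem index_hyp (hF : Fintype.card F = 2 ^ (2 * m + 1)) {z : F} (hz : z ≠ 0) :
    (hyp m z).index = 2 := by
  classical
  set a := z ^ (2 ^ (m + 1) - 1) with ha
  have ha0 : a ≠ 0 := pow_ne_zero _ hz
  have hN : a ^ (1 + 2 ^ (m + 1)) ≠ 0 := pow_ne_zero _ ha0
  have hcomap : hyp m z = (KK m F).comap (AddMonoidHom.mulLeft (a ^ (1 + 2 ^ (m + 1)))⁻¹) := by
    ext x
    rw [mem_hyp, AddSubgroup.mem_comap, ← mem_range_bt ha0, AddMonoidHom.coe_mulLeft,
      mul_inv_cancel_left₀ hN]
  rw [hcomap, AddSubgroup.index_comap_of_surjective _ ?_, index_KK hF]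
  intro x
  exact ⟨a ^ (1 + 2 ^ (m + 1)) * x, by simp [hN]⟩

/-- **An automorphism of 2-power order of the Suzuki 2-group is trivial on `Q/Z` and `Z`.** -/
theorem eq_id_form (hF : Fintype.card F = 2 ^ (2 * m + 1)) (A B : F → F)
    (hB : ∀ x y, B (x + y) = B x + B y)
    (hN : ∀ x, (A x) ^ (1 + 2 ^ (m + 1)) = B (x ^ (1 + 2 ^ (m + 1))))
    (h : ∀ x y, bt m (A x) (A y) = B (bt m x y)) (k : ℕ) (hk : ∀ x, B^[2 ^ k] x = x) :
    (∀ x, A x = x) ∧ ∀ x, B x = x := by
  have hBid : ∀ x, B x = x := by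
    apply eq_id (fun v => CharTwo.add_self_eq_zero v) B hB k hk (hyp m)
      (fun z hz => not_mem_hyp hF hz) (fun z hz => index_hyp hF hz)
    intro z x hz hx
    rw [mem_hyp] at hx ⊢
    obtain ⟨y, hy⟩ := hx
    refine ⟨A y, ?_⟩
    have e : (B z) ^ (2 ^ (m + 1) - 1) = A (z ^ (2 ^ (m + 1) - 1)) := by
      conv_lhs => rw [← norm_surj hF z, ← hN]
      exact root_norm hF _
    rw [e, h, hy]
  refine ⟨fun x => ?_, hBid⟩
  apply norm_inj hF
  rw [hN, hBid]

/-- If `B = 1` then `A = 1`. -/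
theorem eq_id_of_right (hF : Fintype.card F = 2 ^ (2 * m + 1)) (A : F → F)
    (hsurj : Function.Surjective A) (hA0 : ∀ x, A x = 0 → x = 0) (hA00 : A 0 = 0)
    (h : ∀ x y, bt m (A x) (A y) = bt m x y) (x : F) : A x = x := by
  rcases eq_or_ne x 0 with rfl | hx
  · exact hA00
  · apply bt_range_inj hF (fun h0 => hx (hA0 _ h0)) hx
    intro z
    constructor
    · rintro ⟨c, hc⟩
      obtain ⟨d, rfl⟩ := hsurj c
      exact ⟨d, by rw [← h]; exact hc⟩
    · rintro ⟨c, hc⟩
      exact ⟨A c, by rw [h]; exact hc⟩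

end Form

end Cfsg.Agent.StdSz.Hyperplane
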