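import Cfsg.Agent.StdSz.Env
import Cfsg.Agent.StdSz.Hyperplane

/-!
# The first step of the growth

If `t` is not central in `N(T)`, a Sylow 2-subgroup `Q` of `N(T)` permutes transitively the
conjugates `p 0 u * t` of `t`, centralizes `Z`, and is normalized by elements of `D` inducing all
torus elements.
-/

set_option autoImplicit false
set_option linter.unusedSectionVars false
set_option linter.dupNamespace false

namespace Cfsg.Agent.StdSz.Env

open Subgroup Cfsg.Agent.StdSz.FormAlg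

section General

variable {G : Type*} [Group G]

theorem exists_mul_of_coprime_index [Finite G] {H K : Subgroup G}
    (h : Nat.Coprime H.index K.index) (g : G) : ∃ x ∈ H, ∃ y ∈ K, g = x * y := by
  classical
  have h1 : (H ⊓ K).relIndex K * K.index = (H ⊓ K).index := relIndex_mul_index inf_le_right
  have h2 : (H ⊓ K).relIndex H * H.index = (H ⊓ K).index := relIndex_mul_index inf_le_left
  rw [inf_relIndex_right] at h1
  have h3 : H.index ∣ H.relIndex K := by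
    apply h.dvd_of_dvd_mul_right
    rw [h1, ← h2]
    exact dvd_mul_left _ _
  have hst : MulAction.stabilizer K (QuotientGroup.mk 1 : G ⧸ H) = H.subgroupOf K := by
    ext y
    rw [MulAction.mem_stabilizer_iff, mem_subgroupOf]
    have : y • (QuotientGroup.mk 1 : G ⧸ H) = QuotientGroup.mk ((y : G) * 1) := rfl
    rw [this, mul_one, QuotientGroup.eq, mul_one, inv_mem_iff]
  have h4 := MulAction.index_stabilizer K (QuotientGroup.mk 1 : G ⧸ H)
  rw [hst] at h4
  have h5 : (MulAction.orbit K (QuotientGroup.mk 1 : G ⧸ H)) = Set.univ := by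
    apply Set.eq_of_subset_of_ncard_le (Set.subset_univ _)
    rw [Set.ncard_univ, ← h4]
    have h6 : H.relIndex K ≠ 0 := by
      rw [relIndex]; exact index_ne_zero_of_finite
    exact Nat.le_of_dvd (Nat.pos_of_ne_zero h6) h3
  have h6 : (QuotientGroup.mk g⁻¹ : G ⧸ H) ∈ MulAction.orbit K (QuotientGroup.mk 1 : G ⧸ H) := by
    rw [h5]; exact Set.mem_univ _
  obtain ⟨y, hy⟩ := h6
  have h7 : (QuotientGroup.mk ((y : G) * 1) : G ⧸ H) = QuotientGroup.mk g⁻¹ := hy
  rw [mul_one, QuotientGroup.eq] at h7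
  refine ⟨((y : G)⁻¹ * g⁻¹)⁻¹, inv_mem h7, (y : G)⁻¹, inv_mem y.2, ?_⟩
  group

theorem index_eq_card_of_map (H : Subgroup G) {α : Type*} (f : G → α)
    (hf : ∀ a b, f a = f b ↔ a⁻¹ * b ∈ H) (hs : Function.Surjective f) :
    H.index = Nat.card α := by
  let φ : G ⧸ H → α := Quotient.lift f (by
    intro a b hab
    rw [hf]
    exact QuotientGroup.leftRel_apply.mp hab)
  have hφ : ∀ g : G, φ (QuotientGroup.mk g) = f g := fun g => rfl
  have hbij : Function.Bijective φ := by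
    constructor
    · intro x y hxy
      obtain ⟨a, rfl⟩ := QuotientGroup.mk_surjective x
      obtain ⟨b, rfl⟩ := QuotientGroup.mk_surjective y
      rw [hφ, hφ, hf] at hxy
      exact QuotientGroup.eq.mpr hxy
    · intro y
      obtain ⟨g, rfl⟩ := hs y
      exact ⟨QuotientGroup.mk g, rfl⟩
  exact Nat.card_eq_of_bijective φ hbij

/-- A subgroup `N` is the product of the centralizer of `t` and a Sylow 2-subgroup of `N` if the
`N`-class of `t` has 2-power size. -/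
theorem exists_fac [Finite G] {N S : Subgroup G} {t : G} (hSN : S ≤ N) (hS : IsPGroup 2 S)
    (hmax : ∀ X : Subgroup G, IsPGroup 2 X → X ≤ N → S ≤ X → X = S) {α : Type*} [Finite α]
    (f : N → α) (hf : ∀ a b : N, f a = f b ↔
      (a : G) * t * (a : G)⁻¹ = (b : G) * t * (b : G)⁻¹) (hs : Function.Surjective f)
    {n : ℕ} (hn : Nat.card α = 2 ^ n) :
    ∀ g ∈ N, ∃ c, c * t = t * c ∧ ∃ x ∈ S, g = c * x := by
  classical
  have : Fact (Nat.Prime 2) := ⟨Nat.prime_two⟩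
  let H : Subgroup N := (centralizer ({t} : Set G)).subgroupOf N
  have hH : H.index = 2 ^ n := by
    rw [← hn]
    refine index_eq_card_of_map H f ?_ hs
    intro a b
    rw [hf, mem_subgroupOf, mem_centralizer_singleton_iff, coe_mul, coe_inv]
    constructor
    · intro h
      calc (a : G)⁻¹ * b * t = (a : G)⁻¹ * (b * t * (b : G)⁻¹) * b := by group
        _ = (a : G)⁻¹ * (a * t * (a : G)⁻¹) * b := by rw [h]
        _ = t * ((a : G)⁻¹ * b) := by group
    · intro h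
      calc (a : G) * t * (a : G)⁻¹ = a * (t * ((a : G)⁻¹ * b)) * (b : G)⁻¹ := by group
        _ = a * ((a : G)⁻¹ * b * t) * (b : G)⁻¹ := by rw [h]
        _ = b * t * (b : G)⁻¹ := by group
  let S1 : Sylow 2 N :=
    { toSubgroup := S.subgroupOf N
      isPGroup' := hS.comap_subtype
      is_maximal' := by
        intro R hR hle
        have h1 : IsPGroup 2 (R.map N.subtype) := hR.map _
        have h2 : S ≤ R.map N.subtype := by
          intro x hx
          exact ⟨⟨x, hSN hx⟩, hle (mem_subgroupOf.mpr hx), rfl⟩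
        have h3 : R.map N.subtype ≤ N := by
          rintro _ ⟨x, -, rfl⟩
          exact x.2
        have h4 := hmax _ h1 h3 h2
        apply le_antisymm
        · intro x hx
          rw [mem_subgroupOf, ← h4]
          exact ⟨x, hx, rfl⟩
        · exact hle }
  have hodd : ¬ 2 ∣ (S1 : Subgroup N).index := S1.not_dvd_index
  have hcop : Nat.Coprime H.index (S1 : Subgroup N).index := by
    rw [hH]
    exact Nat.Coprime.pow_left _ ((Nat.Prime.coprime_iff_not_dvd Nat.prime_two).mpr hodd)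
  intro g hg
  obtain ⟨x, hx, y, hy, h⟩ := exists_mul_of_coprime_index hcop ⟨g, hg⟩
  refine ⟨x, ?_, y, mem_subgroupOf.mp hy, congrArg Subtype.val h⟩
  exact mem_centralizer_singleton_iff.mp (mem_subgroupOf.mp hx)

end General

namespace Env

variable {G : Type*} [Group G] {F : Type*} [Field F] [Fintype F] [CharP F 2] {m : ℕ}
variable (E : Env G F m)

include E in
theorem exists_norm (b : F) : ∃ a : F, a ^ (1 + 2 ^ (m + 1)) = b :=
  ⟨b ^ (2 ^ (m + 1) - 1), SzMaps.norm_surj E.hF b⟩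

/-- `N(T)` normalizes `Z`. -/
theorem conj_z {g : G} (hg : g ∈ normalizer (E.T : Set G)) (b : F) :
    ∃ b', g * E.p 0 b * g⁻¹ = E.p 0 b' := by
  obtain ⟨a, rfl⟩ := E.exists_norm b
  obtain ⟨c, d, h | h⟩ := (mem_normalizer_iff.mp hg _).mp (E.p_mem_T a 0)
  · refine ⟨c ^ (1 + 2 ^ (m + 1)), ?_⟩
    rw [← E.p_sq a 0, ← E.p_sq c d, ← h]; group
  · refine ⟨c ^ (1 + 2 ^ (m + 1)), ?_⟩
    rw [← E.p_sq a 0, ← E.pt_sq c d, ← h]; group

/-- `N(T)` permutes the `p 0 u * t`. -/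
theorem conj_t {g : G} (hg : g ∈ normalizer (E.T : Set G)) :
    ∃ u, g * E.t * g⁻¹ = E.p 0 u * E.t := by
  have h1 := (mem_normalizer_iff.mp hg _).mp E.t_mem_T
  have h2 : (g * E.t * g⁻¹) * (g * E.t * g⁻¹) = 1 := by
    have : (g * E.t * g⁻¹) * (g * E.t * g⁻¹) = g * (E.t * E.t) * g⁻¹ := by group
    rw [this, E.t_sq, mul_one, mul_inv_cancel]
  obtain ⟨b, h | h⟩ := E.eq_of_mem_T h1 h2
  · exfalso
    obtain ⟨b', hb'⟩ := E.conj_z (inv_mem hg) b
    apply E.t_not 0 b'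
    rw [← hb', ← h]; group
  · exact ⟨b, h⟩

/-- the 2-elements of `N(T)` centralize `Z` (and act trivially modulo `⟨t⟩Z`). -/
theorem two_comm_z {g : G} (hg : g ∈ normalizer (E.T : Set G)) {k : ℕ} (hk : g ^ 2 ^ k = 1) (b : F) :
    g * E.p 0 b = E.p 0 b * g := by
  classical
  choose B hB using E.conj_z hg
  have hA' : ∀ a, ∃ c d, ∃ e : G, (e = 1 ∨ e = E.t) ∧ g * E.p a 0 * g⁻¹ = E.p c d * e := by
    intro a
    obtain ⟨c, d, h | h⟩ := (mem_normalizer_iff.mp hg _).mp (E.p_mem_T a 0)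
    · exact ⟨c, d, 1, Or.inl rfl, by rw [h, mul_one]⟩
    · exact ⟨c, d, E.t, Or.inr rfl, h⟩
  choose A A2 ε hε hA using hA'
  have hεc : ∀ a, ∀ c d, ε a * E.p c d = E.p c d * ε a := by
    intro a c d
    rcases hε a with h | h
    · rw [h, one_mul, mul_one]
    · rw [h, E.t_p]
  have hεε : ∀ a a', ε a * ε a' = ε a' * ε a := by
    intro a a'
    rcases hε a with h | h <;> rcases hε a' with h' | h' <;> rw [h, h'] <;> simp
  have hε2 : ∀ a, ε a * ε a = 1 := by
    intro a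
    rcases hε a with h | h
    · rw [h, one_mul]
    · rw [h, E.t_sq]
  have hBadd : ∀ x y, B (x + y) = B x + B y := by
    intro x y
    apply E.z_inj
    rw [← hB, ← E.z_mul, ← E.z_mul, ← hB, ← hB]; group
  have hN : ∀ x, (A x) ^ (1 + 2 ^ (m + 1)) = B (x ^ (1 + 2 ^ (m + 1))) := by
    intro x
    apply E.z_inj
    rw [← hB, ← E.p_sq x 0, ← E.p_sq (A x) (A2 x)]
    have : g * (E.p x 0 * E.p x 0) * g⁻¹ = (g * E.p x 0 * g⁻¹) * (g * E.p x 0 * g⁻¹) := by group
    rw [this, hA]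
    calc E.p (A x) (A2 x) * E.p (A x) (A2 x)
        = E.p (A x) (A2 x) * E.p (A x) (A2 x) * (ε x * ε x) := by rw [hε2, mul_one]
      _ = E.p (A x) (A2 x) * (E.p (A x) (A2 x) * ε x) * ε x := by group
      _ = E.p (A x) (A2 x) * (ε x * E.p (A x) (A2 x)) * ε x := by rw [hεc]
      _ = E.p (A x) (A2 x) * ε x * (E.p (A x) (A2 x) * ε x) := by group
  have hbt : ∀ x y, bt m (A x) (A y) = B (bt m x y) := by
    intro x y
    apply E.z_inj
    rw [← hB]
    have h1 : E.p 0 (bt m x y) = E.p x 0 * E.p y 0 * (E.p x 0)⁻¹ * (E.p y 0)⁻¹ := by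
      rw [eq_mul_inv_iff_mul_eq, eq_mul_inv_iff_mul_eq, mul_assoc]
      exact (E.p_comm x 0 y 0).symm
    have h2 : E.p 0 (bt m (A x) (A y)) =
        E.p (A x) (A2 x) * E.p (A y) (A2 y) * (E.p (A x) (A2 x))⁻¹ * (E.p (A y) (A2 y))⁻¹ := by
      rw [eq_mul_inv_iff_mul_eq, eq_mul_inv_iff_mul_eq, mul_assoc]
      exact (E.p_comm _ _ _ _).symm
    have h3 : g * E.p 0 (bt m x y) * g⁻¹ = (g * E.p x 0 * g⁻¹) * (g * E.p y 0 * g⁻¹) *
        (g * E.p x 0 * g⁻¹)⁻¹ * (g * E.p y 0 * g⁻¹)⁻¹ := by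
      rw [h1]; group
    rw [h3, hA, hA, h2]
    set P1 := E.p (A x) (A2 x)
    set P2 := E.p (A y) (A2 y)
    set e1 := ε x
    set e2 := ε y
    have c12 : Commute e1 P2 := hεc x _ _
    have c11 : Commute e1 P1 := hεc x _ _
    have c21 : Commute e2 P1 := hεc y _ _
    have c22 : Commute e2 P2 := hεc y _ _
    have cee : Commute e1 e2 := hεε x y
    have h4 : (P1 * e1) * (P2 * e2) = (P1 * P2) * (e1 * e2) := by
      calc (P1 * e1) * (P2 * e2) = P1 * (e1 * P2) * e2 := by group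
        _ = P1 * (P2 * e1) * e2 := by rw [c12.eq]
        _ = (P1 * P2) * (e1 * e2) := by group
    have h5 : (P2 * e2) * (P1 * e1) = (P2 * P1) * (e1 * e2) := by
      calc (P2 * e2) * (P1 * e1) = P2 * (e2 * P1) * e1 := by group
        _ = P2 * (P1 * e2) * e1 := by rw [c21.eq]
        _ = (P2 * P1) * (e2 * e1) := by group
        _ = (P2 * P1) * (e1 * e2) := by rw [cee.eq]
    calc P1 * P2 * P1⁻¹ * P2⁻¹ = (P1 * P2) * (P2 * P1)⁻¹ := by group
      _ = ((P1 * P2) * (e1 * e2)) * ((P2 * P1) * (e1 * e2))⁻¹ := by group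
      _ = ((P1 * e1) * (P2 * e2)) * ((P2 * e2) * (P1 * e1))⁻¹ := by rw [h4, h5]
      _ = P1 * e1 * (P2 * e2) * (P1 * e1)⁻¹ * (P2 * e2)⁻¹ := by group
  have hit : ∀ n : ℕ, ∀ x, g ^ n * E.p 0 x * (g ^ n)⁻¹ = E.p 0 (B^[n] x) := by
    intro n
    induction n with
    | zero => intro x; simp
    | succ n ih =>
      intro x
      rw [Function.iterate_succ_apply', ← hB, ← ih, pow_succ']
      group
  have hBk : ∀ x, B^[2 ^ k] x = x := by
    intro x
    apply E.z_inj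
    rw [← hit, hk]; group
  have h := (Hyperplane.eq_id_form E.hF A B hBadd hN hbt k hBk).2 b
  have h2 := hB b
  rw [h, mul_inv_eq_iff_eq_mul] at h2
  exact h2

variable [Finite G]

/-- If `t` is not centralized by `N(T)`, all the `p 0 u * t` are conjugate to `t` in `N(T)`. -/
theorem exists_conj_t (hfus : ∃ g ∈ normalizer (E.T : Set G), g * E.t * g⁻¹ ≠ E.t) (u : F) :
    ∃ g ∈ normalizer (E.T : Set G), g * E.t * g⁻¹ = E.p 0 u * E.t := by
  obtain ⟨g, hg, hne⟩ := hfus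
  obtain ⟨v, hv⟩ := E.conj_t hg
  have hv0 : v ≠ 0 := by
    rintro rfl
    rw [E.p_zero, one_mul] at hv
    exact hne hv
  by_cases hu : u = 0
  · refine ⟨1, one_mem _, ?_⟩
    rw [hu, E.p_zero]; group
  · obtain ⟨a, ha⟩ := E.exists_norm (u / v)
    have ha0 : a ≠ 0 := by
      rintro rfl
      rw [zero_pow (by positivity)] at ha
      rcases div_eq_zero_iff.mp ha.symm with h | h
      · exact hu h
      · exact hv0 h
    obtain ⟨d, hd, hda⟩ := E.D_surj (Units.mk0 a ha0)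
    refine ⟨d * g * d⁻¹, mul_mem (mul_mem (E.D_le_normalizer hd) hg)
      (inv_mem (E.D_le_normalizer hd)), ?_⟩
    have hdt : d⁻¹ * E.t * d = E.t := by
      rw [mul_assoc, ← E.D_t d hd]; group
    have h1 : d * g * d⁻¹ * E.t * (d * g * d⁻¹)⁻¹ = d * (g * (d⁻¹ * E.t * d) * g⁻¹) * d⁻¹ := by
      group
    rw [h1, hdt, hv]
    have h2 : d * (E.p 0 v * E.t) * d⁻¹ = (d * E.p 0 v * d⁻¹) * (d * E.t * d⁻¹) := by group
    rw [h2, hda, E.D_t d hd, mul_inv_cancel_right, Units.val_mk0, mul_zero, ha, div_mul_cancel₀ _ hv0]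

/-- The first step: the Sylow 2-subgroups of `N(T)`. -/
theorem exists_first (hfus : ∃ g ∈ normalizer (E.T : Set G), g * E.t * g⁻¹ ≠ E.t) :
    ∃ Q : Subgroup G, IsPGroup 2 Q ∧ E.T ≤ Q ∧ Q ≤ normalizer (E.T : Set G) ∧
      (∀ X : Subgroup G, IsPGroup 2 X → X ≤ normalizer (E.T : Set G) → Q ≤ X → X = Q) ∧
      (∀ u, ∃ g ∈ Q, g * E.t * g⁻¹ = E.p 0 u * E.t) ∧
      (∀ g ∈ Q, ∀ b, g * E.p 0 b = E.p 0 b * g) ∧
      ∃ h : Fˣ → G, (∀ l, h l ∈ E.D) ∧ (∀ l, Acts m E.p (h l) l) ∧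
        (∀ l, h l ∈ normalizer (Q : Set G)) ∧
        ∀ l l', ∀ x ∈ Q, h (l * l') * x * (h (l * l'))⁻¹ = h l * (h l' * x * (h l')⁻¹) * (h l)⁻¹ := by
  classical
  have : Fact (Nat.Prime 2) := ⟨Nat.prime_two⟩
  set N := normalizer (E.T : Set G) with hNdef
  have hTN : E.T ≤ N := le_normalizer
  have hT1 : IsPGroup 2 (E.T.subgroupOf N) := E.T_two.comap_subtype
  obtain ⟨P1, hP1⟩ := hT1.exists_le_sylow
  let Q : Subgroup G := (P1 : Subgroup N).map N.subtype
  have hQ2 : IsPGroup 2 Q := P1.isPGroup'.map _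
  have hTQ : E.T ≤ Q := by
    intro x hx
    exact ⟨⟨x, hTN hx⟩, hP1 (mem_subgroupOf.mpr hx), rfl⟩
  have hQN : Q ≤ N := by
    rintro _ ⟨x, -, rfl⟩
    exact x.2
  have hmax : ∀ X : Subgroup G, IsPGroup 2 X → X ≤ N → Q ≤ X → X = Q := by
    intro X hX hXN hQX
    have h1 : IsPGroup 2 (X.subgroupOf N) := hX.comap_subtype
    have h2 : (P1 : Subgroup N) ≤ X.subgroupOf N := by
      intro x hx
      exact mem_subgroupOf.mpr (hQX ⟨x, hx, rfl⟩)
    have h3 := P1.is_maximal' h1 h2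
    apply le_antisymm
    · intro x hx
      have h4 : (⟨x, hXN hx⟩ : N) ∈ X.subgroupOf N := mem_subgroupOf.mpr hx
      rw [h3] at h4
      exact ⟨_, h4, rfl⟩
    · exact hQX
  have hcn : Nat.card F = 2 ^ (2 * m + 1) := by rw [Nat.card_eq_fintype_card, E.hF]
  -- factorization
  have hfac : ∀ g ∈ N, ∃ c, c * E.t = E.t * c ∧ ∃ x ∈ Q, g = c * x := by
    have hex : ∀ g : N, ∃ u, (g : G) * E.t * (g : G)⁻¹ = E.p 0 u * E.t := fun g => E.conj_t g.2
    choose f hf using hex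
    refine exists_fac hQN hQ2 hmax f ?_ ?_ hcn
    · intro a b
      rw [hf, hf]
      constructor
      · intro h; rw [h]
      · intro h; exact E.z_inj (mul_right_cancel h)
    · intro u
      obtain ⟨g, hg, h⟩ := E.exists_conj_t hfus u
      refine ⟨⟨g, hg⟩, ?_⟩
      have := hf ⟨g, hg⟩
      rw [h] at this
      exact (E.z_inj (mul_right_cancel this)).symm
  have hZ2 : ∀ g ∈ N, (∃ k : ℕ, g ^ 2 ^ k = 1) → ∀ b, g * E.p 0 b = E.p 0 b * g :=
    fun g hg ⟨k, hk⟩ b => E.two_comm_z hg hk b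
  have hQp : ∀ x ∈ Q, ∃ k : ℕ, x ^ 2 ^ k = 1 := by
    intro x hx
    obtain ⟨k, hk⟩ := hQ2 ⟨x, hx⟩
    exact ⟨k, congrArg Subtype.val hk⟩
  refine ⟨Q, hQ2, hTQ, hQN, hmax, ?_, fun g hg b => hZ2 g (hQN hg) (hQp g hg) b, ?_⟩
  · intro u
    obtain ⟨g, hg, h⟩ := E.exists_conj_t hfus u
    obtain ⟨c, hc, x, hx, hcx⟩ := hfac g⁻¹ (inv_mem hg)
    -- `g = x⁻¹ c⁻¹`
    refine ⟨x⁻¹, inv_mem hx, ?_⟩
    have hg' : g = x⁻¹ * c⁻¹ := by rw [← mul_inv_rev, ← hcx, inv_inv]
    have hct : c⁻¹ * E.t * c = E.t := by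
      rw [mul_assoc, ← hc]; group
    rw [← h, hg']
    calc x⁻¹ * E.t * x⁻¹⁻¹ = x⁻¹ * (c⁻¹ * E.t * c) * x⁻¹⁻¹ := by rw [hct]
      _ = x⁻¹ * c⁻¹ * E.t * (x⁻¹ * c⁻¹)⁻¹ := by group
  · have h1 := E.dFull_of_sylow hQ2 le_rfl hTQ hQN hmax E.dFull_T (fun g hg b => E.conj_z hg b)
      hZ2 hfac
    choose h hhD hhN hhQ hha using h1
    refine ⟨h, hhD, hha, hhQ, ?_⟩
    intro l l' x hx
    set y := (h (l * l'))⁻¹ * (h l * h l') with hy
    have hyD : y ∈ E.D := mul_mem (inv_mem (hhD _)) (mul_mem (hhD _) (hhD _))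
    have hy1 : Acts m E.p y 1 := by
      have := E.acts_mul (E.acts_inv (hha (l * l'))) (E.acts_mul (hha l) (hha l'))
      rwa [inv_mul_cancel] at this
    have hyN : y ∈ normalizer (Q : Set G) :=
      mul_mem (inv_mem (hhQ _)) (mul_mem (hhQ _) (hhQ _))
    have hyc := E.centralizes_of_le hQ2 hTQ (E.odd_of_mem_D hyD) (E.D_t y hyD)
      (E.acts_one_iff.mp hy1) hyN x hx
    have h2 : h l * h l' = h (l * l') * y := by rw [hy]; group
    calc h (l * l') * x * (h (l * l'))⁻¹ = h (l * l') * (x * y) * y⁻¹ * (h (l * l'))⁻¹ := by group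
      _ = h (l * l') * (y * x) * y⁻¹ * (h (l * l'))⁻¹ := by rw [hyc]
      _ = (h (l * l') * y) * x * (h (l * l') * y)⁻¹ := by group
      _ = (h l * h l') * x * (h l * h l')⁻¹ := by rw [← h2]
      _ = h l * (h l' * x * (h l')⁻¹) * (h l)⁻¹ := by group

end Env

end Cfsg.Agent.StdSz.Env
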