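import Mathlib
import Cfsg.Agent.ThreePrime.SzDataExists
import Cfsg.Agent.ThreePrime.AutQuot
import Cfsg.Agent.StdSz.EnvFirst

/-!
# Coordinates of a Sylow 2-subgroup of a perfect central extension `X` of `Sz(q)` by a group of
odd order, and the action of the normalizer of `A` on it.
-/

set_option autoImplicit false
set_option linter.unusedSectionVars false
set_option linter.dupNamespace false

namespace Cfsg.Agent.StdSz.Base

open Subgroup Cfsg.Agent.ThreePrime Cfsg.Agent.ThreePrime.AutQuot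

section Lift

variable {X : Type*} [Group X] [Finite X] {F : Type*} [Field F] [Fintype F] {m : ℕ}

theorem eq_one_of_two_odd {x : X} {k : ℕ} (hk : x ^ 2 ^ k = 1) {n : ℕ} (hn : Odd n)
    (hx : orderOf x ∣ n) : x = 1 := by
  have h1 : orderOf x ∣ 2 ^ k := orderOf_dvd_of_pow_eq_one hk
  have h2 : Nat.Coprime (2 ^ k) n := Nat.Coprime.pow_left _ (Nat.coprime_two_left.mpr hn)
  exact orderOf_eq_one_iff.mp (Nat.eq_one_of_dvd_coprimes h2 h1 hx)

/-- two elements of 2-power order with the same image in `X / Z(X)`, `|Z(X)|` odd, are equal. -/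
theorem eq_of_mk_eq (hZ : Odd (Nat.card (center X))) {x y : X} {k l : ℕ} (hx : x ^ 2 ^ k = 1)
    (hy : y ^ 2 ^ l = 1) (h : (QuotientGroup.mk x : X ⧸ center X) = QuotientGroup.mk y) :
    x = y := by
  have h1 : x⁻¹ * y ∈ center X := QuotientGroup.eq.mp h
  set z := x⁻¹ * y with hz
  have hy' : y = x * z := by rw [hz, mul_inv_cancel_left]
  have hcomm : Commute x z := mem_center_iff.mp h1 x
  have h2 : z ^ 2 ^ (k + l) = 1 := by
    have h3 : y ^ 2 ^ (k + l) = 1 := by rw [pow_add, mul_comm (2 ^ k), pow_mul, hy, one_pow]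
    rw [hy', hcomm.mul_pow, pow_add, pow_mul, hx, one_pow, one_mul] at h3
    rw [pow_add]; exact h3
  have h3 : z = 1 := eq_one_of_two_odd h2 hZ (Subgroup.orderOf_dvd_natCard _ h1)
  rw [hy', h3, mul_one]

variable (R : SzRel.Rel (X ⧸ center X) F)

include R in
theorem exists_lift (hZ : Odd (Nat.card (center X))) (hm : 1 ≤ m)
    (hF : Fintype.card F = 2 ^ (2 * m + 1)) :
    ∃ (P1 : Sylow 2 X) (q : F → F → X), (∀ a b, q a b ∈ (P1 : Subgroup X)) ∧
      (∀ x ∈ (P1 : Subgroup X), ∃ a b, x = q a b) ∧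
      (∀ a b, (QuotientGroup.mk (q a b) : X ⧸ center X) = R.u a b) ∧
      (∀ w : X, (∃ k : ℕ, w ^ 2 ^ k = 1) → ∀ a b, (QuotientGroup.mk w : X ⧸ center X) = R.u a b →
        w = q a b) := by
  have : Fact (Nat.Prime 2) := ⟨Nat.prime_two⟩
  obtain ⟨PJ, hPJ⟩ := R.exists_sylow_eq hm hF
  have hsurj : Function.Surjective (QuotientGroup.mk' (center X)) := QuotientGroup.mk'_surjective _
  obtain ⟨P1, hP1⟩ := Sylow.mapSurjective_surjective hsurj 2 PJ
  have hmap : (P1 : Subgroup X).map (QuotientGroup.mk' (center X)) = R.T := by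
    rw [← hPJ, ← hP1]; rfl
  have hex : ∀ a b, ∃ x ∈ (P1 : Subgroup X), (QuotientGroup.mk x : X ⧸ center X) = R.u a b := by
    intro a b
    have h1 : R.u a b ∈ R.T := R.u_mem a b
    rw [← hmap] at h1
    obtain ⟨x, hx, hxy⟩ := h1
    exact ⟨x, hx, hxy⟩
  choose q hq hqu using hex
  have htwo : ∀ x ∈ (P1 : Subgroup X), ∃ k : ℕ, x ^ 2 ^ k = 1 := by
    intro x hx
    obtain ⟨k, hk⟩ := P1.isPGroup' ⟨x, hx⟩
    exact ⟨k, congrArg Subtype.val hk⟩
  have huniq : ∀ w : X, (∃ k : ℕ, w ^ 2 ^ k = 1) → ∀ a b,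
      (QuotientGroup.mk w : X ⧸ center X) = R.u a b → w = q a b := by
    rintro w ⟨k, hk⟩ a b h
    obtain ⟨l, hl⟩ := htwo _ (hq a b)
    exact eq_of_mk_eq hZ hk hl (by rw [h, hqu])
  refine ⟨P1, q, hq, ?_, hqu, huniq⟩
  intro x hx
  have h1 : (QuotientGroup.mk x : X ⧸ center X) ∈ R.T := by
    rw [← hmap]; exact ⟨x, hx, rfl⟩
  obtain ⟨a, b, hab⟩ := h1
  exact ⟨a, b, huniq x (htwo x hx) a b hab⟩

end Lift

section Group

variable {G : Type*} [Group G] {A : Subgroup G}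

theorem normalizerMonoidHom_apply (x : normalizer (A : Set G)) (a : A) :
    ((A.normalizerMonoidHom x a : A) : G) = (x : G) * a * (x : G)⁻¹ := rfl

/-- An element of `N(A)` inducing an inner automorphism `conj a` on `A / Z(A)`, `A` perfect, is a
product `a * k`, `k ∈ C(A)`. -/
theorem inv_mul_mem_of_autQuot (hA : Group.IsPerfect A) (x : normalizer (A : Set G)) (a : A)
    (h : autQuot A (A.normalizerMonoidHom x) = MulAut.conj (QuotientGroup.mk a : A ⧸ center A)) :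
    (a : G)⁻¹ * x ∈ centralizer (A : Set G) := by
  have h1 := eq_conj_of_autQuot_eq hA h
  rw [mem_centralizer_iff]
  intro b hb
  have h2 := congrArg (fun φ : MulAut A => ((φ ⟨b, hb⟩ : A) : G)) h1
  simp only [normalizerMonoidHom_apply, MulAut.conj_apply, Subgroup.coe_mul, Subgroup.coe_inv] at h2
  -- `x b x⁻¹ = a b a⁻¹`
  calc b * ((a : G)⁻¹ * x) = (a : G)⁻¹ * (a * b * (a : G)⁻¹) * x := by group
    _ = (a : G)⁻¹ * (x * b * (x : G)⁻¹) * x := by rw [h2]
    _ = (a : G)⁻¹ * x * b := by group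

variable [Finite G] {F : Type*} [Field F] [Fintype F] {m : ℕ}
variable (R : SzRel.Rel (A ⧸ center A) F)

include R in
/-- 2-elements of `N(A)` lie in `A C(A)`. -/
theorem exists_inv_mul_mem (hA : Group.IsPerfect A) (hm : 1 ≤ m)
    (hF : Fintype.card F = 2 ^ (2 * m + 1)) {x : G} (hx : x ∈ normalizer (A : Set G)) {k : ℕ}
    (hk : x ^ 2 ^ k = 1) : ∃ a : A, (a : G)⁻¹ * x ∈ centralizer (A : Set G) := by
  have h1 : (autQuot A (A.normalizerMonoidHom ⟨x, hx⟩)) ^ 2 ^ k = 1 := by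
    rw [← map_pow, ← map_pow]
    have : (⟨x, hx⟩ : normalizer (A : Set G)) ^ 2 ^ k = 1 := Subtype.ext hk
    rw [this, map_one, map_one]
  obtain ⟨j, hj⟩ := R.inner hm hF _ ⟨k, h1⟩
  obtain ⟨a, rfl⟩ := QuotientGroup.mk_surjective j
  exact ⟨a, inv_mul_mem_of_autQuot hA ⟨x, hx⟩ a hj⟩

include R in
/-- Elements of odd order of `N(A)` centralizing the unipotent subgroup centralize `A`. -/
theorem mem_centralizer_of_odd (hA : Group.IsPerfect A) (hm : 1 ≤ m)
    (hF : Fintype.card F = 2 ^ (2 * m + 1)) {y : G} (hy : y ∈ normalizer (A : Set G))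
    (ho : Odd (orderOf y))
    (hq : ∀ j ∈ R.T, ∃ a : A, QuotientGroup.mk a = j ∧ y * a = a * y) :
    y ∈ centralizer (A : Set G) := by
  set φ := autQuot A (A.normalizerMonoidHom ⟨y, hy⟩) with hφ
  have h1 : Odd (orderOf φ) := by
    apply Odd.of_dvd_nat ho
    have h2 : orderOf φ ∣ orderOf (⟨y, hy⟩ : normalizer (A : Set G)) :=
      (orderOf_map_dvd _ _).trans (orderOf_map_dvd _ _)
    rwa [Subgroup.orderOf_mk] at h2
  have h2 : ∀ j ∈ R.T, φ j = j := by
    intro j hj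
    obtain ⟨a, rfl, ha⟩ := hq j hj
    rw [hφ, autQuot_mk]
    congr 1
    apply Subtype.ext
    rw [normalizerMonoidHom_apply]
    rw [ha, mul_inv_cancel_right]
  have h3 := R.cent hm hF φ h1 h2
  have h4 := inv_mul_mem_of_autQuot hA ⟨y, hy⟩ 1 (by
    rw [← hφ, h3, QuotientGroup.mk_one, map_one])
  simpa using h4

theorem centre_trivial_of_simple {J : Type*} [Group J] (hJ : IsSimpleGroup J)
    (hJ2 : ∃ x y : J, x * y ≠ y * x) : center J = ⊥ := by
  rcases (inferInstance : (center J).Normal).eq_bot_or_eq_top with h | h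
  · exact h
  · exfalso
    obtain ⟨x, y, hxy⟩ := hJ2
    have : y ∈ center J := by rw [h]; exact mem_top y
    exact hxy (mem_center_iff.mp this x)

include R in
theorem exists_not_comm (hm : 1 ≤ m) (hF : Fintype.card F = 2 ^ (2 * m + 1)) :
    ∃ x y : A ⧸ center A, x * y ≠ y * x := by
  have h8 : 8 ≤ Nat.card F := by
    rw [Nat.card_eq_fintype_card, hF]
    exact SzRel.Rel.eight_le hm
  obtain ⟨x, hx⟩ := R.exists_theta_ne h8
  refine ⟨R.u 1 0, R.u x 0, ?_⟩
  intro h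
  rw [R.comm_iff, one_mul, map_one, mul_one] at h
  exact hx h

/-- A 2-subgroup `Y` of `N(A)` containing a Sylow 2-subgroup of `A` lies in the product of that
Sylow subgroup and `C(A)`. -/
theorem exists_mem_sylow (hA : Cfsg.IsQuasisimple A) (hm : 1 ≤ m)
    (hF : Fintype.card F = 2 ^ (2 * m + 1)) {P : Subgroup A}
    (hPT : P.map (QuotientGroup.mk' (center A)) = R.T) {Y : Subgroup G} (hY : IsPGroup 2 Y)
    (hYN : Y ≤ normalizer (A : Set G)) (hPY : ∀ x ∈ P, (x : G) ∈ Y) {y : G} (hy : y ∈ Y) :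
    ∃ x ∈ P, (x : G)⁻¹ * y ∈ centralizer (A : Set G) := by
  have : Fact (Nat.Prime 2) := ⟨Nat.prime_two⟩
  have hcJ : center (A ⧸ center A) = ⊥ :=
    centre_trivial_of_simple hA.2 (exists_not_comm R hm hF)
  have hYp : ∀ x ∈ Y, ∃ k : ℕ, x ^ 2 ^ k = 1 := by
    intro x hx
    obtain ⟨k, hk⟩ := hY ⟨x, hx⟩
    exact ⟨k, congrArg Subtype.val hk⟩
  -- the group of `j` with `conj j` induced by an element of `Y`
  let c : normalizer (A : Set G) →* MulAut (A ⧸ center A) :=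
    (autQuot A).comp A.normalizerMonoidHom
  let W : Subgroup (A ⧸ center A) :=
    ((Y.subgroupOf (normalizer (A : Set G))).map c).comap MulAut.conj
  have hWp : IsPGroup 2 W := by
    rintro ⟨j, x, hx, hxj⟩
    obtain ⟨k, hk⟩ := hYp _ (mem_subgroupOf.mp hx)
    refine ⟨k, Subtype.ext ?_⟩
    show j ^ 2 ^ k = 1
    have h1 : MulAut.conj (j ^ 2 ^ k) = 1 := by
      rw [map_pow, ← hxj, ← map_pow]
      have : x ^ 2 ^ k = 1 := Subtype.ext hk
      rw [this, map_one]
    have h2 : j ^ 2 ^ k ∈ center (A ⧸ center A) := by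
      rw [mem_center_iff]
      intro g
      have h3 := congrArg (fun φ : MulAut (A ⧸ center A) => φ g) h1
      simp only [MulAut.conj_apply, MulAut.one_apply] at h3
      rw [mul_inv_eq_iff_eq_mul] at h3
      exact h3.symm
    rw [hcJ, mem_bot] at h2
    exact h2
  have hTW : R.T ≤ W := by
    rw [← hPT]
    rintro _ ⟨x, hx, rfl⟩
    have hxN : (x : G) ∈ normalizer (A : Set G) := le_normalizer x.2
    refine ⟨⟨x, hxN⟩, mem_subgroupOf.mpr (hPY x hx), ?_⟩
    show autQuot A (A.normalizerMonoidHom ⟨x, hxN⟩) = _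
    have : A.normalizerMonoidHom ⟨x, hxN⟩ = MulAut.conj x := by
      ext a
      rfl
    rw [this, autQuot_conj]
    rfl
  obtain ⟨PJ, hPJ⟩ := R.exists_sylow_eq hm hF
  have hWT : W = R.T := by
    rw [← hPJ] at hTW ⊢
    exact PJ.is_maximal' hWp hTW
  obtain ⟨k, hk⟩ := hYp y hy
  have h1 : (c ⟨y, hYN hy⟩) ^ 2 ^ k = 1 := by
    rw [← map_pow]
    have : (⟨y, hYN hy⟩ : normalizer (A : Set G)) ^ 2 ^ k = 1 := Subtype.ext hk
    rw [this, map_one]
  obtain ⟨j, hj⟩ := R.inner hm hF _ ⟨k, h1⟩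
  have h2 : j ∈ W := ⟨⟨y, hYN hy⟩, mem_subgroupOf.mpr hy, hj⟩
  rw [hWT, ← hPT] at h2
  obtain ⟨x, hx, rfl⟩ := h2
  exact ⟨x, hx, inv_mul_mem_of_autQuot hA.1 ⟨y, hYN hy⟩ x hj⟩

/-- An element of `N(A)` commuting with the involutions `u 0 b` normalizes the unipotent
subgroup. -/
theorem conj_mem_of_comm (hm : 1 ≤ m) (hF : Fintype.card F = 2 ^ (2 * m + 1))
    (x : normalizer (A : Set G)) (w : A) (hw : QuotientGroup.mk w = R.u 0 1)
    (hxw : (x : G) * w = w * x) (a : A) (ha : (QuotientGroup.mk a : A ⧸ center A) ∈ R.T) :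
    (QuotientGroup.mk (A.normalizerMonoidHom x a) : A ⧸ center A) ∈ R.T := by
  have : Fact (Nat.Prime 2) := ⟨Nat.prime_two⟩
  obtain ⟨PJ, hPJ⟩ := R.exists_sylow_eq hm hF
  set φ := autQuot A (A.normalizerMonoidHom x) with hφ
  have hφw : φ (R.u 0 1) = R.u 0 1 := by
    rw [← hw, hφ, autQuot_mk]
    congr 1
    apply Subtype.ext
    rw [normalizerMonoidHom_apply, hxw, mul_inv_cancel_right]
  obtain ⟨j, hj⟩ := MulAction.exists_smul_eq (A ⧸ center A) PJ (φ • PJ)
  have hmem : ∀ y, y ∈ R.T → φ y ∈ ((j • PJ : Sylow 2 (A ⧸ center A)) : Subgroup (A ⧸ center A)) := by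
    intro y hy
    rw [hj, Sylow.pointwise_smul_def]
    rw [← hPJ] at hy
    exact Subgroup.smul_mem_pointwise_smul _ φ _ hy
  have hconj : ∀ y, y ∈ ((j • PJ : Sylow 2 (A ⧸ center A)) : Subgroup (A ⧸ center A)) →
      j⁻¹ * y * j ∈ R.T := by
    intro y hy
    rw [Sylow.smul_def, Sylow.pointwise_smul_def,
      Subgroup.mem_pointwise_smul_iff_inv_smul_mem] at hy
    have h1 : (MulAut.conj j)⁻¹ • y = j⁻¹ * y * j := by
      show (MulAut.conj j)⁻¹ y = _
      rw [← map_inv, MulAut.conj_apply, inv_inv]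
    rw [h1, ← hPJ] at *
    exact hy
  have h1 : j⁻¹ * R.u 0 1 * j ∈ R.T := by
    apply hconj
    have := hmem _ (R.u_mem 0 1)
    rwa [hφw] at this
  have h2 : j⁻¹ ∈ normalizer (R.T : Set (A ⧸ center A)) := by
    refine R.ti (R.u_mem 0 1) (R.u_ne_one one_ne_zero) ?_
    rwa [inv_inv]
  have h3 := hconj _ (hmem _ ha)
  rw [hφ, autQuot_mk] at h3
  have h4 := (mem_normalizer_iff.mp h2 (QuotientGroup.mk (A.normalizerMonoidHom x a))).mpr
    (by rwa [inv_inv])
  exact h4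

end Group

end Cfsg.Agent.StdSz.Base
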