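import Cfsg.Agent.StdSz.BorelCoord
import Mathlib.GroupTheory.Transfer

/-!
# Central extensions of Suzuki groups by 2-groups with one involution

`π : A → S` has central kernel, `P` a 2-subgroup of `A` mapping onto the unipotent group, `t` the
only involution of `P` in the kernel.  If moreover `t ∈ ⁅P, P⁆`, the centre of `P / ker` lifts to an
elementary abelian group `zh F` on which `P` acts by all transvections with centre `t`.
-/

set_option autoImplicit false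
set_option linter.unusedSectionVars false
set_option linter.style.haveILetI false
set_option linter.unusedVariables false

namespace Cfsg.Agent.StdSz.CoverA

open scoped commutatorElement
open Cfsg.Agent.StdSz.EquivMaps Cfsg.Agent.StdSz.SzMaps Cfsg.Agent.StdSz.FormAlg
open Cfsg.Agent.StdSz.BorelCoord

/-- the transfer lemma: a central involution of a perfect group lies in `⁅P, P⁆`. -/
theorem mem_commutator_of_central {G : Type*} [Group G] [Finite G] (P : Subgroup G)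
    (hodd : Odd P.index) (z : G) (hz : z ∈ P) (hc : ∀ g : G, z * g = g * z) (hz2 : z * z = 1)
    (hcom : z ∈ commutator G) : (⟨z, hz⟩ : P) ∈ commutator P := by
  let V : G →* Abelianization P := MonoidHom.transfer (Abelianization.of)
  have h1 : V z = 1 := by
    have : commutator G ≤ V.ker := Abelianization.commutator_subset_ker V
    exact this hcom
  have h2 : V z = Abelianization.of ⟨z ^ P.index, Subgroup.pow_mem _ hz _⟩ := by
    have key : ∀ (k : ℕ) (g₀ : G), g₀⁻¹ * z ^ k * g₀ ∈ P → g₀⁻¹ * z ^ k * g₀ = z ^ k := by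
      intro k g₀ _
      have : Commute (z ^ k) g₀ := (Commute.pow_left (hc g₀) k)
      rw [mul_assoc, this.eq, inv_mul_cancel_left]
    exact MonoidHom.transfer_eq_pow _ z key
  have h3 : z ^ P.index = z := by
    obtain ⟨k, hk⟩ := hodd
    rw [hk, pow_succ, pow_mul, sq, hz2, one_pow, one_mul]
  rw [h1] at h2
  have h4 : Abelianization.of (⟨z, hz⟩ : P) = 1 := by
    have : (⟨z ^ P.index, Subgroup.pow_mem _ hz _⟩ : P) = ⟨z, hz⟩ := Subtype.ext h3
    rw [← this]; exact h2.symm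
  rw [← MonoidHom.mem_ker, Abelianization.ker_of] at h4
  exact h4

/-- sums of two powers of two are not divisible by `2 ^ n - 1`. -/
theorem two_pow_add_ne {n i j : ℕ} (hn : 3 ≤ n) (hi : i < n) (hj : j < n) :
    ¬ 1 * 2 ^ i + 1 * 2 ^ j ≡ 0 [MOD 2 ^ n - 1] := by
  rw [one_mul, one_mul]
  intro h
  have h2 : 2 ^ n = 2 * 2 ^ (n - 1) := by
    rw [← pow_succ']; congr 1; omega
  have h4 : 2 ^ (n - 1) = 2 * 2 ^ (n - 2) := by
    rw [← pow_succ']; congr 1; omega
  have h8 : 2 ≤ 2 ^ (n - 2) := by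
    calc 2 = 2 ^ 1 := by norm_num
      _ ≤ 2 ^ (n - 2) := Nat.pow_le_pow_right (by norm_num) (by omega)
  have hi' : 2 ^ i ≤ 2 ^ (n - 1) := Nat.pow_le_pow_right (by norm_num) (by omega)
  have hj' : 2 ^ j ≤ 2 ^ (n - 1) := Nat.pow_le_pow_right (by norm_num) (by omega)
  have pi : 1 ≤ 2 ^ i := Nat.one_le_two_pow
  have pj : 1 ≤ 2 ^ j := Nat.one_le_two_pow
  have hd : (2 ^ n - 1) ∣ 2 ^ i + 2 ^ j := (Nat.modEq_zero_iff_dvd).mp h
  obtain ⟨k, hk⟩ := hd
  have hk1 : k = 1 := by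
    rcases k with _ | _ | k
    · omega
    · rfl
    · exfalso
      have : (2 ^ n - 1) * 2 ≤ (2 ^ n - 1) * (k + 1 + 1) := Nat.mul_le_mul_left _ (by omega)
      omega
  rw [hk1, mul_one] at hk
  have key : ∀ a b : ℕ, a ≤ b → b < n → 2 ^ a + 2 ^ b = 2 ^ n - 1 → False := by
    intro a b hab hb he
    have hb' : 2 ^ b ≤ 2 ^ (n - 1) := Nat.pow_le_pow_right (by norm_num) (by omega)
    rcases Nat.eq_zero_or_pos a with rfl | ha
    · rw [pow_zero] at he
      rcases Nat.lt_or_ge b (n - 1) with hb2 | hb2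
      · have : 2 ^ b ≤ 2 ^ (n - 2) := Nat.pow_le_pow_right (by norm_num) (by omega)
        omega
      · have : b = n - 1 := by omega
        rw [this] at he
        omega
    · have ea : 2 ^ a = 2 * 2 ^ (a - 1) := by
        rw [← pow_succ']; congr 1; omega
      have eb : 2 ^ b = 2 * 2 ^ (b - 1) := by
        rw [← pow_succ']; congr 1; omega
      omega
  rcases le_total i j with hij | hij
  · exact key i j hij hj hk
  · exact key j i hij hi (by rw [add_comm]; exact hk)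

/-- invariant biadditive maps vanish. -/
theorem zero_of_invariant {F : Type*} [Field F] [Fintype F] {n : ℕ} (hn : 3 ≤ n)
    (hF : Fintype.card F = 2 ^ n) (f : F → F → F)
    (h1 : ∀ x x' y, f (x + x') y = f x y + f x' y)
    (h2 : ∀ x y y', f x (y + y') = f x y + f x y')
    (h : ∀ l x y : F, l ≠ 0 → f (l * x) (l * y) = f x y) (x y : F) : f x y = 0 := by
  obtain ⟨c, hc⟩ := exists_coeff₂ hF (by omega) f h1 h2
  have hz : ∀ i j : Fin n, c i j = 0 := by
    intro i j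
    apply coeff₂_eq_zero_of_equivariant hF (by omega) c 1 1 0
    · intro μ x y hμ
      rw [← hc, ← hc, pow_one, pow_zero, one_mul]
      exact h μ x y hμ
    · exact two_pow_add_ne hn i.2 j.2
  rw [hc]
  simp [hz]

variable {m : ℕ} {F : Type*} [Field F] {S : Type*} [Group S] {A : Type*} [Group A]

/-- the situation. -/
structure Cov (C : Data m F S) (π : A →* S) (P : Subgroup A) (t : A) : Prop where
  cen : ∀ x, π x = 1 → ∀ y, x * y = y * x
  to_p : ∀ x ∈ P, ∃ a b, π x = C.p a b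
  from_p : ∀ a b, ∃ x ∈ P, π x = C.p a b
  tor : ∀ l, ∃ g, π g = C.h l
  tor_P : ∀ g l, π g = C.h l → ∀ x ∈ P, g * x * g⁻¹ ∈ P
  t_mem : t ∈ P
  t_one : t ≠ 1
  t_sq : t * t = 1
  t_ker : π t = 1
  uniq : ∀ x ∈ P, π x = 1 → x * x = 1 → x = 1 ∨ x = t

namespace Cov

variable {C : Data m F S} {π : A →* S} {P : Subgroup A} {t : A} (K : Cov C π P t)
include K

theorem cl {x y z : A} (h : π ⁅y, z⁆ = 1) : ⁅x * y, z⁆ = ⁅x, z⁆ * ⁅y, z⁆ := by
  have h1 : ⁅x * y, z⁆ = (x * ⁅y, z⁆) * x⁻¹ * ⁅x, z⁆ := by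
    simp only [commutatorElement_def]; group
  rw [h1, ← K.cen _ h, mul_inv_cancel_right, K.cen _ h]

theorem cr {x y z : A} (h : π ⁅x, z⁆ = 1) : ⁅x, y * z⁆ = ⁅x, y⁆ * ⁅x, z⁆ := by
  have h1 : ⁅x, y * z⁆ = ⁅x, y⁆ * ((y * ⁅x, z⁆) * y⁻¹) := by
    simp only [commutatorElement_def]; group
  rw [h1, ← K.cen _ h, mul_inv_cancel_right]

theorem comm_one_of_ker {x : A} (h : π x = 1) (y : A) : ⁅x, y⁆ = 1 := by
  rw [commutatorElement_eq_one_iff_mul_comm]; exact K.cen x h y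

theorem comm_one_of_ker' {x : A} (h : π x = 1) (y : A) : ⁅y, x⁆ = 1 := by
  rw [commutatorElement_eq_one_iff_mul_comm]; exact (K.cen x h y).symm

/-- commutators depend only on the images. -/
theorem comm_eq {x x' y y' : A} (hx : π x = π x') (hy : π y = π y') : ⁅x, y⁆ = ⁅x', y'⁆ := by
  have h1 : π (x'⁻¹ * x) = 1 := by rw [map_mul, map_inv, hx, inv_mul_cancel]
  have h2 : π (y'⁻¹ * y) = 1 := by rw [map_mul, map_inv, hy, inv_mul_cancel]
  have e1 : x = x' * (x'⁻¹ * x) := by group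
  have e2 : y = y' * (y'⁻¹ * y) := by group
  rw [e1, K.cl (by rw [K.comm_one_of_ker h1, map_one]), K.comm_one_of_ker h1, mul_one, e2,
    K.cr (by rw [K.comm_one_of_ker' h2, map_one]), K.comm_one_of_ker' h2, mul_one]

omit K in
theorem conj_comm (g x y : A) : g * ⁅x, y⁆ * g⁻¹ = ⁅g * x * g⁻¹, g * y * g⁻¹⁆ := by
  simp only [commutatorElement_def]; group

theorem comm_mem {x y : A} (hx : x ∈ P) (hy : y ∈ P) : ⁅x, y⁆ ∈ P := by
  rw [commutatorElement_def]
  exact P.mul_mem (P.mul_mem (P.mul_mem hx hy) (P.inv_mem hx)) (P.inv_mem hy)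

theorem pi_conj {g x : A} {l : Fˣ} {a b : F} (hg : π g = C.h l) (hx : π x = C.p a b) :
    π (g * x * g⁻¹) = C.p (l * a) ((l : F) ^ (1 + 2 ^ (m + 1)) * b) := by
  rw [map_mul, map_mul, map_inv, hg, hx, C.h_p]

open Classical in
/-- `1 ↦ 0`, everything else `↦ 1`. -/
noncomputable def io (F : Type*) [Field F] (x : A) : F := if x = 1 then 0 else 1

omit K in
theorem io_one : io F (1 : A) = 0 := by
  unfold io; rw [if_pos rfl]

omit K in
theorem io_eq_zero {x : A} (h : io F x = 0) : x = 1 := by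
  unfold io at h
  by_contra h1
  rw [if_neg h1] at h
  exact one_ne_zero h

theorem io_mul [CharP F 2] {x y : A} (hx : x = 1 ∨ x = t) (hy : y = 1 ∨ y = t) :
    io F (x * y) = io F x + io F y := by
  have ht : io F t = 1 := by unfold io; rw [if_neg K.t_one]
  rcases hx with rfl | rfl <;> rcases hy with rfl | rfl
  · rw [one_mul, io_one, add_zero]
  · rw [one_mul, io_one, zero_add]
  · rw [mul_one, io_one, add_zero]
  · rw [K.t_sq, io_one, ht, CharTwo.add_self_eq_zero]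

section Main

variable [Fintype F] [CharP F 2]

/-- Step 1: lifts of `p 0 b` commute. -/
theorem comm_z (hm : 1 ≤ m) (hF : Fintype.card F = 2 ^ (2 * m + 1)) {x y : A} (hx : x ∈ P)
    (hy : y ∈ P) {b c : F} (hb : π x = C.p 0 b) (hc : π y = C.p 0 c) : ⁅x, y⁆ = 1 := by
  have hker : ∀ (x y : A) (b c : F), π x = C.p 0 b → π y = C.p 0 c → π ⁅x, y⁆ = 1 := by
    intro x y b c hx hy
    rw [map_commutatorElement, hx, hy, commutatorElement_eq_one_iff_mul_comm, C.comm_zero]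
  have hval : ∀ (x y : A) (b c : F), x ∈ P → y ∈ P → π x = C.p 0 b → π y = C.p 0 c →
      ⁅x, y⁆ = 1 ∨ ⁅x, y⁆ = t := by
    intro x y b c hx hy hb hc
    apply K.uniq _ (K.comm_mem hx hy) (hker x y b c hb hc)
    rw [← K.cl (hker x y b c hb hc)]
    apply K.comm_one_of_ker
    rw [map_mul, hb, C.p_sq, zero_pow (by positivity), C.p_zero]
  choose zl hzP hz using fun b => K.from_p 0 b
  have hadd1 : ∀ b b' c, ⁅zl (b + b'), zl c⁆ = ⁅zl b, zl c⁆ * ⁅zl b', zl c⁆ := by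
    intro b b' c
    rw [← K.cl (hker _ _ _ _ (hz b') (hz c))]
    apply K.comm_eq _ rfl
    rw [map_mul, hz, hz, hz, C.p_zero_mul]
  have hadd2 : ∀ b c c', ⁅zl b, zl (c + c')⁆ = ⁅zl b, zl c⁆ * ⁅zl b, zl c'⁆ := by
    intro b c c'
    rw [← K.cr (hker _ _ _ _ (hz b) (hz c'))]
    apply K.comm_eq rfl
    rw [map_mul, hz, hz, hz, C.p_zero_mul]
  have h0 := zero_of_invariant (n := 2 * m + 1) (by omega) hF
    (fun b c => io F ⁅zl b, zl c⁆)
    (by
      intro b b' c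
      rw [hadd1, K.io_mul (hval _ _ _ _ (hzP _) (hzP _) (hz _) (hz _))
        (hval _ _ _ _ (hzP _) (hzP _) (hz _) (hz _))])
    (by
      intro b c c'
      rw [hadd2, K.io_mul (hval _ _ _ _ (hzP _) (hzP _) (hz _) (hz _))
        (hval _ _ _ _ (hzP _) (hzP _) (hz _) (hz _))])
    (by
      intro l b c hl
      congr 1
      -- choose k with k ^ (1 + θ) = l
      obtain ⟨k, hk⟩ : ∃ k : F, k ^ (1 + 2 ^ (m + 1)) = l := ⟨_, norm_surj hF l⟩
      have hk0 : k ≠ 0 := by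
        rintro rfl
        apply hl
        rw [← hk, zero_pow (by positivity)]
      obtain ⟨g, hg⟩ := K.tor (Units.mk0 k hk0)
      have e1 : ∀ b, π (g * zl b * g⁻¹) = π (zl (l * b)) := by
        intro b
        rw [K.pi_conj hg (hz b), hz, mul_zero, Units.val_mk0, hk]
      rw [← K.comm_eq (e1 b) (e1 c), ← conj_comm]
      have h1 := K.cen _ (hker _ _ _ _ (hz b) (hz c)) g
      rw [← h1, mul_inv_cancel_right])
  have := io_eq_zero (h0 b c)
  rw [← this]
  exact K.comm_eq (by rw [hb, hz]) (by rw [hc, hz])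

theorem commute_z (hm : 1 ≤ m) (hF : Fintype.card F = 2 ^ (2 * m + 1)) {x y : A} (hx : x ∈ P)
    (hy : y ∈ P) {b c : F} (hb : π x = C.p 0 b) (hc : π y = C.p 0 c) : x * y = y * x := by
  rw [← commutatorElement_eq_one_iff_mul_comm]
  exact K.comm_z hm hF hx hy hb hc

omit K in
theorem exists_unit_ne_one (hm : 1 ≤ m) (hF : Fintype.card F = 2 ^ (2 * m + 1)) :
    ∃ k : Fˣ, (k : F) ^ (1 + 2 ^ (m + 1)) ≠ 1 := by
  classical
  by_contra hcon
  push Not at hcon
  have h1 : (Finset.univ : Finset F) ⊆ {0, 1} := by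
    intro y _
    simp only [Finset.mem_insert, Finset.mem_singleton]
    by_cases h0 : y = 0
    · exact Or.inl h0
    · right
      have := hcon (Units.mk0 y h0)
      rw [Units.val_mk0] at this
      apply norm_inj hF
      rw [this, one_pow]
  have h2 := Finset.card_le_card h1
  have h3 : ({0, 1} : Finset F).card ≤ 2 := Finset.card_le_two
  rw [Finset.card_univ, hF] at h2
  have : 2 ^ 3 ≤ 2 ^ (2 * m + 1) := Nat.pow_le_pow_right (by norm_num) (by omega)
  omega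

/-- Step 2: the torus-invariant complement. -/
theorem exists_zh (hm : 1 ≤ m) (hF : Fintype.card F = 2 ^ (2 * m + 1)) :
    ∃ zh : F → A, (∀ b, zh b ∈ P) ∧ (∀ b, π (zh b) = C.p 0 b) ∧
      (∀ b c, zh (b + c) = zh b * zh c) ∧
      ∀ (g : A) (l : Fˣ), π g = C.h l → ∀ b, g * zh b * g⁻¹ = zh ((l : F) ^ (1 + 2 ^ (m + 1)) * b)
      := by
  obtain ⟨k, hk⟩ := exists_unit_ne_one (F := F) hm hF
  obtain ⟨d, hd⟩ := K.tor k
  set w := (k : F) ^ (1 + 2 ^ (m + 1)) with hw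
  have hη : w + 1 ≠ 0 := fun h => hk (CharTwo.add_eq_zero.mp h)
  choose zl hzP hz using fun b => K.from_p 0 b
  have hmem : ∀ x ∈ P, ⁅d, x⁆ ∈ P := by
    intro x hx
    rw [commutatorElement_def]
    exact P.mul_mem (K.tor_P d k hd x hx) (P.inv_mem hx)
  have hpi : ∀ x b, π x = C.p 0 b → π ⁅d, x⁆ = C.p 0 ((w + 1) * b) := by
    intro x b hx
    rw [commutatorElement_def, map_mul, K.pi_conj hd hx, map_inv, hx, C.p_inv, mul_zero,
      zero_pow (by positivity), add_zero, C.p_zero_mul, ← hw, add_mul, one_mul]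
  refine ⟨fun b => ⁅d, zl (b / (w + 1))⁆, fun b => hmem _ (hzP _), fun b => ?_, fun b c => ?_,
    fun g l hg b => ?_⟩
  · rw [hpi _ _ (hz _), mul_div_cancel₀ _ hη]
  · simp only
    have e : ⁅d, zl ((b + c) / (w + 1))⁆ = ⁅d, zl (b / (w + 1)) * zl (c / (w + 1))⁆ := by
      apply K.comm_eq rfl
      rw [map_mul, hz, hz, hz, C.p_zero_mul, add_div]
    have e2 : ⁅d, zl (b / (w + 1)) * zl (c / (w + 1))⁆ = ⁅d, zl (b / (w + 1))⁆ *
        ((zl (b / (w + 1)) * ⁅d, zl (c / (w + 1))⁆) * (zl (b / (w + 1)))⁻¹) := by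
      simp only [commutatorElement_def]; group
    rw [e, e2, K.commute_z hm hF (hzP _) (hmem _ (hzP _)) (hz _) (hpi _ _ (hz _)),
      mul_inv_cancel_right]
  · simp only
    rw [conj_comm]
    apply K.comm_eq
    · rw [map_mul, map_mul, map_inv, hg, hd, C.h_mul, C.h_inv, C.h_mul, mul_comm l k,
        mul_inv_cancel_right]
    · rw [K.pi_conj hg (hz _), hz, mul_zero, mul_div_assoc]

/-- the properties of `zh`. -/
structure IsZh (C : Data m F S) (π : A →* S) (P : Subgroup A) (zh : F → A) : Prop where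
  mem : ∀ b, zh b ∈ P
  pi : ∀ b, π (zh b) = C.p 0 b
  add : ∀ b c, zh (b + c) = zh b * zh c
  conj : ∀ (g : A) (l : Fˣ), π g = C.h l → ∀ b,
    g * zh b * g⁻¹ = zh ((l : F) ^ (1 + 2 ^ (m + 1)) * b)

omit K in
theorem IsZh.zero {zh : F → A} (Z : IsZh C π P zh) : zh 0 = 1 := by
  have := Z.add 0 0
  rw [add_zero] at this
  exact (mul_eq_left.mp this.symm)

omit K in
theorem IsZh.sq {zh : F → A} (Z : IsZh C π P zh) (b : F) : zh b * zh b = 1 := by
  rw [← Z.add, CharTwo.add_self_eq_zero, Z.zero]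

omit K in
theorem IsZh.inj {zh : F → A} (Z : IsZh C π P zh) {b c : F} (h : zh b = zh c) : b = c := by
  have : C.p 0 b = C.p 0 c := by rw [← Z.pi, ← Z.pi, h]
  exact (C.p_inj _ _ _ _ this).2

omit K in
theorem pi_comm_zh {zh : F → A} (Z : IsZh C π P zh) {x : A} {a b : F} (hx : π x = C.p a b)
    (c : F) : π ⁅x, zh c⁆ = 1 := by
  rw [map_commutatorElement, hx, Z.pi, commutatorElement_eq_one_iff_mul_comm, C.comm_zero]

omit K in
theorem inv_mul_pi {x x' : A} {a b b' : F} (h : π x = C.p a b) (h' : π x' = C.p a b') :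
    π (x⁻¹ * x') = C.p 0 (b + a ^ (1 + 2 ^ (m + 1)) + b' + a ^ (2 ^ (m + 1)) * a) := by
  rw [map_mul, map_inv, h, h', C.p_inv, C.p_mul, CharTwo.add_self_eq_zero]

/-- `P` acts on `⟨t⟩ × zh F` by transvections. -/
theorem val_zh {zh : F → A} (Z : IsZh C π P zh) {x : A} (hx : x ∈ P) (c : F) :
    ⁅x, zh c⁆ = 1 ∨ ⁅x, zh c⁆ = t := by
  obtain ⟨a, b, hab⟩ := K.to_p x hx
  apply K.uniq _ (K.comm_mem hx (Z.mem c)) (pi_comm_zh Z hab c)
  rw [← K.cr (pi_comm_zh Z hab c), Z.sq, commutatorElement_one_right]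

/-- the class two case: all commutators of `P` lie in `zh F`. -/
theorem comm_eq_zh (hm : 1 ≤ m) (hF : Fintype.card F = 2 ^ (2 * m + 1)) {zh : F → A}
    (Z : IsZh C π P zh) (hall : ∀ x ∈ P, ∀ c, ⁅x, zh c⁆ = 1) {x y : A} (hx : x ∈ P) (hy : y ∈ P)
    {a b c d : F} (hxa : π x = C.p a b) (hyc : π y = C.p c d) : ⁅x, y⁆ = zh (bt m a c) := by
  have hcen : ∀ y ∈ P, ∀ d, π y = C.p 0 d → ∀ x ∈ P, ⁅x, y⁆ = 1 := by
    intro y _ d hd x hx
    rw [← hall x hx d]
    exact K.comm_eq rfl (by rw [hd, Z.pi])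
  have hcen' : ∀ y ∈ P, ∀ d, π y = C.p 0 d → ∀ x ∈ P, x * y = y * x := by
    intro y hy d hd x hx
    rw [← commutatorElement_eq_one_iff_mul_comm]
    exact hcen y hy d hd x hx
  have hpc : ∀ x ∈ P, ∀ y ∈ P, ∃ d, π ⁅x, y⁆ = C.p 0 d := by
    intro x hx y hy
    obtain ⟨a, b, hab⟩ := K.to_p x hx
    obtain ⟨c, d, hcd⟩ := K.to_p y hy
    exact ⟨bt m a c, by rw [map_commutatorElement, hab, hcd, C.commutator]⟩
  have hcl : ∀ x ∈ P, ∀ y ∈ P, ∀ z ∈ P, ⁅x * y, z⁆ = ⁅x, z⁆ * ⁅y, z⁆ := by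
    intro x hx y hy z hz
    have h1 : ⁅x * y, z⁆ = (x * ⁅y, z⁆) * x⁻¹ * ⁅x, z⁆ := by
      simp only [commutatorElement_def]; group
    obtain ⟨d, hd⟩ := hpc y hy z hz
    obtain ⟨d', hd'⟩ := hpc x hx z hz
    rw [h1, hcen' _ (K.comm_mem hy hz) d hd x hx, mul_inv_cancel_right,
      hcen' _ (K.comm_mem hx hz) d' hd' _ (K.comm_mem hy hz)]
  have hsq : ∀ x ∈ P, ∀ y ∈ P, ⁅x, y⁆ * ⁅x, y⁆ = 1 := by
    intro x hx y hy
    rw [← hcl x hx x hx y hy]
    obtain ⟨a, b, hab⟩ := K.to_p x hx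
    have h1 : π (x * x) = C.p 0 (a ^ (1 + 2 ^ (m + 1))) := by rw [map_mul, hab, C.p_sq]
    have h2 := hcen _ (P.mul_mem hx hx) _ h1 y hy
    rw [commutatorElement_eq_one_iff_mul_comm] at h2 ⊢
    exact h2.symm
  choose xl hxP hxl using fun a => K.from_p a 0
  set e : F → F → A := fun a c => ⁅xl a, xl c⁆ * zh (bt m a c) with he
  have heP : ∀ a c, e a c ∈ P := fun a c => P.mul_mem (K.comm_mem (hxP _) (hxP _)) (Z.mem _)
  have heker : ∀ a c, π (e a c) = 1 := by
    intro a c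
    simp only [he]
    rw [map_mul, map_commutatorElement, hxl, hxl, C.commutator, Z.pi, C.p_zero_mul,
      CharTwo.add_self_eq_zero, C.p_zero]
  have hesq : ∀ a c, e a c * e a c = 1 := by
    intro a c
    simp only [he]
    have h1 := hcen' _ (Z.mem (bt m a c)) _ (Z.pi _) _ (K.comm_mem (hxP a) (hxP c))
    calc ⁅xl a, xl c⁆ * zh (bt m a c) * (⁅xl a, xl c⁆ * zh (bt m a c))
        = ⁅xl a, xl c⁆ * (zh (bt m a c) * ⁅xl a, xl c⁆) * zh (bt m a c) := by group
      _ = (⁅xl a, xl c⁆ * ⁅xl a, xl c⁆) * (zh (bt m a c) * zh (bt m a c)) := by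
          rw [← h1]; group
      _ = 1 := by rw [hsq _ (hxP _) _ (hxP _), Z.sq, one_mul]
  have heval : ∀ a c, e a c = 1 ∨ e a c = t := fun a c =>
    K.uniq _ (heP a c) (heker a c) (hesq a c)
  have hesym : ∀ a c, e a c = e c a := by
    intro a c
    simp only [he]
    have h1 : ⁅xl a, xl c⁆ = ⁅xl c, xl a⁆ := by
      rw [← commutatorElement_inv]
      exact inv_eq_of_mul_eq_one_right (hsq _ (hxP _) _ (hxP _))
    rw [h1, bt_comm]
  have headd : ∀ a a' c, e (a + a') c = e a c * e a' c := by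
    intro a a' c
    set y := (xl a * xl a')⁻¹ * xl (a + a') with hy
    have hyP : y ∈ P := P.mul_mem (P.inv_mem (P.mul_mem (hxP _) (hxP _))) (hxP _)
    have hyz : ∃ d, π y = C.p 0 d := by
      have e1 : π (xl a * xl a') = C.p (a + a') (0 + 0 + a ^ (2 ^ (m + 1)) * a') := by
        rw [map_mul, hxl, hxl, C.p_mul]
      exact ⟨_, inv_mul_pi e1 (hxl _)⟩
    obtain ⟨d, hd⟩ := hyz
    have h1 : xl (a + a') = xl a * xl a' * y := by rw [hy]; group
    have h2 : ⁅xl (a + a'), xl c⁆ = ⁅xl a, xl c⁆ * ⁅xl a', xl c⁆ := by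
      rw [h1, hcl _ (P.mul_mem (hxP _) (hxP _)) _ hyP _ (hxP _), hcl _ (hxP _) _ (hxP _) _ (hxP _)]
      have h3 := hcen y hyP d hd (xl c) (hxP c)
      have h4 : ⁅y, xl c⁆ = 1 := by
        rw [commutatorElement_eq_one_iff_mul_comm] at h3 ⊢
        exact h3.symm
      rw [h4, mul_one]
    simp only [he]
    rw [h2, bt_add_left, Z.add]
    have h5 := hcen' _ (Z.mem (bt m a c)) _ (Z.pi _) _ (K.comm_mem (hxP a') (hxP c))
    calc ⁅xl a, xl c⁆ * ⁅xl a', xl c⁆ * (zh (bt m a c) * zh (bt m a' c))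
        = ⁅xl a, xl c⁆ * (⁅xl a', xl c⁆ * zh (bt m a c)) * zh (bt m a' c) := by group
      _ = _ := by rw [h5]; group
  have h0 := zero_of_invariant (n := 2 * m + 1) (by omega) hF (fun a c => io F (e a c))
    (by
      intro a a' c
      rw [headd, K.io_mul (heval _ _) (heval _ _)])
    (by
      intro a c c'
      rw [hesym, headd, K.io_mul (heval _ _) (heval _ _), hesym c, hesym c'])
    (by
      intro l a c hl
      congr 1
      obtain ⟨g, hg⟩ := K.tor (Units.mk0 l hl)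
      have e1 : ∀ a, π (g * xl a * g⁻¹) = π (xl (l * a)) := by
        intro a
        rw [K.pi_conj hg (hxl a), hxl, mul_zero, Units.val_mk0]
      have e2 : e (l * a) (l * c) = g * e a c * g⁻¹ := by
        simp only [he]
        rw [← K.comm_eq (e1 a) (e1 c), ← conj_comm]
        have h3 := Z.conj g _ hg (bt m a c)
        have h4 : bt m (l * a) (l * c) = ((Units.mk0 l hl : Fˣ) : F) ^ (1 + 2 ^ (m + 1)) *
            bt m a c := by
          rw [Units.val_mk0]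
          unfold bt
          rw [mul_pow, mul_pow, _root_.pow_add l 1, pow_one]
          ring
        rw [h4, ← h3]
        group
      rw [e2, ← K.cen _ (heker a c) g, mul_inv_cancel_right])
  have hxx : ∀ a c, ⁅xl a, xl c⁆ = zh (bt m a c) := by
    intro a c
    have h1 : e a c = 1 := io_eq_zero (h0 a c)
    simp only [he] at h1
    rw [eq_inv_of_mul_eq_one_left h1]
    exact inv_eq_of_mul_eq_one_right (Z.sq _)
  -- general elements
  have hgen : ∀ x ∈ P, ∀ a b, π x = C.p a b → ∃ y ∈ P, (∃ d, π y = C.p 0 d) ∧ x = xl a * y := by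
    intro x hx a b hab
    exact ⟨(xl a)⁻¹ * x, P.mul_mem (P.inv_mem (hxP _)) hx, ⟨_, inv_mul_pi (hxl a) hab⟩, by group⟩
  obtain ⟨y1, hy1, ⟨d1, hd1⟩, rfl⟩ := hgen x hx a b hxa
  obtain ⟨y2, hy2, ⟨d2, hd2⟩, rfl⟩ := hgen y hy c d hyc
  have hcomm1 : ∀ z ∈ P, ⁅y1, z⁆ = 1 := by
    intro z hz
    have h3 := hcen y1 hy1 d1 hd1 z hz
    rw [commutatorElement_eq_one_iff_mul_comm] at h3 ⊢
    exact h3.symm
  rw [hcl _ (hxP _) _ hy1 _ (P.mul_mem (hxP _) hy2), hcomm1 _ (P.mul_mem (hxP _) hy2), mul_one]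
  have h6 : ⁅xl a, xl c * y2⁆ = ⁅xl a, xl c⁆ * ((xl c * ⁅xl a, y2⁆) * (xl c)⁻¹) := by
    simp only [commutatorElement_def]; group
  rw [h6, hcen y2 hy2 d2 hd2 _ (hxP a), mul_one, mul_inv_cancel, mul_one, hxx]

/-- **Main structure theorem for covers.** -/
theorem main (hm : 1 ≤ m) (hF : Fintype.card F = 2 ^ (2 * m + 1))
    (hcom : (⟨t, K.t_mem⟩ : P) ∈ commutator P) :
    ∃ zh : F → A, IsZh C π P zh ∧ (∀ x ∈ P, ∀ c, ⁅x, zh c⁆ = 1 ∨ ⁅x, zh c⁆ = t) ∧
      (∀ x ∈ P, ∀ a b, π x = C.p a b → a ≠ 0 → ∃ c, ⁅x, zh c⁆ = t) ∧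
      ∀ c, c ≠ 0 → ∃ x ∈ P, ⁅x, zh c⁆ = t := by
  obtain ⟨zh, z1, z2, z3, z4⟩ := K.exists_zh hm hF
  have Z : IsZh C π P zh := ⟨z1, z2, z3, z4⟩
  refine ⟨zh, Z, fun x hx c => K.val_zh Z hx c, ?_⟩
  have hex : ∃ x0 ∈ P, ∃ c0, ⁅x0, zh c0⁆ ≠ 1 := by
    by_contra hcon
    push Not at hcon
    let Z0 : Subgroup P :=
      { carrier := {x | ∃ b, (x : A) = zh b}
        mul_mem' := by
          rintro x y ⟨b, hb⟩ ⟨c, hc⟩
          exact ⟨b + c, by rw [Subgroup.coe_mul, hb, hc, Z.add]⟩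
        one_mem' := ⟨0, by rw [Z.zero]; rfl⟩
        inv_mem' := by
          rintro x ⟨b, hb⟩
          refine ⟨b, ?_⟩
          rw [Subgroup.coe_inv, hb]
          exact inv_eq_of_mul_eq_one_right (Z.sq _) }
    have hle : commutator P ≤ Z0 := by
      rw [commutator_def, Subgroup.commutator_le]
      rintro x - y -
      obtain ⟨a, b, hab⟩ := K.to_p x x.2
      obtain ⟨c, d, hcd⟩ := K.to_p y y.2
      exact ⟨bt m a c, K.comm_eq_zh hm hF Z hcon x.2 y.2 hab hcd⟩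
    obtain ⟨b, hb⟩ := hle hcom
    have hb' : t = zh b := hb
    have h1 : C.p 0 b = C.p 0 0 := by rw [← Z.pi, ← hb', K.t_ker, C.p_zero]
    have h2 := (C.p_inj _ _ _ _ h1).2
    rw [h2, Z.zero] at hb'
    exact K.t_one hb'
  obtain ⟨x0, hx0, c0, hne⟩ := hex
  -- multiplication by an element of `P` over `p 0 d` does not matter
  have hkey : ∀ x ∈ P, ∀ x' ∈ P, ∀ a b b', π x = C.p a b → π x' = C.p a b' → ∀ c,
      ⁅x, zh c⁆ = ⁅x', zh c⁆ := by
    intro x hx x' hx' a b b' hab hab' c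
    have h1 : x' = x * (x⁻¹ * x') := by group
    have hy : π (x⁻¹ * x') = C.p 0 (b + a ^ (1 + 2 ^ (m + 1)) + b' + a ^ (2 ^ (m + 1)) * a) := by
      rw [map_mul, map_inv, hab, hab', C.p_inv, C.p_mul, CharTwo.add_self_eq_zero]
    have h2 : ⁅x⁻¹ * x', zh c⁆ = 1 :=
      K.comm_z hm hF (P.mul_mem (P.inv_mem hx) hx') (Z.mem c) hy (Z.pi c)
    rw [h1, K.cl (by rw [h2, map_one]), h2, mul_one]
  constructor
  · intro x hx a b hab ha
    by_contra hcon
    push Not at hcon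
    have hone : ∀ c, ⁅x, zh c⁆ = 1 := fun c => (K.val_zh Z hx c).resolve_right (hcon c)
    apply hne
    obtain ⟨a0, b0, hab0⟩ := K.to_p x0 hx0
    by_cases ha0 : a0 = 0
    · subst ha0
      exact K.comm_z hm hF hx0 (Z.mem _) hab0 (Z.pi _)
    · obtain ⟨g, hg⟩ := K.tor (Units.mk0 (a0 / a) (div_ne_zero ha0 ha))
      have h1 := K.pi_conj hg hab
      rw [Units.val_mk0, div_mul_cancel₀ _ ha] at h1
      rw [← hkey _ (K.tor_P g _ hg x hx) _ hx0 _ _ _ h1 hab0]
      have hw : (a0 / a) ^ (1 + 2 ^ (m + 1)) ≠ 0 := pow_ne_zero _ (div_ne_zero ha0 ha)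
      have h2 := Z.conj g _ hg (((a0 / a) ^ (1 + 2 ^ (m + 1)))⁻¹ * c0)
      rw [Units.val_mk0, mul_inv_cancel_left₀ hw] at h2
      rw [← h2, ← conj_comm, hone, mul_one, mul_inv_cancel]
  · intro c hc
    by_contra hcon
    push Not at hcon
    have hone : ∀ x ∈ P, ⁅x, zh c⁆ = 1 := fun x hx => (K.val_zh Z hx c).resolve_right (hcon x hx)
    apply hne
    by_cases hc0 : c0 = 0
    · rw [hc0, Z.zero, commutatorElement_one_right]
    · obtain ⟨l, hl⟩ : ∃ l : F, l ^ (1 + 2 ^ (m + 1)) = c0 / c := ⟨_, norm_surj hF _⟩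
      have hl0 : l ≠ 0 := by
        rintro rfl
        rw [zero_pow (by positivity)] at hl
        exact div_ne_zero hc0 hc hl.symm
      obtain ⟨g, hg⟩ := K.tor (Units.mk0 l hl0)
      have h1 := Z.conj g _ hg c
      rw [Units.val_mk0, hl, div_mul_cancel₀ _ hc] at h1
      have hg' : π g⁻¹ = C.h (Units.mk0 l hl0)⁻¹ := by rw [map_inv, hg, C.h_inv]
      have h2 := K.tor_P g⁻¹ _ hg' x0 hx0
      rw [inv_inv] at h2
      have h3 : x0 = g * (g⁻¹ * x0 * g) * g⁻¹ := by group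
      rw [← h1, h3, ← conj_comm, hone _ h2, mul_one, mul_inv_cancel]

end Main

end Cov

end Cfsg.Agent.StdSz.CoverA
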