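import Cfsg.Agent.StdSz.LevelOneEnd
import Cfsg.Agent.StdSz.OutDef

/-!
# The end if `Q` is a Sylow 2-subgroup
-/

set_option autoImplicit false
set_option linter.unusedSectionVars false
set_option linter.style.haveILetI false

namespace Cfsg.Agent.StdSz.OutOne

open Cfsg.Agent.StdSz.EquivMaps Cfsg.Agent.StdSz.SzMaps Cfsg.Agent.StdSz.FormAlg
open Cfsg.Agent.StdSz.FixT Cfsg.Agent.StdSz.LevelOne Cfsg.Agent.StdSz.Coord
open Cfsg.Agent.StdSz.NormQ Cfsg.Agent.StdSz.NextLevel Cfsg.Agent.StdSz.NextExists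
open Cfsg.Agent.StdSz.LevelOneEnd Cfsg.Agent.StdSz.OutDef

variable {G : Type*} [Group G] {F : Type*} [Field F] [Fintype F] [CharP F 2] {m : ℕ}
variable (P : Pre G F m)

/-- the subgroup `V = {e = 0}` of index 2 in `Q`. -/
def VV : Subgroup G where
  carrier := {g | g ∈ P.Q ∧ eC P g = 0}
  one_mem' := by
    refine ⟨one_mem _, ?_⟩
    have := congrArg (fun z => z.1) (crd_one P)
    exact this
  mul_mem' := by
    rintro a b ⟨ha, ha'⟩ ⟨hb, hb'⟩
    refine ⟨mul_mem ha hb, ?_⟩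
    rw [(coords_spec P).1 a ha b hb, ha', hb', add_zero]
  inv_mem' := by
    rintro a ⟨ha, ha'⟩
    refine ⟨inv_mem ha, ?_⟩
    have := congrArg (fun z => z.1) (crd_inv P ha)
    exact this.trans ha'

theorem mem_VV {g : G} : g ∈ VV P ↔ g ∈ P.Q ∧ eC P g = 0 := Iff.rfl

theorem VV_le : VV P ≤ P.Q := fun _ h => h.1

theorem p_mem_VV (a b : F) : P.p a b ∈ VV P := ⟨P.Q_p a b, (coords_spec P).2.2.2.2.1 a b⟩

theorem VV_index : (VV P).relIndex P.Q = 2 := by
  rw [Subgroup.relIndex, Subgroup.index_eq_two_iff]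
  refine ⟨⟨P.t, P.Q_t⟩, fun b => ?_⟩
  rw [Subgroup.mem_subgroupOf, Subgroup.mem_subgroupOf, mem_VV, mem_VV]
  have h1 : eC P ((b : G) * P.t) = eC P b + 1 := by
    rw [(coords_spec P).1 _ b.2 _ P.Q_t, (coords_spec P).2.2.1]
  have h2 : (((b * ⟨P.t, P.Q_t⟩ : P.Q) : G)) = (b : G) * P.t := rfl
  rw [h2, h1]
  rcases zmod_cases (eC P b) with h | h
  · right
    refine ⟨⟨b.2, h⟩, ?_⟩
    rintro ⟨-, h3⟩
    rw [h] at h3
    exact absurd h3 (by decide)
  · left
    refine ⟨⟨mul_mem b.2 P.Q_t, ?_⟩, ?_⟩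
    · rw [h]; decide
    · rintro ⟨-, h3⟩
      rw [h] at h3
      exact absurd h3 (by decide)

theorem pow_theta_ne_one (hF : Fintype.card F = 2 ^ (2 * m + 1)) {l : Fˣ} (hl : l ≠ 1) :
    (l : F) ^ (1 + 2 ^ (m + 1)) ≠ 1 := by
  intro h
  apply hl
  apply Units.ext
  apply norm_inj hF
  rw [h, Units.val_one, one_pow]

theorem VV_free (l : Fˣ) (hl : l ≠ 1) {x : G} (hx : x ∈ VV P)
    (h : P.h l * x * (P.h l)⁻¹ = x) : x = 1 := by
  have h1 := crd_cj P l hx.1
  have h2 : cj P l x = x := h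
  have h3 := pow_theta_ne_one P.hF hl
  have hne : (l : F) ≠ 1 := fun h => hl (Units.ext h)
  rw [h2] at h1
  have h0 : ∀ c y : F, c ≠ 1 → y = c * y → y = 0 := by
    intro c y hc hy
    have : (c - 1) * y = 0 := by rw [sub_mul, one_mul, ← hy, sub_self]
    exact (mul_eq_zero.mp this).resolve_left (sub_ne_zero.mpr hc)
  have ha : (crd P x).2.1 = 0 := h0 _ _ hne (congrArg (fun z => z.2.1) h1)
  have hu : (crd P x).2.2 = 0 := h0 _ _ h3 (congrArg (fun z => z.2.2) h1)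
  have hc : crd P x = 0 := Prod.ext hx.2 (Prod.ext ha hu)
  obtain ⟨b, rfl⟩ := eq_z_of_crd P hx.1 hc
  have h4 : P.p ((l : F) * 0) ((l : F) ^ (1 + 2 ^ (m + 1)) * b) = P.p 0 b := by
    rw [← P.h_conj]; exact h
  rw [mul_zero] at h4
  have hb : b = 0 := h0 _ _ h3 (P.z_inj h4).symm
  rw [hb, P.p_zero]

theorem VV_card [Finite G] : Nat.card (VV P) ≤ Fintype.card F ^ 3 := by
  classical
  -- the homomorphism `(a, u)`
  let f : VV P →* Multiplicative (F × F) :=
    { toFun := fun x => Multiplicative.ofAdd ((crd P x).2.1, (crd P x).2.2)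
      map_one' := by
        show Multiplicative.ofAdd ((crd P (1 : G)).2.1, (crd P (1 : G)).2.2) = 1
        rw [crd_one]; rfl
      map_mul' := fun x y => by
        show Multiplicative.ofAdd ((crd P (x * y : G)).2.1, (crd P (x * y : G)).2.2) = _
        rw [crd_mul P x.2.1 y.2.1]; rfl }
  have h1 : Nat.card f.ker * f.ker.index = Nat.card (VV P) := Subgroup.card_mul_index _
  rw [Subgroup.index_ker] at h1
  have h2 : Nat.card f.range ≤ Nat.card (Multiplicative (F × F)) := Subgroup.card_le_card_group _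
  have h3 : Nat.card (Multiplicative (F × F)) = Fintype.card F ^ 2 := by
    have : Nat.card (Multiplicative (F × F)) = Nat.card (F × F) :=
      Nat.card_congr Multiplicative.toAdd
    rw [this, Nat.card_prod, Nat.card_eq_fintype_card, pow_two]
  have h4 : Nat.card f.ker ≤ Fintype.card F := by
    rw [← Nat.card_eq_fintype_card]
    have hex : ∀ x : f.ker, ∃ b, ((x : VV P) : G) = P.p 0 b := by
      intro x
      apply eq_z_of_crd P x.1.2.1
      have h5 : f x.1 = 1 := x.2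
      have h6 : ((crd P ((x : VV P) : G)).2.1, (crd P ((x : VV P) : G)).2.2) = ((0, 0) : F × F) := h5
      have h7 := Prod.mk.inj h6
      exact Prod.ext x.1.2.2 (Prod.ext h7.1 h7.2)
    choose g hg using hex
    apply Nat.card_le_card_of_injective g
    intro x y hxy
    apply Subtype.ext
    apply Subtype.ext
    rw [hg x, hg y, hxy]
  calc Nat.card (VV P) = Nat.card f.ker * Nat.card f.range := h1.symm
    _ ≤ Fintype.card F * Fintype.card F ^ 2 := Nat.mul_le_mul h4 (h2.trans h3.le)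
    _ = Fintype.card F ^ 3 := by ring

theorem VV_comm {x y z : G} (hx : x ∈ P.Q) (hy : y ∈ P.Q) (hz : z ∈ P.Q) :
    (x * y * x⁻¹ * y⁻¹) * z = z * (x * y * x⁻¹ * y⁻¹) := by
  have h1 : x * y * x⁻¹ * y⁻¹ = P.p 0 (P.cm x y) := by
    rw [P.cm_spec hx hy]; group
  rw [h1, P.Q_Z z hz]

/-- **(A)**: the uniform end if `Q` is a Sylow 2-subgroup. -/
theorem out_of_maximal [Finite G]
    (hQ : ∀ R : Subgroup G, IsPGroup 2 R → P.Q ≤ R → R = P.Q)
    (hfus : ∀ g : G, g * P.t * g⁻¹ ∈ P.Q → ∃ b, g * P.t * g⁻¹ = P.p 0 b * P.t) :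
    ∃ O : Out G F P.t, ∀ a b, P.p a b ∈ O.M := by
  have hmul : ∀ l l', ∀ x ∈ VV P,
    P.h (l * l') * x * (P.h (l * l'))⁻¹ = P.h l * (P.h l' * x * (P.h l')⁻¹) * (P.h l)⁻¹ :=
    fun l l' x hx => P.h_mul l l' x hx.1
  refine ⟨⟨⟨⟨P.Q, P.Q_two, fun {R} hR hle => hQ R hR hle⟩, VV P, VV_le P, VV_index P, P.t_sq,
    P.Q_t, ?_, P.h, ?_, hmul, fun l hl x hx => VV_free P l hl hx⟩, ?_, ?_⟩, p_mem_VV P⟩
  · intro g hg
    obtain ⟨b, hb⟩ := hfus g hg.1
    rw [hb] at hg
    have h1 : eC P (P.p 0 b * P.t) = 1 := by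
      rw [(coords_spec P).1 _ (P.Q_p 0 b) _ P.Q_t, (coords_spec P).2.2.2.2.1,
        (coords_spec P).2.2.1, zero_add]
    have h2 := hg.2
    rw [h1] at h2
    exact absurd h2 (by decide)
  · intro l x hx
    refine ⟨P.Q_h l x hx.1, ?_⟩
    have := (coords_spec P).2.2.2.2.2.2.1 l x hx.1
    exact this.trans hx.2
  · intro x hx y hy z hz
    exact VV_comm P hx.1 hy.1 hz.1
  · refine (VV_card P).trans (Nat.pow_le_pow_right Fintype.card_pos (by norm_num))

end Cfsg.Agent.StdSz.OutOne
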