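import Cfsg.Agent.StdSz.GammaZeroB
import Cfsg.Agent.StdSz.OutOne

/-!
# The case `γ = δ = 0`: the uniform end

`S` is a Sylow 2-subgroup of `G`, no conjugate of `t` lies in `M`.
-/

set_option autoImplicit false
set_option linter.unusedSectionVars false
set_option linter.style.haveILetI false

namespace Cfsg.Agent.StdSz.GammaZero

open Cfsg.Agent.StdSz.EquivMaps Cfsg.Agent.StdSz.SzMaps Cfsg.Agent.StdSz.FormAlg
open Cfsg.Agent.StdSz.FixT Cfsg.Agent.StdSz.LevelOne Cfsg.Agent.StdSz.Coord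
open Cfsg.Agent.StdSz.NormQ Cfsg.Agent.StdSz.NextLevel Cfsg.Agent.StdSz.NextExists
open Cfsg.Agent.StdSz.LevelOneEnd Cfsg.Agent.StdSz.GammaZeroA Cfsg.Agent.StdSz.GammaZeroB
open Cfsg.Agent.StdSz.OutDef Cfsg.Agent.StdSz.OutOne

variable {G : Type*} [Group G] [Finite G] {F : Type*} [Field F] [Fintype F] [CharP F 2] {m : ℕ}
variable {P : Pre G F m} {X : Nx P} (E : Ext X)

/-! ### Involutions outside `M` -/

theorem conj_of_involution (hd : del P = 0) (hg : gam P = 0) {x : G} (hx : x ∈ X.S)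
    (hxM : x ∉ M E) (h2 : x * x = 1) : ∃ y ∈ X.S, x = y * P.t * y⁻¹ := by
  have htS : P.t ∈ X.S := X.Q_le P.Q_t
  have hex : E.e x = 1 := (zmod_cases _).resolve_left fun h => hxM ⟨hx, h⟩
  set g := P.t * x with hgdef
  have hgS : g ∈ X.S := mul_mem htS hx
  have hgM : g ∈ M E := ⟨hgS, by rw [E.mul _ htS _ hx, E.t, hex]; decide⟩
  have hxg : x = P.t * g := by rw [hgdef, ← mul_assoc, P.t_sq, one_mul]
  have h3 : g * P.t * g⁻¹ = P.t * (g * g)⁻¹ := by
    rw [hxg] at h2
    have h4 : P.t * (g * P.t * g) = 1 := by rw [← h2]; group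
    have h5 : g * P.t * g = P.t := by
      have := congrArg (fun z => P.t * z) h4
      rwa [← mul_assoc, P.t_sq, one_mul, mul_one] at this
    calc g * P.t * g⁻¹ = (g * P.t * g) * g⁻¹ * g⁻¹ := by group
      _ = P.t * (g * g)⁻¹ := by rw [h5]; group
  have hggW := sq_W E hd hg hgM
  have hwg : wt P g = 0 := by
    unfold wt
    rw [h3, crd_mul P P.Q_t (inv_mem hggW.1), crd_inv P hggW.1, crd_t]
    show (tt : V3 F).2.1 + (crd P (g * g)).2.1 = 0
    rw [hggW.2.2, add_zero]
    rfl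
  have hgQ := mem_Q_of_wt X hgS hwg
  have hxQ : x ∈ P.Q := by rw [hxg]; exact mul_mem P.Q_t hgQ
  have hx1 : (crd P x).1 = 1 := by rw [← E.onQ x hxQ, hex]
  obtain ⟨⟨e, a, u⟩, hv⟩ : ∃ v, crd P x = v := ⟨_, rfl⟩
  rw [hv] at hx1
  have he : e = 1 := hx1
  subst he
  have h4 := mul_self_crd P hxQ
  rw [h2, hv, hd, hg, Sq_zero, ← P.p_zero] at h4
  have h5 := P.z_inj h4
  simp only [cc_one, one_mul, zero_mul, add_zero] at h5
  have hu : u = a ^ (1 + 2 ^ (m + 1)) := by
    have := congrArg (fun z => z + a ^ (1 + 2 ^ (m + 1))) h5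
    rw [add_assoc, FormAlg.add_self, add_zero, zero_add] at this
    exact this.symm
  obtain ⟨s, hs, hsc⟩ := X.surj a
  obtain ⟨b, hb⟩ := exists_z_mul P hxQ (conj_t_mem X hs) (by rw [hv, hsc, hu])
  obtain ⟨k, hk, hkb⟩ := P.Q_surj b
  refine ⟨s * k, mul_mem hs (X.Q_le hk), ?_⟩
  have h6 : s * k * P.t * (s * k)⁻¹ = s * (k * P.t * k⁻¹) * s⁻¹ := by group
  have h7 : s * (P.p 0 b * P.t) * s⁻¹ = (s * P.p 0 b) * P.t * s⁻¹ := by group
  rw [h6, hkb, h7, X.S_Z s hs, hb]
  group

/-! ### Additivity of the torus modulo `W` -/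

/-- the torus on `M`. -/
def cM (l : Fˣ) : M E →* M E where
  toFun s := ⟨C X l s, C_M E l s.2⟩
  map_one' := Subtype.ext (by
    show X.h' l * 1 * (X.h' l)⁻¹ = 1
    rw [mul_one, mul_inv_cancel])
  map_mul' s r := Subtype.ext (C_mul X l s r)

theorem cM_cM (l k : Fˣ) (s : M E) : cM E l (cM E k s) = cM E (l * k) s :=
  Subtype.ext (C_C X l k s.2.1)

/-- `s ↦ (s ^ l) (s ^ k) (s ^ n)`. -/
def dM (l k n : Fˣ) (s : M E) : M E := cM E l s * cM E k s * cM E n s

/-- `W` as a subgroup of `M`. -/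
noncomputable def Ws : Subgroup (M E) := (W P).subgroupOf (M E)

theorem mem_Ws {s : M E} : s ∈ Ws E ↔ (s : G) ∈ W P := Subgroup.mem_subgroupOf

theorem Ws_normal (hd : del P = 0) (hg : gam P = 0) : (Ws E).Normal := ⟨by
  intro n hn s
  rw [mem_Ws] at hn ⊢
  have h1 := W_central E hd hg s.2 hn
  show (s : G) * n * (s : G)⁻¹ ∈ W P
  rw [h1, mul_assoc, mul_inv_cancel, mul_one]
  exact hn⟩

theorem dM_Q (hd : del P = 0) (hg : gam P = 0) {l k n : Fˣ} (hn : (n : F) = l + k) (s : M E) :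
    (dM E l k n s : G) ∈ P.Q := by
  apply mem_Q_of_wt X (dM E l k n s).2.1
  show wt P (C X l s * C X k s * C X n s) = 0
  rw [wt_mul X hd hg (mul_mem (C_mem X _ s.2.1) (C_mem X _ s.2.1)) (C_mem X _ s.2.1),
    wt_mul X hd hg (C_mem X _ s.2.1) (C_mem X _ s.2.1), wt_C X _ s.2.1, wt_C X _ s.2.1,
    wt_C X _ s.2.1, hn, ← add_mul, ← add_mul, FormAlg.add_self, zero_mul]

theorem dM_dM (hd : del P = 0) (hg : gam P = 0) {l k n : Fˣ} (hn : (n : F) = l + k) (s : M E) :
    (dM E l k n (dM E l k n s) : G) ∈ W P := by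
  have h1 := dM_Q E hd hg hn s
  have h2 := dM_Q E hd hg hn (dM E l k n s)
  have h3 : (crd P (dM E l k n s : G)).1 = 0 := by
    rw [← E.onQ _ h1]; exact (dM E l k n s).2.2
  refine ⟨h2, ?_, ?_⟩
  · rw [← E.onQ _ h2]; exact (dM E l k n (dM E l k n s)).2.2
  · set g : G := (dM E l k n s : G) with hgdef
    show (crd P (C X l g * C X k g * C X n g)).2.1 = 0
    have hm : ∀ l : Fˣ, C X l g ∈ P.Q := fun l => by
      rw [C_Q X l h1]; exact cj_mem P l h1
    have hc : ∀ l : Fˣ, (crd P (C X l g)).2.1 = l * (crd P g).2.1 := fun l => by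
      rw [C_Q X l h1, crd_cj P l h1]
    rw [crd_mul P (mul_mem (hm _) (hm _)) (hm _), crd_mul P (hm _) (hm _)]
    show (crd P (C X l g)).2.1 + (crd P (C X k g)).2.1 + (crd P (C X n g)).2.1 = 0
    rw [hc, hc, hc, hn, ← add_mul, ← add_mul, FormAlg.add_self, zero_mul]

/-- **additivity** of the torus modulo `W`. -/
theorem add_mod_W (hd : del P = 0) (hg : gam P = 0) {l k n : Fˣ} (hn : (n : F) = l + k)
    (s : M E) : (cM E l s : G) * (cM E k s : G) * (cM E n s : G) ∈ W P := by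
  -- square roots
  have hsqrt : ∀ x : Fˣ, ∃ y : Fˣ, y * y = x := by
    intro x
    have h1 : (x : F) ^ (2 ^ (2 * m)) ≠ 0 := pow_ne_zero _ x.ne_zero
    refine ⟨Units.mk0 _ h1, Units.ext ?_⟩
    rw [Units.val_mul, Units.val_mk0, ← _root_.pow_add]
    have : 2 ^ (2 * m) + 2 ^ (2 * m) = 2 ^ (2 * m + 1) := by ring
    rw [this, ← P.hF, FiniteField.pow_card]
  obtain ⟨l', rfl⟩ := hsqrt l
  obtain ⟨k', rfl⟩ := hsqrt k
  obtain ⟨n', rfl⟩ := hsqrt n
  have hn' : (n' : F) = l' + k' := by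
    rw [Units.val_mul, Units.val_mul, Units.val_mul] at hn
    have h1 : ((n' : F) + (l' + k')) * ((n' : F) + (l' + k')) = 0 := by
      have h2 : ((n' : F) + (l' + k')) * ((n' : F) + (l' + k')) =
          (n' : F) * n' + (l' * l' + k' * k') + ((n' * (l' + k') + n' * (l' + k')) +
            (l' * k' + l' * k')) := by ring
      rw [h2, hn, FormAlg.add_self, FormAlg.add_self, FormAlg.add_self, add_zero, add_zero]
    have h3 := mul_self_eq_zero.mp h1
    have := congrArg (fun z => z + ((l' : F) + k')) h3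
    rwa [add_assoc, FormAlg.add_self, add_zero, zero_add] at this
  have h1 := dM_dM E hd hg hn' s
  haveI := Ws_normal E hd hg
  have hcomm : ∀ x y : M E ⧸ Ws E, x * y = y * x := by
    intro x y
    obtain ⟨s, rfl⟩ := QuotientGroup.mk_surjective x
    obtain ⟨r, rfl⟩ := QuotientGroup.mk_surjective y
    have h1 : ((s * r * s⁻¹ * r⁻¹ : M E) : M E ⧸ Ws E) = 1 :=
      (QuotientGroup.eq_one_iff _).mpr ((mem_Ws E).mpr (comm_W E hd hg s.2 r.2))
    rw [QuotientGroup.mk_mul, QuotientGroup.mk_mul, QuotientGroup.mk_mul,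
      QuotientGroup.mk_inv, QuotientGroup.mk_inv, mul_inv_eq_one, mul_inv_eq_iff_eq_mul] at h1
    exact h1
  letI cg : CommGroup (M E ⧸ Ws E) :=
    { (inferInstance : Group (M E ⧸ Ws E)) with mul_comm := hcomm }
  have hsq : ∀ x : M E ⧸ Ws E, x * x = 1 := by
    intro x
    obtain ⟨s, rfl⟩ := QuotientGroup.mk_surjective x
    rw [← QuotientGroup.mk_mul, QuotientGroup.eq_one_iff]
    exact (mem_Ws E).mpr (sq_W E hd hg s.2)
  have h2 : ((dM E l' k' n' (dM E l' k' n' s) : M E) : M E ⧸ Ws E) = 1 :=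
    (QuotientGroup.eq_one_iff _).mpr ((mem_Ws E).mpr h1)
  have h3 : ((cM E (l' * l') s * cM E (k' * k') s * cM E (n' * n') s : M E) :
      M E ⧸ Ws E) = 1 := by
    rw [← h2]
    unfold dM
    simp only [map_mul, cM_cM, QuotientGroup.mk_mul]
    rw [mul_comm k' l', mul_comm n' l', mul_comm n' k']
    set a := ((cM E (l' * l') s : M E) : M E ⧸ Ws E)
    set b := ((cM E (k' * k') s : M E) : M E ⧸ Ws E)
    set c := ((cM E (n' * n') s : M E) : M E ⧸ Ws E)
    set x := ((cM E (l' * k') s : M E) : M E ⧸ Ws E)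
    set y := ((cM E (l' * n') s : M E) : M E ⧸ Ws E)
    set z := ((cM E (k' * n') s : M E) : M E ⧸ Ws E)
    have : a * x * y * (x * b * z) * (y * z * c) = a * b * c * ((x * x) * (y * y) * (z * z)) := by
      ac_rfl
    rw [this, hsq x, hsq y, hsq z, one_mul, one_mul, mul_one]
  exact (mem_Ws E).mp ((QuotientGroup.eq_one_iff _).mp h3)

/-! ### Centralisers of involutions of `M` -/

open Classical in
/-- the multiples of `v`. -/
noncomputable def vv (X : Nx P) (v : G) (l : F) : G :=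
  if h : l = 0 then 1 else C X (Units.mk0 l h) v

theorem vv_zero (v : G) : vv X v 0 = 1 := dif_pos rfl

theorem vv_ne (v : G) {l : F} (h : l ≠ 0) : vv X v l = C X (Units.mk0 l h) v := dif_neg h

theorem vv_mem {v : G} (hv : v ∈ M E) (l : F) : vv X v l ∈ M E := by
  by_cases h : l = 0
  · rw [h, vv_zero]; exact one_mem _
  · rw [vv_ne v h]; exact C_M E _ hv

theorem vv_sq {v : G} (h2 : v * v = 1) (l : F) : vv X v l * vv X v l = 1 := by
  by_cases h : l = 0
  · rw [h, vv_zero, mul_one]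
  · rw [vv_ne v h, ← C_mul, h2]
    unfold C
    rw [mul_one, mul_inv_cancel]

theorem vv_one {v : G} (hv : v ∈ M E) : vv X v 1 = v := by
  rw [vv_ne v one_ne_zero]
  have : Units.mk0 (1 : F) one_ne_zero = 1 := Units.ext rfl
  rw [this]
  exact C_one X hv.1

theorem vv_add (hd : del P = 0) (hg : gam P = 0) {v : G} (hv : v ∈ M E) (h2 : v * v = 1)
    (l k : F) : vv X v l * vv X v k * vv X v (l + k) ∈ W P := by
  by_cases hl : l = 0
  · rw [hl, vv_zero, one_mul, zero_add, vv_sq h2]; exact one_mem _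
  by_cases hk : k = 0
  · rw [hk, vv_zero, mul_one, add_zero, vv_sq h2]; exact one_mem _
  by_cases hlk : l + k = 0
  · have : k = l := by
      have := congrArg (fun z => l + z) hlk
      rwa [add_zero, ← add_assoc, FormAlg.add_self, zero_add] at this
    rw [hlk, this, vv_zero, mul_one, vv_sq h2]; exact one_mem _
  rw [vv_ne v hl, vv_ne v hk, vv_ne v hlk]
  exact add_mod_W E hd hg (l := Units.mk0 l hl) (k := Units.mk0 k hk)
    (n := Units.mk0 (l + k) hlk) rfl ⟨v, hv⟩

theorem vv_comm (hd : del P = 0) (hg : gam P = 0) {v : G} (hv : v ∈ M E) (h2 : v * v = 1)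
    (l : F) : vv X v l * v = v * vv X v l := by
  have h3 := vv_add E hd hg hv h2 1 l
  rw [vv_one E hv] at h3
  set ω := v * vv X v l * vv X v (1 + l) with hω
  have h4 : v * vv X v l = ω * vv X v (1 + l) := by
    rw [hω, mul_assoc, vv_sq h2, mul_one]
  have h5 : (v * vv X v l) * (v * vv X v l) = 1 := by
    rw [h4]
    have h6 : ω * vv X v (1 + l) * (ω * vv X v (1 + l)) =
        ω * (vv X v (1 + l) * ω) * vv X v (1 + l) := by group
    rw [h6, W_central E hd hg (vv_mem E hv _) h3]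
    have h7 : ω * (ω * vv X v (1 + l)) * vv X v (1 + l) =
        (ω * ω) * (vv X v (1 + l) * vv X v (1 + l)) := by group
    rw [h7, W_sq hd hg h3, vv_sq h2, mul_one]
  have h8 : vv X v l * v = (v * vv X v l)⁻¹ := by
    rw [mul_inv_rev, inv_eq_of_mul_eq_one_left (vv_sq h2 l), inv_eq_of_mul_eq_one_left h2]
  rw [h8, inv_eq_of_mul_eq_one_left h5]

theorem vv_inj (hd : del P = 0) (hg : gam P = 0) {v : G} (hv : v ∈ M E) (h2 : v * v = 1)
    (hvW : v ∉ W P) {l k : F} (h : vv X v l * vv X v k ∈ W P) : l = k := by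
  by_contra hne
  have hlk : l + k ≠ 0 := by
    intro hlk
    apply hne
    have := congrArg (fun z => z + k) hlk
    rwa [add_assoc, FormAlg.add_self, add_zero, zero_add] at this
  have h1 := vv_add E hd hg hv h2 l k
  have h3 : vv X v (l + k) ∈ W P := by
    have := mul_mem (inv_mem h) h1
    rwa [inv_mul_cancel_left] at this
  rw [vv_ne v hlk] at h3
  have h4 := C_W (X := X) (Units.mk0 (l + k) hlk)⁻¹ h3
  rw [C_C X _ _ hv.1, inv_mul_cancel, C_one X hv.1] at h4
  exact hvW h4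

/-- the centraliser of `v` in `M`. -/
def CM (v : G) : Subgroup G := M E ⊓ Subgroup.centralizer {v}

theorem mem_CM {v x : G} : x ∈ CM E v ↔ x ∈ M E ∧ x * v = v * x := by
  unfold CM
  rw [Subgroup.mem_inf, Subgroup.mem_centralizer_singleton_iff]

theorem card_W : Fintype.card F ^ 2 ≤ Nat.card (W P) := by
  have h1 : Nat.card (F × F) = Fintype.card F ^ 2 := by
    rw [Nat.card_prod, Nat.card_eq_fintype_card, pow_two]
  rw [← h1]
  apply Nat.card_le_card_of_injective
    (fun x : F × F => (⟨el P (0, 0, x.1) * P.p 0 x.2, mul_mem (el_mem_W _) (z_mem_W _)⟩ : W P))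
  rintro ⟨u, b⟩ ⟨u', b'⟩ h
  have h2 : el P (0, 0, u) * P.p 0 b = el P (0, 0, u') * P.p 0 b' := congrArg Subtype.val h
  have h3 := congrArg (crd P) h2
  rw [crd_mul P (el_mem P _) (P.Q_p _ _), crd_mul P (el_mem P _) (P.Q_p _ _), crd_el, crd_el,
    crd_p, crd_p] at h3
  have h4 : u + 0 = u' + 0 := congrArg (fun z => z.2.2) h3
  rw [add_zero, add_zero] at h4
  subst h4
  have h5 := P.z_inj (mul_left_cancel h2)
  rw [h5]

theorem card_CM (hd : del P = 0) (hg : gam P = 0) {v : G} (hv : v ∈ M E) (h2 : v * v = 1) :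
    Fintype.card F ^ 3 ≤ Nat.card (CM E v) := by
  have h1 : Fintype.card F ^ 3 ≤ Nat.card (F × W P) := by
    rw [Nat.card_prod, Nat.card_eq_fintype_card, pow_succ']
    exact Nat.mul_le_mul_left _ card_W
  refine h1.trans ?_
  by_cases hvW : v ∈ W P
  · choose sw hsw hww using exists_M_wt E hd hg
    apply Nat.card_le_card_of_injective (fun x : F × W P => (⟨sw x.1 * x.2,
      (mem_CM E).mpr ⟨mul_mem (hsw _) (W_le_M E x.2.2),
        W_central E hd hg (mul_mem (hsw _) (W_le_M E x.2.2)) hvW⟩⟩ : CM E v))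
    rintro ⟨w, ω⟩ ⟨w', ω'⟩ h
    have h2 : sw w * ω = sw w' * ω' := congrArg Subtype.val h
    have h3 := congrArg (wt P) h2
    rw [wt_mul X hd hg (hsw w).1 (W_le_M E ω.2).1, wt_mul X hd hg (hsw w').1 (W_le_M E ω'.2).1,
      hww, hww, wt_of_Q ω.2.1, wt_of_Q ω'.2.1, add_zero, add_zero] at h3
    subst h3
    have h4 : ω = ω' := Subtype.ext (mul_left_cancel h2)
    rw [h4]
  · apply Nat.card_le_card_of_injective (fun x : F × W P => (⟨vv X v x.1 * x.2,
      (mem_CM E).mpr ⟨mul_mem (vv_mem E hv _) (W_le_M E x.2.2), by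
        rw [mul_assoc, ← W_central E hd hg hv x.2.2, ← mul_assoc, vv_comm E hd hg hv h2,
          mul_assoc]⟩⟩ : CM E v))
    rintro ⟨l, ω⟩ ⟨k, ω'⟩ h
    have h3 : vv X v l * ω = vv X v k * ω' := congrArg Subtype.val h
    have h4 : vv X v k * vv X v l ∈ W P := by
      have h5 : vv X v k * vv X v l = ω' * (ω : G)⁻¹ := by
        have h6 : vv X v l = vv X v k * ω' * (ω : G)⁻¹ := by rw [← h3]; group
        rw [h6, ← mul_assoc, ← mul_assoc, vv_sq h2, one_mul]
      rw [h5]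
      exact mul_mem ω'.2 (inv_mem ω.2)
    have h5 := vv_inj E hd hg hv h2 hvW h4
    subst h5
    have h6 : ω = ω' := Subtype.ext (mul_left_cancel h3)
    rw [h6]

theorem card_T (P : Pre G F m) : Nat.card (CQ P P.t) ≤ 2 * Fintype.card F ^ 2 := by
  have h1 : Nat.card (ZMod 2 × F × F) = 2 * Fintype.card F ^ 2 := by
    rw [Nat.card_prod, Nat.card_prod, Nat.card_eq_fintype_card (α := F), Nat.card_zmod, pow_two]
  rw [← h1]
  apply Nat.card_le_card_of_surjective (fun x : ZMod 2 × F × F =>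
    (⟨P.p x.2.1 x.2.2 * tp P x.1, (mem_CQ P).mpr ⟨mul_mem (P.Q_p _ _) (tp_mem P _), by
      rcases zmod_cases x.1 with h | h
      · rw [h, tp_zero, mul_one, P.t_p]
      · rw [h, tp_one, mul_assoc, ← mul_assoc P.t, P.t_p, mul_assoc]⟩⟩ : CQ P P.t))
  rintro ⟨g, hg⟩
  have hg' := (mem_CQ P).mp hg
  obtain ⟨a, b, h | h⟩ := P.Q_T g hg'.1 hg'.2
  · exact ⟨(0, a, b), Subtype.ext (by
      show P.p a b * tp P 0 = g
      rw [tp_zero, mul_one, h])⟩
  · exact ⟨(1, a, b), Subtype.ext (by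
      show P.p a b * tp P 1 = g
      rw [tp_one, h])⟩

/-- no conjugate of `t` lies in `M`. -/
theorem fus (hT : Tmax P) (hd : del P = 0) (hg : gam P = 0) (g : G) :
    g * P.t * g⁻¹ ∉ M E := by
  intro hv
  set v := g * P.t * g⁻¹ with hvdef
  have h2 : v * v = 1 := by
    have : v * v = g * (P.t * P.t) * g⁻¹ := by rw [hvdef]; group
    rw [this, P.t_sq]; group
  set Ct := Subgroup.centralizer {P.t} with hCt
  have hmemC : ∀ x : G, x ∈ Ct ↔ x * P.t = P.t * x := fun x => by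
    rw [hCt, Subgroup.mem_centralizer_singleton_iff]
  have hCM2 : IsPGroup 2 (CM E v) :=
    X.S_two.to_le (inf_le_left.trans (M_le E))
  have hR2 : IsPGroup 2 ((CM E v).map (MulAut.conj g⁻¹).toMonoidHom) := hCM2.map _
  have hRC : (CM E v).map (MulAut.conj g⁻¹).toMonoidHom ≤ Ct := by
    rintro _ ⟨x, hx, rfl⟩
    have h1 := ((mem_CM E).mp hx).2
    rw [hmemC]
    show g⁻¹ * x * g⁻¹⁻¹ * P.t = P.t * (g⁻¹ * x * g⁻¹⁻¹)
    have h3 : g⁻¹ * x * g⁻¹⁻¹ * P.t = g⁻¹ * (x * v) * g := by rw [hvdef]; group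
    have h4 : P.t * (g⁻¹ * x * g⁻¹⁻¹) = g⁻¹ * (v * x) * g := by rw [hvdef]; group
    rw [h3, h4, h1]
  obtain ⟨c, -, hc⟩ := conj_le_of_maximal (A := CQ P P.t) (C := Ct) (P.Q_two.to_le inf_le_left)
    inf_le_right (by
      intro Y hY hTY hYC
      refine le_inf ?_ hYC
      apply hT Y hY
      · intro y hy hyt
        exact hTY ((mem_CQ P).mpr ⟨hy, hyt⟩)
      · intro r hr
        exact (hmemC r).mp (hYC hr)) hR2 hRC
  have h5 : Nat.card (CM E v) ≤ Nat.card (CQ P P.t) := by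
    apply Nat.card_le_card_of_injective (fun x : CM E v =>
      (⟨c * (g⁻¹ * x * g⁻¹⁻¹) * c⁻¹, hc _ ⟨x, x.2, rfl⟩⟩ : CQ P P.t))
    intro x y h
    have h6 : c * (g⁻¹ * (x : G) * g⁻¹⁻¹) * c⁻¹ = c * (g⁻¹ * (y : G) * g⁻¹⁻¹) * c⁻¹ :=
      congrArg Subtype.val h
    exact Subtype.ext (mul_left_cancel (mul_right_cancel (mul_left_cancel (mul_right_cancel h6))))
  have h6 := card_CM E hd hg hv h2
  have h7 := card_T P
  have h8 : Fintype.card F ^ 3 ≤ 2 * Fintype.card F ^ 2 := h6.trans (h5.trans h7)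
  have h9 : 8 ≤ Fintype.card F := by
    rw [P.hF]
    have hm := P.hm
    calc 8 = 2 ^ 3 := by norm_num
      _ ≤ 2 ^ (2 * m + 1) := Nat.pow_le_pow_right (by norm_num) (by omega)
  have h10 : 0 < Fintype.card F ^ 2 := by positivity
  have h11 : Fintype.card F ^ 3 = Fintype.card F * Fintype.card F ^ 2 := by ring
  rw [h11] at h8
  have h12 := Nat.le_of_mul_le_mul_right h8 h10
  omega

/-- `S` is a Sylow 2-subgroup. -/
theorem maximal (E : Ext X) (hT : Tmax P) (hd : del P = 0) (hg : gam P = 0) {R : Subgroup G}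
    (hR : IsPGroup 2 R) (hle : X.S ≤ R) : R = X.S := by
  by_contra hne
  have hlt : X.S < R := lt_of_le_of_ne hle (Ne.symm hne)
  have h3 := lt_inf_normalizer hR hlt
  apply h3.ne
  apply le_antisymm h3.le
  intro r hr
  have hn : r * P.t * r⁻¹ ∈ X.S := (Subgroup.mem_normalizer_iff.mp hr.2 P.t).mp (X.Q_le P.Q_t)
  have h2 : (r * P.t * r⁻¹) * (r * P.t * r⁻¹) = 1 := by
    have : (r * P.t * r⁻¹) * (r * P.t * r⁻¹) = r * (P.t * P.t) * r⁻¹ := by group
    rw [this, P.t_sq]; group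
  obtain ⟨y, hy, hyr⟩ := conj_of_involution E hd hg hn (fus E hT hd hg r) h2
  have h4 : y⁻¹ * r ∈ R ⊓ Subgroup.centralizer {P.t} := by
    rw [Subgroup.mem_inf]
    refine ⟨R.mul_mem (R.inv_mem (hle hy)) hr.1, ?_⟩
    rw [Subgroup.mem_centralizer_singleton_iff]
    have h5 : r * P.t = y * P.t * y⁻¹ * r := by rw [← hyr]; group
    rw [mul_assoc, h5]; group
  have h5 : R ⊓ Subgroup.centralizer {P.t} ≤ P.Q := by
    apply hT _ (hR.to_le inf_le_left)
    · intro x hx hxt
      exact ⟨hle (X.Q_le hx), Subgroup.mem_centralizer_singleton_iff.mpr hxt⟩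
    · intro x hx
      exact Subgroup.mem_centralizer_singleton_iff.mp hx.2
  have h6 := mul_mem hy (X.Q_le (h5 h4))
  rwa [mul_inv_cancel_left] at h6

theorem free (hd : del P = 0) (hg : gam P = 0) (l : Fˣ) (hl : l ≠ 1) {x : G} (hx : x ∈ M E)
    (h : C X l x = x) : x = 1 := by
  have h1 := wt_C X l hx.1
  rw [h] at h1
  have hne : (l : F) ≠ 1 := fun h => hl (Units.ext h)
  have hw : wt P x = 0 := by
    have : ((l : F) - 1) * wt P x = 0 := by rw [sub_mul, one_mul, ← h1, sub_self]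
    exact (mul_eq_zero.mp this).resolve_left (sub_ne_zero.mpr hne)
  have hxQ := mem_Q_of_wt X hx.1 hw
  have hxV : x ∈ VV P := ⟨hxQ, by
    have : (crd P x).1 = 0 := by rw [← E.onQ x hxQ, hx.2]
    exact this⟩
  exact VV_free P l hl hxV (by
    rw [C_Q X l hxQ] at h
    exact h)

theorem card_M (hd : del P = 0) (hg : gam P = 0) : Nat.card (M E) ≤ Fintype.card F ^ 4 := by
  classical
  let f : M E →* Multiplicative F :=
    { toFun := fun x => Multiplicative.ofAdd (wt P (x : G))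
      map_one' := by
        show Multiplicative.ofAdd (wt P (1 : G)) = 1
        rw [wt_of_Q (one_mem _)]; rfl
      map_mul' := fun x y => by
        show Multiplicative.ofAdd (wt P ((x : G) * y)) = _
        rw [wt_mul X hd hg x.2.1 y.2.1]; rfl }
  have h1 : Nat.card f.ker * f.ker.index = Nat.card (M E) := Subgroup.card_mul_index _
  rw [Subgroup.index_ker] at h1
  have h2 : Nat.card f.range ≤ Nat.card (Multiplicative F) := Subgroup.card_le_card_group _
  have h3 : Nat.card (Multiplicative F) = Fintype.card F := by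
    rw [Nat.card_congr Multiplicative.toAdd, Nat.card_eq_fintype_card]
  have h4 : Nat.card f.ker ≤ Nat.card (VV P) := by
    apply Nat.card_le_card_of_injective (fun x : f.ker => (⟨((x : M E) : G), by
      have h5 : wt P ((x : M E) : G) = 0 := x.2
      have hxQ := mem_Q_of_wt X x.1.2.1 h5
      refine ⟨hxQ, ?_⟩
      have : (crd P ((x : M E) : G)).1 = 0 := by rw [← E.onQ _ hxQ, x.1.2.2]
      exact this⟩ : VV P))
    intro x y h
    have h6 : ((x : M E) : G) = ((y : M E) : G) := congrArg (fun z : VV P => (z : G)) h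
    exact Subtype.ext (Subtype.ext h6)
  calc Nat.card (M E) = Nat.card f.ker * Nat.card f.range := h1.symm
    _ ≤ Fintype.card F ^ 3 * Fintype.card F :=
      Nat.mul_le_mul (h4.trans (VV_card P)) (h2.trans h3.le)
    _ = Fintype.card F ^ 4 := by ring

/-- **(B)**: the uniform end if `γ = δ = 0`. -/
theorem out_of_gammaZero (hT : Tmax P) (hd : del P = 0) (hg : gam P = 0) (X : Nx P) :
    ∃ O : Out G F P.t, ∀ a b, P.p a b ∈ O.M := by
  obtain ⟨E⟩ := exists_Ext X hd hg
  refine ⟨{ S := ⟨X.S, X.S_two, fun {R} hR hle => maximal E hT hd hg hR hle⟩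
            M := M E
            M_le := M_le E
            idx := M_index E
            t_sq := P.t_sq
            t_mem := X.Q_le P.Q_t
            fus := fus E hT hd hg
            h := X.h'
            h_M := fun l x hx => C_M E l hx
            h_mul := fun l l' x hx => X.h'_mul l l' x hx.1
            h_free := fun l hl x hx h => free E hd hg l hl hx h
            comm := ?_
            card_le := card_M E hd hg }, p_mem E⟩
  intro x hx y hy z hz
  exact (W_central E hd hg hz (comm_W E hd hg hx hy)).symm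

end Cfsg.Agent.StdSz.GammaZero
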