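import Cfsg.Agent.StdSz.NextExists

/-!
# The trichotomy at level one
-/

set_option autoImplicit false
set_option linter.unusedSectionVars false
set_option linter.style.haveILetI false

namespace Cfsg.Agent.StdSz.LevelOneEnd

open Cfsg.Agent.StdSz.EquivMaps Cfsg.Agent.StdSz.SzMaps Cfsg.Agent.StdSz.FormAlg
open Cfsg.Agent.StdSz.FixT Cfsg.Agent.StdSz.LevelOne Cfsg.Agent.StdSz.Coord
open Cfsg.Agent.StdSz.NormQ Cfsg.Agent.StdSz.NextLevel Cfsg.Agent.StdSz.NextExists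

variable {G : Type*} [Group G] {F : Type*} [Field F] [Fintype F] [CharP F 2] {m : ℕ}
variable (P : Pre G F m)

/-- `C_Q(s)`. -/
def CQ (s : G) : Subgroup G := P.Q ⊓ Subgroup.centralizer {s}

theorem mem_CQ {s x : G} : x ∈ CQ P s ↔ x ∈ P.Q ∧ x * s = s * x := by
  unfold CQ
  rw [Subgroup.mem_inf, Subgroup.mem_centralizer_singleton_iff]

/-- `x ↦ cm x s`. -/
noncomputable def bh (s : G) (hs : s ∈ P.Q) : P.Q →* Multiplicative F where
  toFun x := Multiplicative.ofAdd (P.cm x s)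
  map_one' := by
    show Multiplicative.ofAdd (P.cm 1 s) = 1
    have : P.cm 1 s = 0 := by
      apply P.cm_eq (one_mem _) hs
      rw [P.p_zero, one_mul, one_mul, mul_one]
    rw [this]; rfl
  map_mul' x y := by
    show Multiplicative.ofAdd (P.cm (x * y : G) s) = _
    rw [P.cm_mul_left x.2 y.2 hs]; rfl

theorem ker_bh (s : G) (hs : s ∈ P.Q) : (bh P s hs).ker = (CQ P s).subgroupOf P.Q := by
  ext x
  rw [MonoidHom.mem_ker, Subgroup.mem_subgroupOf, mem_CQ]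
  constructor
  · intro h
    have h1 : P.cm x s = 0 := h
    refine ⟨x.2, ?_⟩
    rw [P.cm_spec x.2 hs, h1, P.p_zero, one_mul]
  · rintro ⟨-, h⟩
    have h1 : P.cm x s = 0 := by
      apply P.cm_eq x.2 hs
      rw [P.p_zero, one_mul, h]
    exact h1

theorem card_CQ (s : G) (hs : s ∈ P.Q) :
    Nat.card (CQ P s) * Nat.card (bh P s hs).range = Nat.card P.Q := by
  have h1 : Nat.card (bh P s hs).ker * (bh P s hs).ker.index = Nat.card P.Q :=
    Subgroup.card_mul_index _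
  rw [Subgroup.index_ker, ker_bh] at h1
  have h2 : Nat.card ((CQ P s).subgroupOf P.Q) = Nat.card (CQ P s) :=
    Nat.card_congr (Subgroup.subgroupOfEquivOfLe (show CQ P s ≤ P.Q from inf_le_left)).toEquiv
  rw [h2] at h1
  exact h1

theorem card_CQ_t_le [Finite G] (s : G) (hs : s ∈ P.Q) :
    Nat.card (CQ P P.t) ≤ Nat.card (CQ P s) := by
  classical
  have h1 := card_CQ P s hs
  have h2 := card_CQ P P.t P.Q_t
  have h3 : (bh P P.t P.Q_t).range = ⊤ := by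
    rw [MonoidHom.range_eq_top]
    intro c
    obtain ⟨g, hg, hc⟩ := P.Q_surj (Multiplicative.toAdd c)
    refine ⟨⟨g, hg⟩, ?_⟩
    show Multiplicative.ofAdd (P.cm g P.t) = c
    have : P.cm g P.t = Multiplicative.toAdd c := by
      rw [P.cm_swap hg P.Q_t, cm_t P hg]
      exact P.u_eq hg hc
    rw [this]; rfl
  rw [h3, Subgroup.card_top] at h2
  have h4 : Nat.card (bh P s hs).range ≤ Nat.card (Multiplicative F) :=
    Subgroup.card_le_card_group _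
  have h5 : 0 < Nat.card (Multiplicative F) := Nat.card_pos
  have h6 : Nat.card (CQ P P.t) * Nat.card (Multiplicative F) ≤
      Nat.card (CQ P s) * Nat.card (Multiplicative F) := by
    rw [h2, ← h1]
    exact Nat.mul_le_mul_left _ h4
  exact Nat.le_of_mul_le_mul_right h6 h5

theorem card_conj [Finite G] (g : G) (H : Subgroup G) :
    Nat.card (H.map (MulAut.conj g).toMonoidHom) = Nat.card H :=
  Nat.card_congr (H.equivMapOfInjective (MulAut.conj g).toMonoidHom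
    (MulAut.conj g).injective).symm.toEquiv

theorem mem_conj {g x : G} {H : Subgroup G} :
    x ∈ H.map (MulAut.conj g).toMonoidHom ↔ g⁻¹ * x * g ∈ H := by
  constructor
  · rintro ⟨y, hy, rfl⟩
    have : g⁻¹ * (MulAut.conj g).toMonoidHom y * g = y := by
      show g⁻¹ * (g * y * g⁻¹) * g = y
      group
    rw [this]; exact hy
  · intro h
    refine ⟨_, h, ?_⟩
    show g * (g⁻¹ * x * g) * g⁻¹ = x
    group

/-- Sylow's theorem for a maximal 2-subgroup `A` of `C`. -/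
theorem conj_le_of_maximal [Finite G] {A C R : Subgroup G} (hA : IsPGroup 2 A) (hAC : A ≤ C)
    (hmax : ∀ X : Subgroup G, IsPGroup 2 X → A ≤ X → X ≤ C → X ≤ A) (hR : IsPGroup 2 R)
    (hRC : R ≤ C) : ∃ c ∈ C, ∀ x ∈ R, c * x * c⁻¹ ∈ A := by
  haveI : Fact (Nat.Prime 2) := ⟨Nat.prime_two⟩
  let A' : Sylow 2 C := ⟨A.subgroupOf C, hA.comap_subtype, by
    intro X hX hAX
    have h1 : X.map C.subtype ≤ A := by
      apply hmax _ (hX.map _)
      · intro a ha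
        exact ⟨⟨a, hAC ha⟩, hAX ha, rfl⟩
      · rintro _ ⟨y, -, rfl⟩
        exact y.2
    apply le_antisymm _ hAX
    intro x hx
    exact h1 ⟨x, hx, rfl⟩⟩
  obtain ⟨R', hR'⟩ := (hR.comap_subtype : IsPGroup 2 (R.subgroupOf C)).exists_le_sylow
  obtain ⟨n, hn⟩ := MulAction.exists_smul_eq C R' A'
  refine ⟨n, n.2, fun x hx => ?_⟩
  have h1 : (⟨x, hRC hx⟩ : C) ∈ (R' : Subgroup C) := hR' hx
  have h2 : n * ⟨x, hRC hx⟩ * n⁻¹ ∈ (A' : Subgroup C) := by
    rw [← hn, Sylow.coe_subgroup_smul]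
    exact Subgroup.smul_mem_pointwise_smul _ (MulAut.conj n) _ h1
  exact h2

/-- fusion of `t` in `Q` if `Q` is a Sylow 2-subgroup and `N(Q)` stabilises `t Z`. -/
theorem fusion [Finite G] (hT : Tmax P)
    (hQ : ∀ R : Subgroup G, IsPGroup 2 R → P.Q ≤ R → R = P.Q)
    (hN : ∀ s (h : Norm P s), sb P h tt = tt) (g : G) (hg : g * P.t * g⁻¹ ∈ P.Q) :
    ∃ b, g * P.t * g⁻¹ = P.p 0 b * P.t := by
  classical
  set s := g * P.t * g⁻¹ with hs
  set C := Subgroup.centralizer {P.t} with hC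
  have hmemC : ∀ x : G, x ∈ C ↔ x * P.t = P.t * x := fun x => by
    rw [hC, Subgroup.mem_centralizer_singleton_iff]
  have hTC : CQ P P.t ≤ C := inf_le_right
  have hT2 : IsPGroup 2 (CQ P P.t) := P.Q_two.to_le inf_le_left
  have hCs2 : IsPGroup 2 (CQ P s) := P.Q_two.to_le inf_le_left
  -- (i)
  have hRC : (CQ P s).map (MulAut.conj g⁻¹).toMonoidHom ≤ C := by
    intro x hx
    rw [mem_conj, inv_inv] at hx
    have h1 := ((mem_CQ P).mp hx).2
    rw [hmemC]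
    rw [hs] at h1
    have h2 : g * (x * P.t) * g⁻¹ = g * (P.t * x) * g⁻¹ := by
      calc g * (x * P.t) * g⁻¹ = g * x * g⁻¹ * (g * P.t * g⁻¹) := by group
        _ = g * P.t * g⁻¹ * (g * x * g⁻¹) := h1
        _ = g * (P.t * x) * g⁻¹ := by group
    exact mul_left_cancel (mul_right_cancel h2)
  obtain ⟨c, hc, hcR⟩ := conj_le_of_maximal (A := CQ P P.t) hT2 hTC (by
    intro X hX hTX hXC
    refine le_inf ?_ hXC
    apply hT X hX
    · intro y hy hyt
      exact hTX ((mem_CQ P).mpr ⟨hy, hyt⟩)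
    · intro r hr
      exact (hmemC r).mp (hXC hr)) (hCs2.map (MulAut.conj g⁻¹).toMonoidHom) hRC
  have hct := (hmemC c).mp hc
  set g' := g * c⁻¹ with hg'
  have hsg' : s = g' * P.t * g'⁻¹ := by
    have h1 : g' * P.t * g'⁻¹ = g * (c⁻¹ * (P.t * c)) * g⁻¹ := by rw [hg']; group
    rw [h1, ← hct, inv_mul_cancel_left]
  have hle : ∀ x ∈ CQ P s, g'⁻¹ * x * g' ∈ CQ P P.t := by
    intro x hx
    have h1 := hcR (g⁻¹ * x * g⁻¹⁻¹) ⟨x, hx, rfl⟩
    have h2 : c * (g⁻¹ * x * g⁻¹⁻¹) * c⁻¹ = g'⁻¹ * x * g' := by rw [hg']; group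
    rw [← h2]; exact h1
  have heq : (CQ P s).map (MulAut.conj g'⁻¹).toMonoidHom = CQ P P.t := by
    apply Subgroup.eq_of_le_of_card_ge
    · intro x hx
      rw [mem_conj, inv_inv] at hx
      have h1 := hle _ hx
      have h2 : g'⁻¹ * (g' * x * g'⁻¹) * g' = x := by group
      rwa [h2] at h1
    · rw [card_conj]
      exact card_CQ_t_le P s hg
  have hTg' : ∀ x, x ∈ CQ P P.t ↔ g' * x * g'⁻¹ ∈ CQ P s := by
    intro x
    rw [← heq, mem_conj, inv_inv]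
  -- (ii)
  set N := Subgroup.normalizer (CQ P s : Set G) with hNdef
  have hZs : ∀ b, P.p 0 b ∈ CQ P s := fun b => (mem_CQ P).mpr ⟨P.Q_p 0 b, (P.Q_Z s hg b).symm⟩
  have hZt : ∀ b, P.p 0 b ∈ CQ P P.t := fun b =>
    (mem_CQ P).mpr ⟨P.Q_p 0 b, (P.Q_Z P.t P.Q_t b).symm⟩
  have hconjQ : ∀ v, v ∈ P.Q → ∀ x ∈ P.Q, ∀ y ∈ CQ P v, x * y * x⁻¹ ∈ CQ P v := by
    intro v hv x hx y hy
    have hy' := (mem_CQ P).mp hy
    have h1 := P.cm_spec hx hy'.1
    have h2 : x * y * x⁻¹ = P.p 0 (P.cm x y) * y := by rw [h1]; group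
    rw [h2]
    exact mul_mem ((mem_CQ P).mpr ⟨P.Q_p 0 _, (P.Q_Z v hv _).symm⟩) hy
  have hQN : P.Q ≤ N := by
    intro x hx
    rw [hNdef, Subgroup.mem_normalizer_iff]
    intro y
    constructor
    · intro hy; exact hconjQ s hg x hx y hy
    · intro hy
      have h1 := hconjQ s hg x⁻¹ (inv_mem hx) _ hy
      have h2 : x⁻¹ * (x * y * x⁻¹) * x⁻¹⁻¹ = y := by group
      rwa [h2] at h1
  have hQgN : P.Q.map (MulAut.conj g').toMonoidHom ≤ N := by
    rintro _ ⟨x, hx, rfl⟩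
    have key : ∀ x ∈ P.Q, ∀ y ∈ CQ P s, (g' * x * g'⁻¹) * y * (g' * x * g'⁻¹)⁻¹ ∈ CQ P s := by
      intro x hx y hy
      have h1 : g'⁻¹ * y * g' ∈ CQ P P.t := hle y hy
      have h2 := hconjQ P.t P.Q_t x hx _ h1
      have h3 := (hTg' _).mp h2
      have h4 : g' * (x * (g'⁻¹ * y * g') * x⁻¹) * g'⁻¹ =
          (g' * x * g'⁻¹) * y * (g' * x * g'⁻¹)⁻¹ := by group
      rwa [h4] at h3
    rw [hNdef, Subgroup.mem_normalizer_iff]
    intro y
    show y ∈ CQ P s ↔ (g' * x * g'⁻¹) * y * (g' * x * g'⁻¹)⁻¹ ∈ CQ P s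
    constructor
    · intro hy; exact key x hx y hy
    · intro hy
      have h1 := key x⁻¹ (inv_mem hx) _ hy
      have h2 : (g' * x⁻¹ * g'⁻¹) * ((g' * x * g'⁻¹) * y * (g' * x * g'⁻¹)⁻¹) *
          (g' * x⁻¹ * g'⁻¹)⁻¹ = y := by group
      rwa [h2] at h1
  obtain ⟨n, hn, hnR⟩ := conj_le_of_maximal (A := P.Q) P.Q_two hQN (by
    intro X hX hQX _
    exact (hQ X hX hQX).le) (P.Q_two.map (MulAut.conj g').toMonoidHom) hQgN
  have hr : Norm P (n * g') := by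
    apply norm_of_fwd
    intro x hx
    have h1 := hnR (g' * x * g'⁻¹) ⟨x, hx, rfl⟩
    have h2 : n * (g' * x * g'⁻¹) * n⁻¹ = n * g' * x * (n * g')⁻¹ := by group
    rwa [h2] at h1
  -- (iii)
  have hrt : ∃ b, (n * g') * P.t * (n * g')⁻¹ = P.p 0 b * P.t := by
    have h1 := hN _ hr
    rw [sb_tt_eq, ← crd_t P] at h1
    exact exists_z_mul P (hr.fwd _ P.Q_t) P.Q_t h1
  obtain ⟨b, hb⟩ := hrt
  have hCsT : CQ P s ≤ CQ P P.t := by
    intro y hy
    have hyQ := ((mem_CQ P).mp hy).1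
    -- `y = r τ r⁻¹`
    have hn' := Subgroup.mem_normalizer_iff.mp hn
    have h1 : n⁻¹ * y * n ∈ CQ P s := by
      apply (hn' (n⁻¹ * y * n)).mpr
      have : n * (n⁻¹ * y * n) * n⁻¹ = y := by group
      rw [this]; exact hy
    have h3 := hle _ h1
    have h4 := ((mem_CQ P).mp h3).2
    -- so `y` commutes with `r t r⁻¹`
    have h5 : y * (P.p 0 b * P.t) = (P.p 0 b * P.t) * y := by
      rw [← hb]
      calc y * (n * g' * P.t * (n * g')⁻¹)
          = (n * g') * ((g'⁻¹ * (n⁻¹ * y * n) * g') * P.t) * (n * g')⁻¹ := by group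
        _ = (n * g') * (P.t * (g'⁻¹ * (n⁻¹ * y * n) * g')) * (n * g')⁻¹ := by rw [h4]
        _ = n * g' * P.t * (n * g')⁻¹ * y := by group
    refine (mem_CQ P).mpr ⟨hyQ, ?_⟩
    rw [← mul_assoc, P.Q_Z y hyQ, mul_assoc, mul_assoc] at h5
    exact mul_left_cancel h5
  have hss : s ∈ CQ P s := (mem_CQ P).mpr ⟨hg, rfl⟩
  have hsT := (mem_CQ P).mp (hCsT hss)
  have hs2 : s * s = 1 := by
    have : s * s = g * (P.t * P.t) * g⁻¹ := by rw [hs]; group
    rw [this, P.t_sq]; group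
  have hsqpt : ∀ a b, P.p a b * P.t * (P.p a b * P.t) = P.p 0 (a ^ (1 + 2 ^ (m + 1))) := by
    intro a b
    have : P.p a b * P.t * (P.p a b * P.t) = P.p a b * (P.t * P.p a b) * P.t := by group
    rw [this, P.t_p]
    have h2 : P.p a b * (P.p a b * P.t) * P.t = P.p a b * P.p a b * (P.t * P.t) := by group
    rw [h2, P.t_sq, mul_one, P.p_sq]
  have ha0 : ∀ a : F, P.p 0 (a ^ (1 + 2 ^ (m + 1))) = 1 → a = 0 := by
    intro a h
    rw [← P.p_zero] at h
    exact (pow_eq_zero_iff (by positivity)).mp (P.z_inj h)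
  obtain ⟨a, b', h1 | h1⟩ := P.Q_T s hg hsT.2
  · exfalso
    have ha : a = 0 := ha0 a (by rw [← P.p_sq a b', ← h1, hs2])
    subst ha
    -- `s` is a square in `T`
    set a0 := b' ^ (2 ^ (m + 1) - 1) with ha0'
    have h2 : s = P.p a0 0 * P.p a0 0 := by rw [h1, P.p_sq, ha0', norm_surj P.hF]
    have h3 : P.p a0 0 ∈ CQ P P.t := (mem_CQ P).mpr ⟨P.Q_p _ _, (P.t_p _ _).symm⟩
    have hCeq : CQ P s = CQ P P.t :=
      Subgroup.eq_of_le_of_card_ge hCsT (card_CQ_t_le P s hg)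
    have h4 : g'⁻¹ * P.p a0 0 * g' ∈ CQ P P.t := hle _ (by rw [hCeq]; exact h3)
    have h5 : P.t = (g'⁻¹ * P.p a0 0 * g') * (g'⁻¹ * P.p a0 0 * g') := by
      have h6 : (g'⁻¹ * P.p a0 0 * g') * (g'⁻¹ * P.p a0 0 * g') =
          g'⁻¹ * (P.p a0 0 * P.p a0 0) * g' := by group
      rw [h6, ← h2, hsg']; group
    obtain ⟨x, y, h6 | h6⟩ := P.Q_T _ ((mem_CQ P).mp h4).1 ((mem_CQ P).mp h4).2
    · rw [h6, P.p_sq] at h5
      exact P.t_not _ _ h5.symm
    · rw [h6, hsqpt] at h5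
      exact P.t_not _ _ h5.symm
  · have ha : a = 0 := ha0 a (by rw [← hsqpt a b', ← h1, hs2])
    subst ha
    exact ⟨b', h1⟩

/-- if `Q` is a maximal 2-subgroup, `N(Q)` stabilises `t Z`. -/
theorem stable_of_maximal [Finite G] (hQ : ∀ R : Subgroup G, IsPGroup 2 R → P.Q ≤ R → R = P.Q)
    (s : G) (h : Norm P s) : sb P h tt = tt := by
  classical
  haveI : Fact (Nat.Prime 2) := ⟨Nat.prime_two⟩
  by_cases hd : del P ≠ 0 ∨ (gam P ≠ 0 ∧ gam P ≠ 1)
  · exact sb_tt_of_ne P h hd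
  push Not at hd
  obtain ⟨hd, hg⟩ := hd
  have hFF : ∃ f, FF P f := by
    by_cases hg0 : gam P = 0
    · exact ⟨_, FF_zero P hd hg0⟩
    · exact ⟨_, FF_one P hd (hg hg0)⟩
  obtain ⟨f, hf⟩ := hFF
  by_contra hcon
  have htr := transitive P hf (NQ P) le_rfl (fun l s hs =>
    Norm.mul P (Norm.mul P (norm_h P l) hs) (Norm.inv P (norm_h P l))) (s1 := s) h hcon
  have hidx := relIndex_StQ P hf (NQ P) le_rfl htr
  -- `Q` is a Sylow 2-subgroup of `G`
  obtain ⟨S, hS⟩ := P.Q_two.exists_le_sylow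
  have hSQ : (S : Subgroup G) = P.Q := hQ _ S.isPGroup' hS
  have h1 : ¬ 2 ∣ P.Q.index := by rw [← hSQ]; exact S.not_dvd_index
  apply h1
  have h2 : P.Q.relIndex (NQ P) ∣ P.Q.index := by
    rw [← Subgroup.relIndex_mul_index (Q_le_NQ P)]
    exact Dvd.intro _ rfl
  have h3 : P.Q.relIndex (StQ P) * (StQ P).relIndex (NQ P) = P.Q.relIndex (NQ P) :=
    Subgroup.relIndex_mul_relIndex _ _ _ (Q_le_StQ P) (fun x hx => hx.1)
  rw [hidx] at h3
  refine dvd_trans ?_ h2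
  rw [← h3]
  exact Dvd.dvd.mul_left (dvd_pow_self 2 (by omega)) _

/-- **The trichotomy.** -/
theorem trichotomy [Finite G] {K : Subgroup G} (hT : Tmax P) (hK : HC P K) :
    ((∀ R : Subgroup G, IsPGroup 2 R → P.Q ≤ R → R = P.Q) ∧
      ∀ g : G, g * P.t * g⁻¹ ∈ P.Q → ∃ b, g * P.t * g⁻¹ = P.p 0 b * P.t) ∨
    (del P = 0 ∧ gam P = 0 ∧
      Nonempty (Next P (fun w => ((1, w, w ^ (1 + 2 ^ (m + 1))) : V3 F)))) ∨
    (del P = 0 ∧ gam P = 1 ∧ Nonempty (Next P (fun u => ((1, 0, u) : V3 F)))) := by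
  rcases maximal_or_exists P hT with hQ | ⟨s, hs, hs2, h1⟩
  · exact Or.inl ⟨hQ, fusion P hT hQ (stable_of_maximal P hQ)⟩
  · right
    have hd : ¬ (del P ≠ 0 ∨ (gam P ≠ 0 ∧ gam P ≠ 1)) := fun hd => h1 (sb_tt_of_ne P hs hd)
    push Not at hd
    obtain ⟨hd, hg⟩ := hd
    by_cases hg0 : gam P = 0
    · left
      refine ⟨hd, hg0, exists_next P hT hK (FF_zero P hd hg0) ?_ hs hs2 h1⟩
      rintro r hr ⟨k, hk⟩ b
      exact two_elt_Z P hr hd (Or.inl hg0) k hk b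
    · right
      refine ⟨hd, hg hg0, exists_next P hT hK (FF_one P hd (hg hg0)) ?_ hs hs2 h1⟩
      rintro r hr ⟨k, hk⟩ b
      exact two_elt_Z P hr hd (Or.inr (hg hg0)) k hk b

end Cfsg.Agent.StdSz.LevelOneEnd
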