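import Cfsg.Agent.StdSz.NormQ

/-!
# The next level

`Q` is a Sylow 2-subgroup of `G` and the conjugates of `t` in `Q` are in `t Z`, or `δ = 0`,
`γ ∈ {0,1}` and there is a 2-group `S > Q` normalising `Q` with `|S : Q| = q`, on which the torus
acts.
-/

set_option autoImplicit false
set_option linter.unusedSectionVars false
set_option linter.style.haveILetI false

namespace Cfsg.Agent.StdSz.NextLevel

open Cfsg.Agent.StdSz.EquivMaps Cfsg.Agent.StdSz.SzMaps Cfsg.Agent.StdSz.FormAlg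
open Cfsg.Agent.StdSz.FixT Cfsg.Agent.StdSz.LevelOne Cfsg.Agent.StdSz.Coord
open Cfsg.Agent.StdSz.NormQ

variable {G : Type*} [Group G] {F : Type*} [Field F] [Fintype F] [CharP F 2] {m : ℕ}
variable (P : Pre G F m)

/-- `T = C_Q(t)` is a Sylow 2-subgroup of `C_G(t)`. -/
def Tmax : Prop := ∀ R : Subgroup G, IsPGroup 2 R →
  (∀ g ∈ P.Q, g * P.t = P.t * g → g ∈ R) → (∀ r ∈ R, r * P.t = P.t * r) → R ≤ P.Q

/-- the centralizer of `Z` in `C_G(t)` is `T K` with `K` of odd order centralising `T`. -/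
structure HC (K : Subgroup G) : Prop where
  odd : Odd (Nat.card K)
  comm_p : ∀ k ∈ K, ∀ a b, k * P.p a b = P.p a b * k
  comm_t : ∀ k ∈ K, k * P.t = P.t * k
  dec : ∀ g, g * P.t = P.t * g → (∀ b, g * P.p 0 b = P.p 0 b * g) → ∃ x ∈ P.Q, ∃ k ∈ K, g = x * k

/-- the data of the next level. -/
structure Next (f : F → V3 F) where
  S : Subgroup G
  S_two : IsPGroup 2 S
  Q_le : P.Q ≤ S
  S_Q : ∀ s ∈ S, ∀ g ∈ P.Q, s * g * s⁻¹ ∈ P.Q
  S_Z : ∀ s ∈ S, ∀ b, s * P.p 0 b = P.p 0 b * s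
  S_max : ∀ R : Subgroup G, IsPGroup 2 R → S ≤ R → (∀ r ∈ R, ∀ g ∈ P.Q, r * g * r⁻¹ ∈ P.Q) → R = S
  h' : Fˣ → G
  h'_t : ∀ l, h' l * P.t = P.t * h' l
  h'_Q : ∀ l, ∀ g ∈ P.Q, h' l * g * (h' l)⁻¹ = P.h l * g * (P.h l)⁻¹
  h'_S : ∀ l, ∀ s ∈ S, h' l * s * (h' l)⁻¹ ∈ S
  h'_mul : ∀ l l', ∀ s ∈ S,
    h' (l * l') * s * (h' (l * l'))⁻¹ = h' l * (h' l' * s * (h' l')⁻¹) * (h' l)⁻¹
  conj : ∀ s ∈ S, ∃ w, crd P (s * P.t * s⁻¹) = f w
  surj : ∀ w, ∃ s ∈ S, crd P (s * P.t * s⁻¹) = f w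
  stab : ∀ s ∈ S, crd P (s * P.t * s⁻¹) = tt → s ∈ P.Q

/-- the torus on coordinates. -/
def tor (l : Fˣ) (v : V3 F) : V3 F := (v.1, (l : F) * v.2.1, (l : F) ^ (1 + 2 ^ (m + 1)) * v.2.2)

/-- the normalizer of `Q`. -/
def NQ : Subgroup G where
  carrier := {s | Norm P s}
  mul_mem' := fun ha hb => Norm.mul P ha hb
  one_mem' := Norm.of_mem P (one_mem _)
  inv_mem' := fun ha => Norm.inv P ha

theorem mem_NQ {s : G} : s ∈ NQ P ↔ Norm P s := Iff.rfl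

theorem Q_le_NQ : P.Q ≤ NQ P := fun _ hg => Norm.of_mem P hg

/-- the centralizer of `Z` in the normalizer of `Q`. -/
def N0 : Subgroup G where
  carrier := {s | Norm P s ∧ ∀ b, s * P.p 0 b = P.p 0 b * s}
  mul_mem' := fun {x y} ha hb => ⟨Norm.mul P ha.1 hb.1, fun b => by
    rw [mul_assoc, hb.2, ← mul_assoc, ha.2, mul_assoc]⟩
  one_mem' := ⟨Norm.of_mem P (one_mem _), fun b => by rw [one_mul, mul_one]⟩
  inv_mem' := fun {x} ha => ⟨Norm.inv P ha.1, fun b => by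
    have h1 := ha.2 b
    rw [inv_mul_eq_iff_eq_mul, ← mul_assoc, h1, mul_assoc, mul_inv_cancel, mul_one]⟩

theorem mem_N0 {s : G} : s ∈ N0 P ↔ Norm P s ∧ ∀ b, s * P.p 0 b = P.p 0 b * s := Iff.rfl

theorem N0_le : N0 P ≤ NQ P := fun _ h => h.1

theorem Q_le_N0 : P.Q ≤ N0 P := fun g hg => ⟨Norm.of_mem P hg, fun b => P.Q_Z g hg b⟩

/-- conjugating `Q` into itself is enough in a finite group. -/
theorem norm_of_fwd [Finite G] {s : G} (h : ∀ g ∈ P.Q, s * g * s⁻¹ ∈ P.Q) : Norm P s := by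
  refine ⟨h, ?_⟩
  have h1 : P.Q.map (MulAut.conj s).toMonoidHom ≤ P.Q := by
    rintro _ ⟨g, hg, rfl⟩
    exact h g hg
  have h2 : P.Q.map (MulAut.conj s).toMonoidHom = P.Q := by
    apply Subgroup.eq_of_le_of_card_ge h1
    rw [Subgroup.card_map_of_injective (MulAut.conj s).injective]
  intro g hg
  rw [← h2] at hg
  obtain ⟨x, hx, rfl⟩ := hg
  have : s⁻¹ * (MulAut.conj s).toMonoidHom x * s = x := by
    show s⁻¹ * (s * x * s⁻¹) * s = x
    group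
  rw [this]; exact hx

theorem norm_h [Finite G] (l : Fˣ) : Norm P (P.h l) := norm_of_fwd P (P.Q_h l)

/-- the stabiliser of `t Z`. -/
theorem sb_eq_tt_iff {s : G} (h : Norm P s) :
    sb P h tt = tt ↔ ∃ g ∈ P.Q, (g⁻¹ * s) * P.t = P.t * (g⁻¹ * s) := by
  constructor
  · intro h1
    rw [← crd_t P, ← sb_spec P h P.Q_t] at h1
    obtain ⟨b, hb⟩ := exists_z_mul P (h.fwd _ P.Q_t) P.Q_t h1
    obtain ⟨g, hg, hgb⟩ := P.Q_surj b
    refine ⟨g, hg, ?_⟩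
    have h2 : s * P.t * s⁻¹ = g * P.t * g⁻¹ := by rw [hb, hgb]
    have h3 : s * P.t = g * P.t * g⁻¹ * s := by rw [← h2]; group
    rw [mul_assoc, h3]; group
  · rintro ⟨g, hg, h1⟩
    rw [← crd_t P, ← sb_spec P h P.Q_t]
    have h2 : s * P.t * s⁻¹ = g * ((g⁻¹ * s) * P.t) * s⁻¹ := by group
    have h3 : s * P.t * s⁻¹ = g * P.t * g⁻¹ := by rw [h2, h1]; group
    rw [h3, P.u_spec hg, crd_mul P (P.Q_p _ _) P.Q_t, crd_p, crd_t]
    unfold tt
    ext <;> simp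

/-- 2-groups normalising `Q`, stabilising `t Z`, are contained in `Q`. -/
theorem mem_Q_of_sb_tt (hT : Tmax P) {R : Subgroup G} (hR : IsPGroup 2 R) (hQR : P.Q ≤ R)
    {s : G} (h : Norm P s) (hs : s ∈ R) (h1 : sb P h tt = tt) : s ∈ P.Q := by
  obtain ⟨g, hg, hc⟩ := (sb_eq_tt_iff P h).mp h1
  let C : Subgroup G := Subgroup.centralizer {P.t}
  have hmemC : ∀ x : G, x ∈ C ↔ x * P.t = P.t * x := fun x => by
    rw [Subgroup.mem_centralizer_singleton_iff]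
  have h2 : R ⊓ C ≤ P.Q := by
    apply hT
    · exact hR.to_le inf_le_left
    · intro x hx hxt
      exact ⟨hQR hx, (hmemC x).mpr hxt⟩
    · intro x hx
      exact (hmemC x).mp hx.2
  have h3 : g⁻¹ * s ∈ P.Q :=
    h2 (Subgroup.mem_inf.mpr ⟨R.mul_mem (R.inv_mem (hQR hg)) hs, (hmemC _).mpr hc⟩)
  have := mul_mem hg h3
  rwa [mul_inv_cancel_left] at this

/-- elements of `K` normalising `Q` centralise `Q`. -/
theorem comm_of_K [Finite G] {K : Subgroup G} (hK : HC P K) {k : G} (hk : k ∈ K) (hn : Norm P k)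
    {g : G} (hg : g ∈ P.Q) : k * g = g * k := by
  have hu : P.u (k * g * k⁻¹) = P.u g := by
    apply P.u_eq (hn.fwd g hg)
    have h1 : k * g * k⁻¹ * P.t * (k * g * k⁻¹)⁻¹ = k * g * (k⁻¹ * P.t * k) * g⁻¹ * k⁻¹ := by group
    have h2 : k⁻¹ * P.t * k = P.t := by
      rw [mul_assoc, ← hK.comm_t k hk, inv_mul_cancel_left]
    have h3 : k * g * P.t * g⁻¹ * k⁻¹ = k * (g * P.t * g⁻¹) * k⁻¹ := by group
    rw [h1, h2, h3, P.u_spec hg]
    have h4 : k * (P.p 0 (P.u g) * P.t) * k⁻¹ = (k * P.p 0 (P.u g)) * P.t * k⁻¹ := by group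
    rw [h4, hK.comm_p k hk]
    have h5 : P.p 0 (P.u g) * k * P.t * k⁻¹ = P.p 0 (P.u g) * (k * P.t) * k⁻¹ := by group
    rw [h5, hK.comm_t k hk]; group
  -- `τ = g⁻¹ (k g k⁻¹)` lies in `T`
  have hτQ : g⁻¹ * (k * g * k⁻¹) ∈ P.Q := mul_mem (inv_mem hg) (hn.fwd g hg)
  have hτu : P.u (g⁻¹ * (k * g * k⁻¹)) = 0 := by
    rw [P.u_mul (inv_mem hg) (hn.fwd g hg), hu, ← crd_u, crd_inv P hg, crd_u, FormAlg.add_self]
  have hτk : Commute k (g⁻¹ * (k * g * k⁻¹)) := by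
    obtain ⟨a, b, h | h⟩ := P.mem_T_of_u hτQ hτu
    · rw [h]; exact hK.comm_p k hk a b
    · rw [h]; exact Commute.mul_right (hK.comm_p k hk a b) (hK.comm_t k hk)
  set τ := g⁻¹ * (k * g * k⁻¹) with hτ
  have hkg : k * g * k⁻¹ = g * τ := by rw [hτ]; group
  have hpow : ∀ n : ℕ, k ^ n * g * (k ^ n)⁻¹ = g * τ ^ n := by
    intro n
    induction n with
    | zero => simp
    | succ n ih =>
      have e1 : k ^ (n + 1) * g * (k ^ (n + 1))⁻¹ = k * (k ^ n * g * (k ^ n)⁻¹) * k⁻¹ := by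
        rw [pow_succ']; group
      have e2 : k * (g * τ ^ n) * k⁻¹ = (k * g * k⁻¹) * (k * τ ^ n * k⁻¹) := by group
      have e3 : k * τ ^ n * k⁻¹ = τ ^ n := by
        rw [(hτk.pow_right n).eq, mul_assoc, mul_inv_cancel, mul_one]
      rw [e1, ih, e2, e3, hkg, mul_assoc, ← pow_succ']
  have h1 := hpow (Nat.card K)
  have h2 : k ^ Nat.card K = 1 := by
    have : (⟨k, hk⟩ : K) ^ Nat.card K = 1 := pow_card_eq_one'
    exact congrArg Subtype.val this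
  rw [h2, one_mul, inv_one, mul_one] at h1
  have h3 : τ ^ Nat.card K = 1 := (mul_eq_left.mp h1.symm)
  obtain ⟨j, hj⟩ := P.Q_two ⟨τ, hτQ⟩
  have h4 : τ ^ (2 ^ j) = 1 := congrArg Subtype.val hj
  have h5 : τ = 1 := by
    have hcop : Nat.Coprime (Nat.card K) (2 ^ j) :=
      (Nat.coprime_two_right.mpr hK.odd).pow_right j
    have := Nat.Coprime.gcd_eq_one hcop
    have h6 : orderOf τ ∣ Nat.gcd (Nat.card K) (2 ^ j) :=
      Nat.dvd_gcd (orderOf_dvd_of_pow_eq_one h3) (orderOf_dvd_of_pow_eq_one h4)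
    rw [this, Nat.dvd_one, orderOf_eq_one_iff] at h6
    exact h6
  rw [h5, mul_one] at hkg
  exact mul_inv_eq_iff_eq_mul.mp hkg

/-- the odd part of the centralizer of `Q`. -/
def D1 (K : Subgroup G) : Subgroup G := K ⊓ Subgroup.centralizer (P.Q : Set G)

theorem mem_D1 {K : Subgroup G} {k : G} : k ∈ D1 P K ↔ k ∈ K ∧ ∀ g ∈ P.Q, g * k = k * g := by
  unfold D1
  rw [Subgroup.mem_inf, Subgroup.mem_centralizer_iff]
  rfl

/-- decomposition of the centralizer of `Q`. -/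
theorem cent_Q [Finite G] {K : Subgroup G} (hK : HC P K) {c : G} (hc : ∀ g ∈ P.Q, g * c = c * g) :
    ∃ b, ∃ k ∈ D1 P K, c = P.p 0 b * k := by
  obtain ⟨x, hx, k, hk, he⟩ := hK.dec c (hc _ P.Q_t).symm (fun b => (hc _ (P.Q_p 0 b)).symm)
  have hcn : Norm P c := by
    refine ⟨fun g hg => ?_, fun g hg => ?_⟩
    · rw [← hc g hg, mul_assoc, mul_inv_cancel, mul_one]; exact hg
    · rw [mul_assoc, hc g hg, inv_mul_cancel_left]; exact hg
  have hkn : Norm P k := by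
    have : k = x⁻¹ * c := by rw [he]; group
    rw [this]
    exact Norm.mul P (Norm.of_mem P (inv_mem hx)) hcn
  have hkQ : ∀ g ∈ P.Q, g * k = k * g := fun g hg => (comm_of_K P hK hk hkn hg).symm
  have hxz : ∃ b, x = P.p 0 b := by
    apply (mem_Z_iff P hx).mp
    intro g hg
    have h1 := hc g hg
    rw [he, ← mul_assoc] at h1
    have h2 : x * k * g = x * g * k := by rw [mul_assoc, ← hkQ g hg, ← mul_assoc]
    rw [h2] at h1
    exact (mul_right_cancel h1).symm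
  obtain ⟨b, rfl⟩ := hxz
  exact ⟨b, k, (mem_D1 P).mpr ⟨hk, hkQ⟩, he⟩

/-- `D1` is normalised by `N(Q)`. -/
theorem D1_normal [Finite G] {K : Subgroup G} (hK : HC P K) {s : G} (hs : Norm P s) {d : G}
    (hd : d ∈ D1 P K) : s * d * s⁻¹ ∈ D1 P K := by
  have hd' := (mem_D1 P).mp hd
  have hc : ∀ g ∈ P.Q, g * (s * d * s⁻¹) = (s * d * s⁻¹) * g := by
    intro g hg
    have h1 := hd'.2 _ (hs.bwd g hg)
    calc g * (s * d * s⁻¹) = s * ((s⁻¹ * g * s) * d) * s⁻¹ := by group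
      _ = s * (d * (s⁻¹ * g * s)) * s⁻¹ := by rw [h1]
      _ = (s * d * s⁻¹) * g := by group
  obtain ⟨b, k, hk, he⟩ := cent_Q P hK hc
  have hk' := (mem_D1 P).mp hk
  -- the order is odd
  have h1 : (s * d * s⁻¹) ^ Nat.card K = 1 := by
    rw [conj_pow]
    have : d ^ Nat.card K = 1 := by
      have : (⟨d, hd'.1⟩ : K) ^ Nat.card K = 1 := pow_card_eq_one'
      exact congrArg Subtype.val this
    rw [this, mul_one, mul_inv_cancel]
  have h2 : k ^ Nat.card K = 1 := by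
    have : (⟨k, hk'.1⟩ : K) ^ Nat.card K = 1 := pow_card_eq_one'
    exact congrArg Subtype.val this
  have hcomm : Commute (P.p 0 b) k := hk'.2 _ (P.Q_p 0 b)
  rw [he, hcomm.mul_pow, h2, mul_one] at h1
  obtain ⟨j, hj⟩ := hK.odd
  have h3 : P.p 0 b = 1 := by
    rw [hj, pow_succ, pow_mul, pow_two, P.z_self, one_pow, one_mul] at h1
    exact h1
  rw [he, h3, one_mul]
  exact hk

end Cfsg.Agent.StdSz.NextLevel
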