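import Cfsg.Agent.StdSz.EnvFirst
import Cfsg.Agent.StdSz.NextLevel

/-!
# From the environment to the data of level one
-/

set_option autoImplicit false
set_option linter.unusedSectionVars false
set_option linter.dupNamespace false

namespace Cfsg.Agent.StdSz.ToPre

open Subgroup Cfsg.Agent.StdSz.FormAlg Cfsg.Agent.StdSz.Env

variable {G : Type*} [Group G] [Finite G] {F : Type*} [Field F] [Fintype F] [CharP F 2] {m : ℕ}

/-- **Level one**: the data `Pre`, `Tmax`, `HC` of the first level. -/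
theorem exists_pre (E : Env.Env G F m)
    (hfus : ∃ g ∈ normalizer (E.T : Set G), g * E.t * g⁻¹ ≠ E.t)
    (hcz : ∀ g, g * E.t = E.t * g → (∀ b, g * E.p 0 b = E.p 0 b * g) →
      g ∈ normalizer (E.T : Set G)) :
    ∃ P : LevelOne.Pre G F m, P.t = E.t ∧ P.p = E.p ∧ (∀ l, P.h l ∈ E.D) ∧ E.T ≤ P.Q ∧
      P.Q ≤ normalizer (E.T : Set G) ∧ E.DFull P.Q ∧
      NextLevel.Tmax P ∧ ∃ K : Subgroup G, NextLevel.HC P K ∧ K ≤ E.D := by
  obtain ⟨Q, hQ2, hTQ, hQN, -, hsurj, hQZ, h, hhD, hha, hhQ, hmul⟩ := E.exists_first hfus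
  have hmem : ∀ g ∈ Q, g * E.t = E.t * g → ∃ a b, g = E.p a b ∨ g = E.p a b * E.t :=
    fun g hg hgt => E.mem_T_of_comm hQ2 hTQ hg hgt
  let P : LevelOne.Pre G F m :=
    { hm := E.hm
      hF := E.hF
      p := E.p
      p_mul := E.p_mul
      p_inj := E.p_inj
      h := h
      h_conj := fun l a b => hha l a b
      t := E.t
      t_sq := E.t_sq
      t_p := E.t_p
      t_h := fun l => (E.D_t _ (hhD l)).symm
      t_not := E.t_not
      Q := Q
      Q_two := hQ2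
      Q_p := fun a b => hTQ (E.p_mem_T a b)
      Q_t := hTQ E.t_mem_T
      Q_h := fun l g hg => (mem_normalizer_iff.mp (hhQ l) g).mp hg
      h_mul := hmul
      Q_conj := fun g hg => E.conj_t (hQN hg)
      Q_surj := hsurj
      Q_Z := hQZ
      Q_T := hmem
      Q_p_conj := fun g hg a b => by
        obtain ⟨c, d, h⟩ := (mem_normalizer_iff.mp (hQN hg) _).mp (E.p_mem_T a b)
        exact ⟨c, d, h⟩ }
  refine ⟨P, rfl, rfl, hhD, hTQ, hQN, fun l => ⟨h l, hhD l, hhQ l, hha l⟩, ?_, ?_⟩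
  · intro R hR hTR hRt x hx
    obtain ⟨a, b, h⟩ := E.T_max R hR (fun a b => hTR _ (hTQ (E.p_mem_T a b)) (E.t_p a b).symm)
      (hTR _ (hTQ E.t_mem_T) rfl) hRt x hx
    exact hTQ ⟨a, b, h⟩
  · let K : Subgroup G :=
      { carrier := {y | y ∈ E.D ∧ ∀ a b, y * E.p a b = E.p a b * y}
        mul_mem' := by
          rintro x y ⟨hx, hx'⟩ ⟨hy, hy'⟩
          exact ⟨mul_mem hx hy, fun a b => by rw [mul_assoc, hy', ← mul_assoc, hx', mul_assoc]⟩
        one_mem' := ⟨one_mem _, fun a b => by rw [one_mul, mul_one]⟩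
        inv_mem' := by
          rintro x ⟨hx, hx'⟩
          refine ⟨inv_mem hx, fun a b => ?_⟩
          rw [inv_mul_eq_iff_eq_mul, ← mul_assoc, hx', mul_inv_cancel_right] }
    refine ⟨K, ⟨?_, fun k hk => hk.2, fun k hk => E.D_t k hk.1, ?_⟩, fun k hk => hk.1⟩
    · exact Odd.of_dvd_nat E.D_odd (Subgroup.card_dvd_of_le (fun k hk => hk.1))
    · intro g hgt hgz
      obtain ⟨y, hyD, hyp, -, x, hx, h⟩ := E.exists_mul_T hgt hgz (hcz g hgt hgz)
      refine ⟨x, hTQ hx, y, ⟨hyD, hyp⟩, ?_⟩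
      rw [h]
      obtain ⟨a, b, rfl | rfl⟩ := hx
      · exact hyp a b
      · rw [← mul_assoc, hyp, mul_assoc, E.D_t y hyD, mul_assoc]

end Cfsg.Agent.StdSz.ToPre
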