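import Cfsg.Agent.StdSz.EndLie
import Cfsg.Agent.StdSz.ToPre
import Cfsg.Agent.StdSz.LevelOneEnd
import Cfsg.Agent.StdSz.OutOne
import Cfsg.Agent.StdSz.CoverD
import Cfsg.Agent.StdSz.GammaZero

/-!
# Standard subgroups of Suzuki type: assembly

`Data`: everything known at level one.  `main` reduces the theorem on standard subgroups of type
`Sz(q)` to the branch `γ = 1` of the second level.
-/

set_option autoImplicit false
set_option linter.unusedSectionVars false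
set_option linter.style.haveILetI false

namespace Cfsg.Agent.StdSz.Final

open Cfsg Subgroup Cfsg.Agent.StdSz.OutDef Cfsg.Agent.StdSz.Out Cfsg.Agent.StdSz.FromStd
open Cfsg.Agent.StdSz.EndTower Cfsg.Agent.StdSz.EndClosed Cfsg.Agent.StdSz.LevelOne
open Cfsg.Agent.StdSz.NextLevel Cfsg.Agent.StdSz.Coord Cfsg.Agent.StdSz.FormAlg
open Cfsg.Agent.StdSz.SzMaps Cfsg.Agent.StdSz.LevelOneEnd

universe u

/-- Everything known at level one. -/
structure Data {G : Type*} [Group G] [Finite G] (A : Subgroup G) (t : G) (F : Type*) [Field F]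
    [Fintype F] [CharP F 2] (m : ℕ) where
  C : Ctx A t F m
  E : Env.Env G F m
  E_t : E.t = t
  E_p : E.p = C.pp
  E_fus : ∃ g ∈ normalizer (E.T : Set G), g * E.t * g⁻¹ ≠ E.t
  E_cent : ∀ g, g * E.t = E.t * g → g ∈ normalizer (A : Set G)
  E_cz : ∀ g, g * E.t = E.t * g → (∀ b, g * E.p 0 b = E.p 0 b * g) → g ∈ normalizer (E.T : Set G)
  P : LevelOne.Pre G F m
  P_t : P.t = E.t
  P_p : P.p = E.p
  P_h : ∀ l, P.h l ∈ E.D
  T_le : E.T ≤ P.Q
  Q_le : P.Q ≤ normalizer (E.T : Set G)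
  Q_full : E.DFull P.Q
  tmax : NextLevel.Tmax P
  K : Subgroup G
  hK : NextLevel.HC P K
  K_le : K ≤ E.D

theorem exists_data {G : Type*} [Group G] [Finite G] {A : Subgroup G} {t : G} {F : Type*} [Field F]
    [Fintype F] [CharP F 2] {m : ℕ} (C : Ctx A t F m) : Nonempty (Data A t F m) := by
  obtain ⟨E, h1, h2, h3, h4, h5⟩ := C.exists_env
  obtain ⟨P, k1, k2, k3, k4, k5, k6, k7, K, k8, k9⟩ := ToPre.exists_pre E h3 h5
  exact ⟨⟨C, E, h1, h2, h3, h4, h5, P, k1, k2, k3, k4, k5, k6, k7, K, k8, k9⟩⟩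

variable {G : Type u} [Group G] [Finite G] {F : Type*} [Field F] [Fintype F] [CharP F 2] {m : ℕ}
  {A : Subgroup G} {t : G}

/-- what is needed from the branch `γ = 1`. -/
def OneBranch (D : Data A t F m) : Prop :=
  del D.P = 0 → gam D.P = 1 → Nonempty (Next D.P (fun u => ((1, 0, u) : V3 F))) →
    (∃ O : Out G F D.E.t, ∀ a b, D.E.p a b ∈ O.M) ∨ Nonempty (TowerEnd D.E)

theorem of_out_eq (h1170 : S1170Stmt.{u}) (C : Ctx A t F m) (E : Env.Env G F m)
    (hEp : E.p = C.pp) {s : G} (hs : s = t) (O : OutDef.Out G F s) (hp : ∀ a b, E.p a b ∈ O.M) :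
    t ∉ Cfsg.layer G ∧ IsLieTypeChar 2 ↥(Cfsg.layer G) := by
  subst hs
  exact EndLie.of_out' h1170 C E hEp O hp

/-- The conclusion from the branch `γ = 1`. -/
theorem of_data (gold : Gold.{u}) (h1170 : S1170Stmt.{u}) (D : Data A t F m)
    (h1 : OneBranch D) :
    t ∉ Cfsg.layer G ∧ IsLieTypeChar 2 ↥(Cfsg.layer G) := by
  rcases trichotomy D.P D.tmax D.hK with ⟨hQ, hf⟩ | ⟨hd, hg, hN⟩ | ⟨hd, hg, hN⟩
  · obtain ⟨O, hO⟩ := OutOne.out_of_maximal D.P hQ hf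
    exact of_out_eq h1170 D.C D.E D.E_p (D.P_t.trans D.E_t) O (fun a b => by
      rw [← D.P_p]; exact hO a b)
  · obtain ⟨X⟩ := hN
    obtain ⟨O, hO⟩ := GammaZero.out_of_gammaZero D.tmax hd hg X
    exact of_out_eq h1170 D.C D.E D.E_p (D.P_t.trans D.E_t) O (fun a b => by
      rw [← D.P_p]; exact hO a b)
  · rcases h1 hd hg hN with ⟨O, hO⟩ | ⟨⟨O⟩⟩
    · exact of_out_eq h1170 D.C D.E D.E_p D.E_t O hO
    · exact EndLie.of_tower gold h1170 D.C D.E D.E_t D.E_p O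

/-- The case of a simple layer. -/
theorem of_simple {G : Type u} [Group G] [Finite G] (gold : Gold.{u}) (h1170 : S1170Stmt.{u})
    {A : Subgroup G} (S : Reduce.Simple A)
    (hR : ∀ R : Sylow 2 ↥(Subgroup.centralizer (A : Set G)),
      IsCyclic ↥(R : Subgroup ↥(Subgroup.centralizer (A : Set G))))
    {t : G} (ht : orderOf t = 2) (htA : t ∈ Subgroup.centralizer (A : Set G))
    {F : Type*} [Field F] [Fintype F] [CharP F 2] {m : ℕ} (hm : 1 ≤ m)
    (hF : Fintype.card F = 2 ^ (2 * m + 1))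
    (hAX : Nonempty (↥A ⧸ Subgroup.center ↥A ≃* ↥(Cfsg.Lie.Sz F (2 ^ (m + 1)))))
    (h1 : ∀ D : Data A t F m, OneBranch D) :
    t ∉ Cfsg.layer G ∧ IsLieTypeChar 2 ↥(Cfsg.layer G) := by
  have hZ : Odd (Nat.card (center A)) := by
    obtain ⟨e⟩ := hAX
    exact CoverD.odd_center S hm hF e hR ht htA
  obtain ⟨C⟩ := exists_ctx S ht htA hm hF hAX hZ hR
  obtain ⟨D⟩ := exists_data C
  exact of_data gold h1170 D (h1 D)

/-- **Assembly**: the statement S1772 from the branch `γ = 1`. -/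
theorem main {G : Type u} [Group G] [Finite G] (gold : Gold.{u}) (h1170 : S1170Stmt.{u})
    (hO : Cfsg.oddCore G = ⊥) (A : Subgroup G) (hA : Cfsg.IsStandardSubgroup A) (hnA : ¬ A.Normal)
    (hR : ∀ R : Sylow 2 ↥(Subgroup.centralizer (A : Set G)),
      IsCyclic ↥(R : Subgroup ↥(Subgroup.centralizer (A : Set G))))
    (t : G) (ht : orderOf t = 2) (htA : t ∈ Subgroup.centralizer (A : Set G))
    {F : Type*} [Field F] [Fintype F] [CharP F 2] (m : ℕ) (hm : 1 ≤ m)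
    (hF : Fintype.card F = 2 ^ (2 * m + 1))
    (hAX : Nonempty (↥A ⧸ Subgroup.center ↥A ≃* ↥(Cfsg.Lie.Sz F (2 ^ (m + 1)))))
    (h1 : ∀ D : Data A t F m, OneBranch D) :
    Nonempty (↥(Cfsg.layer G) ≃* ↥A × ↥A) ∨ (IsLieTypeChar 2 ↥(Cfsg.layer G) ∧
      ¬ (∃ e : G, e ∈ Cfsg.layer G ∧ ∀ x ∈ Cfsg.layer G, t * x * t⁻¹ = e * x * e⁻¹)) := by
  rcases Reduce.prod_or_simple hA hnA hO ht htA with h | S
  · exact Or.inl h
  · obtain ⟨h2, h3⟩ := of_simple gold h1170 S hR ht htA hm hF hAX h1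
    exact Or.inr ⟨h3, S.not_inner h2⟩

end Cfsg.Agent.StdSz.Final
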