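import Mathlib
import Cfsg.Agent.ThreePrime.SzDataExists

/-!
# The order of `Sz(q)` from the Bruhat decomposition
-/

set_option autoImplicit false

namespace Cfsg.Agent.StdSz.Extra

open Cfsg.Agent.ThreePrime

variable {J : Type*} [Group J] {F : Type*} [Field F] (R : SzRel.Rel J F)

theorem w_mul_mem_unique {a b c e a' b' c' e' : F} {k k' : Fˣ}
    (h : R.u a b * R.w * (R.u c e * R.d k) = R.u a' b' * R.w * (R.u c' e' * R.d k')) :
    a = a' ∧ b = b' ∧ c = c' ∧ e = e' ∧ k = k' := by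
  have h1 : R.w * ((R.u a' b')⁻¹ * R.u a b) * R.w = (R.u c' e' * R.d k') * (R.u c e * R.d k)⁻¹ := by
    have h2 := congrArg (fun x => R.w⁻¹ * (R.u a' b')⁻¹ * x * (R.u c e * R.d k)⁻¹) h

    have e1 : R.w⁻¹ * (R.u a' b')⁻¹ * (R.u a b * R.w * (R.u c e * R.d k)) * (R.u c e * R.d k)⁻¹ =
        R.w⁻¹ * ((R.u a' b')⁻¹ * R.u a b) * R.w := by group
    have e2 : R.w⁻¹ * (R.u a' b')⁻¹ * (R.u a' b' * R.w * (R.u c' e' * R.d k')) *
        (R.u c e * R.d k)⁻¹ = (R.u c' e' * R.d k') * (R.u c e * R.d k)⁻¹ := by group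
    rw [e1, e2, R.w_inv] at h2
    exact h2
  obtain ⟨x, y, hxy⟩ : (R.u a' b')⁻¹ * R.u a b ∈ R.T := mul_mem (inv_mem (R.u_mem _ _)) (R.u_mem _ _)
  -- the right hand side is in the Borel subgroup
  obtain ⟨r, s, l, hrs⟩ : ∃ r s l, (R.u c' e' * R.d k') * (R.u c e * R.d k)⁻¹ = R.u r s * R.d l := by
    have h3 : (R.u c' e' * R.d k') * (R.u c e * R.d k)⁻¹ =
        R.u c' e' * (R.d k' * (R.d k)⁻¹) * (R.u c e)⁻¹ := by group
    rw [h3, R.d_inv, R.d_mul, R.u_inv, mul_assoc, R.d_mul_u, ← mul_assoc, R.u_mul]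
    exact ⟨_, _, _, rfl⟩
  rw [hxy, hrs] at h1
  obtain ⟨rfl, rfl⟩ := R.inter _ _ _ _ _ h1
  rw [R.u_zero] at hxy
  have h4 : R.u a b = R.u a' b' := (inv_mul_eq_one.mp hxy).symm
  obtain ⟨rfl, rfl⟩ := R.u_inj h4
  have h5 : R.u c e * R.d k = R.u c' e' * R.d k' := mul_left_cancel h
  obtain ⟨h6, h7, h8⟩ := R.ud_inj h5
  exact ⟨rfl, rfl, h6, h7, h8⟩

theorem ud_ne_uwud {a b a' b' c e : F} {k k' : Fˣ} :
    R.u a b * R.d k ≠ R.u a' b' * R.w * (R.u c e * R.d k') := by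
  intro h
  have h1 : R.w = (R.u a' b')⁻¹ * (R.u a b * R.d k) * (R.u c e * R.d k')⁻¹ := by
    rw [h]; group
  have h2 : (R.u a' b')⁻¹ * (R.u a b * R.d k) * (R.u c e * R.d k')⁻¹ =
      (R.u a' b')⁻¹ * R.u a b * (R.d k * (R.d k')⁻¹ * (R.u c e)⁻¹) := by group
  rw [h2, R.d_inv, R.d_mul, R.u_inv, R.u_inv, R.u_mul, R.d_mul_u, ← mul_assoc, R.u_mul] at h1
  exact R.w_ne _ _ _ h1

include R in
theorem card_eq [Fintype F] [DecidableEq F] : Nat.card J =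
    Fintype.card F ^ 2 * (Fintype.card F - 1) * (Fintype.card F ^ 2 + 1) := by
  classical
  let φ : (F × F × Fˣ) ⊕ ((F × F) × (F × F × Fˣ)) → J := fun x => match x with
    | Sum.inl (a, b, k) => R.u a b * R.d k
    | Sum.inr ((a, b), (c, e, k)) => R.u a b * R.w * (R.u c e * R.d k)
  have hφ : Function.Bijective φ := by
    constructor
    · rintro (⟨a, b, k⟩ | ⟨⟨a, b⟩, ⟨c, e, k⟩⟩) (⟨a', b', k'⟩ | ⟨⟨a', b'⟩, ⟨c', e', k'⟩⟩) h
      · obtain ⟨rfl, rfl, rfl⟩ := R.ud_inj h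
        rfl
      · exact absurd h (ud_ne_uwud R)
      · exact absurd h.symm (ud_ne_uwud R)
      · obtain ⟨rfl, rfl, rfl, rfl, rfl⟩ := w_mul_mem_unique R h
        rfl
    · intro g
      rcases R.bruhat g with ⟨a, b, k, h⟩ | ⟨a, b, c, e, k, h⟩
      · exact ⟨Sum.inl (a, b, k), h.symm⟩
      · exact ⟨Sum.inr ((a, b), (c, e, k)), h.symm⟩
  rw [← Nat.card_eq_of_bijective φ hφ, Nat.card_eq_fintype_card]
  simp only [Fintype.card_sum, Fintype.card_prod, Fintype.card_units]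
  ring

/-- A group `A` with `A / Z(A) ≅ Sz(q)` has order at least `|Sz(q)|`. -/
theorem le_card [Fintype F] {X : Type*} [Group X] [Finite X]
    (R : SzRel.Rel (X ⧸ Subgroup.center X) F) :
    Fintype.card F ^ 2 * (Fintype.card F ^ 2 + 1) * (Fintype.card F - 1) ≤ Nat.card X := by
  classical
  have h1 := card_eq R
  have h2 : Nat.card (X ⧸ Subgroup.center X) ≤ Nat.card X :=
    Nat.card_le_card_of_surjective _ (QuotientGroup.mk'_surjective (Subgroup.center X))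
  rw [h1] at h2
  refine le_trans (le_of_eq ?_) h2
  ring

end Cfsg.Agent.StdSz.Extra
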