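import Cfsg.Agent.ThreePrime.CenterTrivial
import Cfsg.Agent.StdSz.Extra

/-!
# Perfect central extensions of `Sz(8)` by groups of odd order are trivial
-/

set_option autoImplicit false

namespace Cfsg.Agent.StdSz.CenterEight

open Subgroup Cfsg.Agent.ThreePrime

universe u

theorem center_eq_bot {X : Type u} [Group X] [Finite X] (hX : Group.IsPerfect X)
    (hZ : Odd (Nat.card (center X))) (hc : Nat.card (X ⧸ center X) = 29120) : center X = ⊥ := by
  by_contra hne
  have hc1 : Nat.card (center X) ≠ 1 := fun h => hne (Subgroup.eq_bot_of_card_eq _ h)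
  obtain ⟨r, hr, hrd⟩ := Nat.exists_prime_and_dvd hc1
  have : Fact r.Prime := ⟨hr⟩
  have hrodd : Odd r := Odd.of_dvd_nat hZ hrd
  obtain ⟨z, hz⟩ := exists_prime_orderOf_dvd_card' r hrd
  have hzo : orderOf (z : X) = r := by rw [Subgroup.orderOf_coe]; exact hz
  have hzc : ∀ g : X, g * z = z * g := mem_center_iff.mp z.2
  -- a Sylow subgroup containing `z`
  have hzp : IsPGroup r (zpowers (z : X)) := by
    rw [IsPGroup.iff_card]
    exact ⟨1, by rw [Nat.card_zpowers, hzo, pow_one]⟩
  obtain ⟨Q, hQ⟩ := hzp.exists_le_sylow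
  have hzQ : (z : X) ∈ (Q : Subgroup X) := hQ (mem_zpowers _)
  -- the image of `Q` has order at most `r`
  let f : (Q : Subgroup X) →* X ⧸ center X := (QuotientGroup.mk' (center X)).comp (Q : Subgroup X).subtype
  have hker : f.ker ≤ center (Q : Subgroup X) := by
    intro x hx
    rw [MonoidHom.mem_ker] at hx
    have h1 : (x : X) ∈ center X := (QuotientGroup.eq_one_iff _).mp hx
    rw [mem_center_iff]
    intro g
    exact Subtype.ext (mem_center_iff.mp h1 g)
  have hrange : IsCyclic f.range := by
    have h1 : IsPGroup r f.range := by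
      intro y
      obtain ⟨y, x, rfl⟩ := y
      obtain ⟨n, hn⟩ := Q.isPGroup' x
      refine ⟨n, Subtype.ext ?_⟩
      show f x ^ r ^ n = 1
      rw [← map_pow, hn, map_one]
    obtain ⟨n, hn⟩ := IsPGroup.iff_card.mp h1
    have h2 : r ^ n ∣ 29120 := by
      rw [← hn, ← hc]; exact Subgroup.card_subgroup_dvd_card _
    have h3 : n ≤ 1 := by
      by_contra hcon
      push Not at hcon
      have h4 : r ^ 2 ∣ 29120 := (pow_dvd_pow r hcon).trans h2
      have h6 : Nat.Coprime (r ^ 2) 64 := by
        have : (64 : ℕ) = 2 ^ 6 := by norm_num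
        rw [this]
        exact Nat.Coprime.pow _ _ (Nat.coprime_two_right.mpr hrodd)
      have h7 : r ^ 2 ∣ 455 := by
        apply h6.dvd_of_dvd_mul_left
        exact h4
      have h5 : r ≤ 21 := by
        by_contra h8
        push Not at h8
        have := Nat.le_of_dvd (by norm_num) h7
        nlinarith
      have h9 := hr.two_le
      clear hrd hz hzo hzp hQ hzQ h2 h4 h6 hn
      interval_cases r <;> omega
    rcases Nat.le_one_iff_eq_zero_or_eq_one.mp h3 with h4 | h4
    · rw [h4, pow_zero] at hn
      have := (Nat.card_eq_one_iff_unique.mp hn).1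
      exact isCyclic_of_subsingleton
    · rw [h4, pow_one] at hn
      exact isCyclic_of_prime_card hn
  have hcomm : ∀ x y : (Q : Subgroup X), x * y = y * x := by
    have h1 : f.rangeRestrict.ker ≤ center (Q : Subgroup X) := by
      rw [MonoidHom.ker_rangeRestrict]; exact hker
    intro x y
    exact (f.rangeRestrict.isMulCommutative_of_isCyclic_of_ker_le_center h1).is_comm.comm x y
  have h1 := CenterTrivial.mem_commutator_of_center hX Q z.2 hzQ
  have h2 : ⁅(Q : Subgroup X), (Q : Subgroup X)⁆ = ⊥ := by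
    rw [commutator_eq_bot_iff_le_centralizer]
    intro x hx
    rw [mem_centralizer_iff]
    intro y hy
    exact congrArg Subtype.val (hcomm ⟨y, hy⟩ ⟨x, hx⟩)
  rw [h2, mem_bot] at h1
  rw [h1, orderOf_one] at hzo
  exact hr.one_lt.ne hzo

/-- `A` quasisimple with `A / Z(A) ≅ Sz(8)` and `|Z(A)|` odd: `Z(A) = 1`. -/
theorem center_eq_bot_of_rel {X : Type u} [Group X] [Finite X] (hX : Group.IsPerfect X)
    (hZ : Odd (Nat.card (center X))) {F : Type*} [Field F] [Fintype F]
    (hF : Fintype.card F = 8) (R : SzRel.Rel (X ⧸ center X) F) : center X = ⊥ := by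
  classical
  apply center_eq_bot hX hZ
  rw [Extra.card_eq R, hF]
  norm_num

end Cfsg.Agent.StdSz.CenterEight
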