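import Cfsg.Agent.StdSz.Env

/-!
# The exotic configuration for `Sz(8)`: data

`q = 8`; `S = ⟨t⟩ (P ∘ W)`, `W` abelian of exponent `2 ^ (k + 1) ≥ 8`, `Ω₁(W) = Z = {p 0 b}`,
`t f t⁻¹ = f ^ 2 ^ k f⁻¹` on `W`, and an element `r` normalizing `S` with `r t r⁻¹ ∉ t W`.
The final theorem of the series `Exotic*.lean` is `ExoticMain.false_of_exotic`: such data do not
exist.
-/

set_option autoImplicit false

namespace Cfsg.Agent.StdSz.ExoticData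

open Subgroup Cfsg.Agent.StdSz.Env

variable {G : Type*} [Group G] {F : Type*} [Field F] [Fintype F] [CharP F 2]

/-- The standard subgroup `A ≅ Sz(8)` around the environment `E`. -/
structure Std (E : Env G F 1) (A : Subgroup G) : Prop where
  p_mem : ∀ a b, E.p a b ∈ A
  comm_t : ∀ g ∈ A, g * E.t = E.t * g
  conj_mem : ∀ g, g * E.t = E.t * g → ∀ x ∈ A, g * x * g⁻¹ ∈ A
  /-- `P` is a TI subgroup of `A` -/
  ti : ∀ g ∈ A, ∀ a b c d, g * E.p a b * g⁻¹ = E.p c d → E.p a b ≠ 1 →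
    ∀ a b, ∃ c d, g * E.p a b * g⁻¹ = E.p c d
  /-- Bruhat decomposition -/
  bru : ∀ g ∈ A, ∀ g' ∈ A, (¬ ∀ a b, ∃ c d, g * E.p a b * g⁻¹ = E.p c d) →
    (¬ ∀ a b, ∃ c d, g' * E.p a b * g'⁻¹ = E.p c d) →
    ∃ a b, ∃ n ∈ A, (∀ a b, ∃ c d, n * E.p a b * n⁻¹ = E.p c d) ∧ g' = E.p a b * g * n
  /-- the elements of `N_A(P)` -/
  nor : ∀ n ∈ A, (∀ a b, ∃ c d, n * E.p a b * n⁻¹ = E.p c d) →
    ∃ l : Fˣ, (∀ c d, ∃ e, n * E.p c d * n⁻¹ = E.p (l * c) e) ∧ (l = 1 → ∃ a b, n = E.p a b)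
  ex : ∃ g ∈ A, ¬ ∀ a b, ∃ c d, g * E.p a b * g⁻¹ = E.p c d

/-- The exotic configuration without `r`. -/
structure Cfg (E : Env G F 1) (A : Subgroup G) (W S : Subgroup G) (k : ℕ) : Prop where
  std : Std E A
  hk : 2 ≤ k
  W_comm : ∀ f ∈ W, ∀ g ∈ W, f * g = g * f
  W_p : ∀ f ∈ W, ∀ a b, f * E.p a b = E.p a b * f
  Z_le : ∀ b, E.p 0 b ∈ W
  W_exp : ∀ f ∈ W, f ^ 2 ^ (k + 1) = 1
  W_omega : ∀ f ∈ W, f * f = 1 → ∃ b, f = E.p 0 b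
  W_pow : ∀ b, ∃ f ∈ W, f ^ 2 ^ k = E.p 0 b
  W_t : ∀ f ∈ W, E.t * f * E.t⁻¹ = f ^ 2 ^ k * f⁻¹
  torus : ∀ l : Fˣ, ∃ g, g * E.t = E.t * g ∧ Acts 1 E.p g l ∧ ∀ f ∈ W, g * f * g⁻¹ ∈ W
  mem_S : ∀ x, x ∈ S ↔ ∃ a, ∃ f ∈ W, x = E.p a 0 * f ∨ x = E.t * (E.p a 0 * f)

/-- The exotic configuration. -/
structure Exo (E : Env G F 1) (A : Subgroup G) (W S : Subgroup G) (k : ℕ) (r : G) : Prop
    extends Cfg E A W S k where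
  r_mem : r ∈ normalizer (S : Set G)
  r_t : ¬ ∃ f ∈ W, r * E.t * r⁻¹ = E.t * f

end Cfsg.Agent.StdSz.ExoticData
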