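import Cfsg.Agent.StdSz.FromStd
import Cfsg.Agent.StdSz.ExoticData

/-!
# The structure `Std` for the standard subgroup `A ≅ Sz(8)`
-/

set_option autoImplicit false
set_option linter.unusedSectionVars false
set_option linter.dupNamespace false

namespace Cfsg.Agent.StdSz.StdA

open Subgroup Cfsg.Agent.ThreePrime Cfsg.Agent.StdSz.Base Cfsg.Agent.StdSz.FromStd
open Cfsg.Agent.StdSz.FromStd.Ctx

variable {G : Type*} [Group G] [Finite G]
variable {A : Subgroup G} {t : G} {F : Type*} [Field F] [Fintype F] {m : ℕ} (C : Ctx A t F m)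

/-- `a` normalizes `P` (in coordinates). -/
def Nrm (g : G) : Prop := ∀ x y, ∃ c d, g * C.pp x y * g⁻¹ = C.pp c d

theorem mk_pp (x y : F) (h : C.pp x y ∈ A) :
    (QuotientGroup.mk (⟨C.pp x y, h⟩ : A) : A ⧸ center A) = C.R.u x (y + x * C.R.θ x) :=
  C.q_mk _ _

theorem nrm_iff (a : A) : Nrm C (a : G) ↔
    (QuotientGroup.mk a : A ⧸ center A) ∈ normalizer (C.R.T : Set (A ⧸ center A)) := by
  constructor
  · intro h
    obtain ⟨c, d, hcd⟩ := h 0 1
    have h1 : (QuotientGroup.mk a : A ⧸ center A) * C.R.u 0 (1 + 0 * C.R.θ 0) *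
        (QuotientGroup.mk a : A ⧸ center A)⁻¹ ∈ C.R.T := by
      have h2 : a * ⟨C.pp 0 1, C.pp_mem _ _⟩ * a⁻¹ = (⟨C.pp c d, C.pp_mem _ _⟩ : A) :=
        Subtype.ext hcd
      have h3 := congrArg (QuotientGroup.mk : A → A ⧸ center A) h2
      rw [QuotientGroup.mk_mul, QuotientGroup.mk_mul, QuotientGroup.mk_inv, mk_pp, mk_pp] at h3
      rw [h3]
      exact C.R.u_mem _ _
    rw [zero_mul, add_zero] at h1
    exact C.R.ti (C.R.u_mem 0 1) (C.R.u_ne_one one_ne_zero) h1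
  · intro h x y
    have h1 : (QuotientGroup.mk (a * C.q x (y + x * C.R.θ x) * a⁻¹) : A ⧸ center A) ∈ C.R.T := by
      rw [QuotientGroup.mk_mul, QuotientGroup.mk_mul, QuotientGroup.mk_inv, C.q_mk]
      exact (mem_normalizer_iff.mp h _).mp (C.R.u_mem _ _)
    obtain ⟨c, e, hce⟩ := h1
    obtain ⟨n, hn⟩ := C.P1_pow (C.q_mem x (y + x * C.R.θ x))
    have h2 := C.q_uniq _ ⟨n, by rw [conj_pow, hn, mul_one, mul_inv_cancel]⟩ c e hce
    obtain ⟨c', e', h3⟩ := C.exists_pp (C.q_mem c e)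
    refine ⟨c', e', ?_⟩
    rw [← h3, ← h2]
    rfl

/-- the standard subgroup gives `Std`. -/
theorem exists_std [CharP F 2] (C : Ctx A t F 1) (hZ : center A = ⊥) {E : Env.Env G F 1}
    (hEt : E.t = t) (hEp : E.p = C.pp) : ExoticData.Std E A := by
  have hinj : ∀ {x y : A}, (QuotientGroup.mk x : A ⧸ center A) = QuotientGroup.mk y → x = y := by
    intro x y h
    have h1 : x⁻¹ * y ∈ center A := QuotientGroup.eq.mp h
    rw [hZ, mem_bot, inv_mul_eq_one] at h1
    exact h1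
  have hex : ∀ j : A ⧸ center A, ∃ a : A, (QuotientGroup.mk a : A ⧸ center A) = j :=
    QuotientGroup.mk_surjective
  refine ⟨?_, ?_, ?_, ?_, ?_, ?_, ?_⟩
  · intro a b; rw [hEp]; exact C.pp_mem a b
  · intro g hg; rw [hEt]; exact (C.comm_K C.htA hg).symm
  · intro g hg x hx
    rw [hEt] at hg
    have h1 : g ∈ normalizer (A : Set G) := by
      apply C.S.centralizer_involution_le C.ht C.htA
      rw [mem_centralizer_singleton_iff]; exact hg
    exact (mem_normalizer_iff.mp h1 x).mp hx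
  · intro g hg a b c d h hne
    rw [hEp] at h hne ⊢
    have h2 : (⟨g, hg⟩ : A) * ⟨C.pp a b, C.pp_mem _ _⟩ * (⟨g, hg⟩ : A)⁻¹ =
        (⟨C.pp c d, C.pp_mem _ _⟩ : A) := Subtype.ext h
    have h3 := congrArg (QuotientGroup.mk : A → A ⧸ center A) h2
    rw [QuotientGroup.mk_mul, QuotientGroup.mk_mul, QuotientGroup.mk_inv, mk_pp, mk_pp] at h3
    have h4 : C.R.u a (b + a * C.R.θ a) ≠ 1 := by
      intro h5
      apply hne
      rw [← mk_pp C a b (C.pp_mem a b), ← QuotientGroup.mk_one] at h5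
      exact congrArg Subtype.val (hinj h5)
    have h5 := C.R.ti (C.R.u_mem _ _) h4 (by rw [h3]; exact C.R.u_mem _ _)
    exact (nrm_iff C ⟨g, hg⟩).mpr h5
  · intro g hg g' hg' hn hn'
    rw [hEp] at hn hn' ⊢
    have hb : ∀ a : A, ¬ Nrm C (a : G) → ∃ x y c e k, (QuotientGroup.mk a : A ⧸ center A) =
        C.R.u x y * C.R.w * (C.R.u c e * C.R.d k) := by
      intro a ha
      rcases C.R.bruhat (QuotientGroup.mk a) with ⟨x, y, k, h⟩ | ⟨x, y, c, e, k, h⟩
      · exfalso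
        apply ha
        rw [nrm_iff, h]
        exact C.R.ud_mem_normalizer x y k
      · exact ⟨x, y, c, e, k, h⟩
    obtain ⟨x, y, c, e, k, h⟩ := hb ⟨g, hg⟩ hn
    obtain ⟨x', y', c', e', k', h'⟩ := hb ⟨g', hg'⟩ hn'
    obtain ⟨r, s, hrs⟩ : C.R.u x' y' * (C.R.u x y)⁻¹ ∈ C.R.T :=
      mul_mem (C.R.u_mem _ _) (inv_mem (C.R.u_mem _ _))
    obtain ⟨n, hnn⟩ := hex ((C.R.u c e * C.R.d k)⁻¹ * (C.R.u c' e' * C.R.d k'))
    obtain ⟨a, b, hab⟩ := C.exists_pp (C.q_mem r s)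
    refine ⟨a, b, n, n.2, ?_, ?_⟩
    · have : Nrm C (n : G) := by
        rw [nrm_iff, hnn]
        exact mul_mem (inv_mem (C.R.ud_mem_normalizer _ _ _)) (C.R.ud_mem_normalizer _ _ _)
      exact this
    · have h1 : (⟨g', hg'⟩ : A) = C.q r s * ⟨g, hg⟩ * n := by
        apply hinj
        rw [QuotientGroup.mk_mul, QuotientGroup.mk_mul, C.q_mk, hnn, h, h', ← hrs]
        group
      rw [← hab]
      exact congrArg Subtype.val h1
  · intro n hn hnn
    rw [hEp] at hnn ⊢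
    have h1 := (nrm_iff C ⟨n, hn⟩).mp hnn
    obtain ⟨x, y, k, hk⟩ := C.R.norm h1
    refine ⟨C.lam k, ?_, ?_⟩
    · intro c d
      obtain ⟨c', d', h2⟩ := hnn c d
      refine ⟨d', ?_⟩
      rw [h2]
      have h3 : (⟨n, hn⟩ : A) * ⟨C.pp c d, C.pp_mem _ _⟩ * (⟨n, hn⟩ : A)⁻¹ =
          (⟨C.pp c' d', C.pp_mem _ _⟩ : A) := Subtype.ext h2
      have h4 := congrArg (QuotientGroup.mk : A → A ⧸ center A) h3
      rw [QuotientGroup.mk_mul, QuotientGroup.mk_mul, QuotientGroup.mk_inv, mk_pp, mk_pp, hk] at h4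
      have h5 : C.R.u x y * C.R.d k * C.R.u c (d + c * C.R.θ c) * (C.R.u x y * C.R.d k)⁻¹ =
          C.R.u x y * (C.R.d k * C.R.u c (d + c * C.R.θ c) * (C.R.d k)⁻¹) * (C.R.u x y)⁻¹ := by
        group
      rw [h5, C.R.conj_d, C.R.conj_u] at h4
      have h6 := (C.R.u_inj h4).1
      congr 1
      rw [← h6]
      unfold Ctx.lam
      rw [Units.val_mk0]; ring
    · intro hl
      have hk1 : k = 1 := by
        have h2 := C.lam_pow k
        rw [hl, Units.val_one, one_pow] at h2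
        apply Units.ext
        apply C.R.θ.injective
        rw [← h2, Units.val_one, map_one]
      rw [hk1, C.R.d_one, mul_one] at hk
      have h3 : (⟨n, hn⟩ : A) = C.q x y := by
        apply hinj
        rw [hk, C.q_mk]
      obtain ⟨a, b, hab⟩ := C.exists_pp (C.q_mem x y)
      exact ⟨a, b, by rw [← hab, ← h3]⟩
  · obtain ⟨a, ha⟩ := hex C.R.w
    refine ⟨a, a.2, ?_⟩
    rw [hEp]
    intro h
    have h1 := (nrm_iff C a).mp h
    rw [ha] at h1
    exact C.R.w_not_mem_normalizer h1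

end Cfsg.Agent.StdSz.StdA
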