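import Cfsg.Agent.Lib.SylowNormalInf
import Cfsg.Agent.StdSz.OutDef

/-!
# The Sylow 2-subgroup `S ∩ L` of a normal subgroup `L`
-/

set_option autoImplicit false

namespace Cfsg.Agent.StdSz.OutBase

open Cfsg.Agent.StdSz.OutDef

variable {G : Type*} [Group G] {F : Type*} [Field F] [Fintype F] {t : G} (O : OutDef.OutBase G F t)

/-- the Sylow 2-subgroup `S ∩ L` of a normal subgroup `L`. -/
noncomputable def syl [Finite G] (L : Subgroup G) [L.Normal] : Sylow 2 L :=
  haveI : Fact (Nat.Prime 2) := ⟨Nat.prime_two⟩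
  (Cfsg.Agent.Lib.SylowNormalInf.isPGroup_subgroupOf O.S L).toSylow
    (Cfsg.Agent.Lib.SylowNormalInf.not_dvd_relIndex O.S L)

theorem coe_syl [Finite G] (L : Subgroup G) [L.Normal] :
    (syl O L : Subgroup L) = (O.S : Subgroup G).subgroupOf L := rfl

theorem mem_syl [Finite G] (L : Subgroup G) [L.Normal] (x : L) :
    x ∈ (syl O L : Subgroup L) ↔ (x : G) ∈ (O.S : Subgroup G) := Iff.rfl

end Cfsg.Agent.StdSz.OutBase
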