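import Cfsg.Agent.StdSz.Env
import Cfsg.Agent.StdSz.OutBase
import Cfsg.Agent.StdSz.Out
import Cfsg.Agent.StdSz.EndClosed

/-!
# The end of the tower

`TowerEnd E`: the Sylow 2-subgroup is `⟨t⟩ P W` with `W` abelian, `Ω₁(W) = Z = {p 0 b}` and
`V = Ω₂(W)` central in `M = P W` with set of squares `Z`.  By Goldschmidt's theorem (`S1169`) a
normal nonabelian simple subgroup `L` containing `P` then meets the Sylow subgroup in `P`.
-/

set_option autoImplicit false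
set_option linter.unusedSectionVars false

namespace Cfsg.Agent.StdSz.EndTower

open Subgroup Cfsg.Agent.StdSz.Env Cfsg.Agent.StdSz.EndClosed

/-- the data at the end of the tower. -/
structure TowerEnd {G : Type*} [Group G] {F : Type*} [Field F] [Fintype F] [CharP F 2] {m : ℕ}
    (E : Env G F m) extends OutDef.OutBase G F E.t where
  p_mem : ∀ a b, E.p a b ∈ M
  h_z : ∀ l : Fˣ, ∀ b, h l * E.p 0 b * (h l)⁻¹ = E.p 0 ((l : F) ^ (1 + 2 ^ (m + 1)) * b)
  W : Subgroup G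
  W_le : W ≤ M
  V : Subgroup G
  V_le : V ≤ W
  h_V : ∀ l : Fˣ, ∀ v ∈ V, h l * v * (h l)⁻¹ ∈ V
  gen : ∀ x ∈ M, ∃ a, ∃ w ∈ W, x = E.p a 0 * w
  V_cent : ∀ v ∈ V, ∀ x ∈ M, v * x = x * v
  V_sq : ∀ b, ∃ v ∈ V, v * v = E.p 0 b
  sq_V : ∀ v ∈ V, ∃ b, v * v = E.p 0 b
  four : ∀ w ∈ W, (w * w) * (w * w) = 1 → w ∈ V
  two : ∀ w ∈ W, w * w = 1 → ∃ b, w = E.p 0 b
  sq_M : ∀ x ∈ M, (x * x) * (x * x) = 1 → ∃ b, x * x = E.p 0 b

variable {G : Type*} [Group G] {F : Type*} [Field F] [Fintype F] [CharP F 2] {m : ℕ}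
variable {E : Env G F m} (O : TowerEnd E)

/-- the subgroup `Z = {p 0 b}`. -/
def Zsub (E : Env G F m) : Subgroup G where
  carrier := {x | ∃ b, x = E.p 0 b}
  mul_mem' := by
    rintro x y ⟨b, rfl⟩ ⟨d, rfl⟩
    exact ⟨b + d, E.z_mul b d⟩
  one_mem' := ⟨0, E.p_zero.symm⟩
  inv_mem' := by
    rintro x ⟨b, rfl⟩
    exact ⟨b, E.z_inv b⟩

theorem mem_Zsub {x : G} : x ∈ Zsub E ↔ ∃ b, x = E.p 0 b := Iff.rfl

theorem Zsub_le_V : Zsub E ≤ O.V := by
  rintro x ⟨b, rfl⟩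
  obtain ⟨v, hv, h⟩ := O.V_sq b
  rw [← h]; exact mul_mem hv hv

include E in
/-- the commutator form is nondegenerate. -/
theorem eq_zero_of_bt {a : F} (h1 : ∀ c, Cfsg.Agent.StdSz.FormAlg.bt m a c = 0) : a = 0 := by
  by_contra ha
  obtain ⟨u, hu0, hu1⟩ : ∃ u : F, u ≠ 0 ∧ u ≠ 1 := by
    classical
    by_contra hcon
    push Not at hcon
    have h3 : (Finset.univ : Finset F) ⊆ {0, 1} := by
      intro x _
      by_cases h : x = 0
      · simp [h]
      · simp [hcon x h]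
    have h4 : Fintype.card F ≤ 2 := by
      calc Fintype.card F = (Finset.univ : Finset F).card := Finset.card_univ.symm
        _ ≤ ({0, 1} : Finset F).card := Finset.card_le_card h3
        _ ≤ 2 := Finset.card_le_two
    rw [E.hF] at h4
    have h5 : 2 ^ (2 * 1 + 1) ≤ 2 ^ (2 * m + 1) := Nat.pow_le_pow_right (by norm_num)
      (by have := E.hm; omega)
    omega
  have h2 := h1 (a * u)
  unfold Cfsg.Agent.StdSz.FormAlg.bt at h2
  have h3 : a ^ (1 + 2 ^ (m + 1)) * (u ^ 2 ^ (m + 1) + u) = 0 := by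
    rw [← h2, mul_pow, _root_.pow_add, pow_one]; ring
  have h4 : u ^ 2 ^ (m + 1) + u = 0 := by
    rcases mul_eq_zero.mp h3 with h | h
    · exact absurd (pow_eq_zero_iff (by positivity) |>.mp h) ha
    · exact h
  have h5 : u ^ 2 ^ (m + 1) = u := CharTwo.add_eq_zero.mp h4
  have h6 : u ^ 2 ^ (2 * m + 2) = u := by
    have : (2 : ℕ) ^ (2 * m + 2) = 2 ^ (m + 1) * 2 ^ (m + 1) := by
      rw [← _root_.pow_add]; congr 1; ring
    rw [this, pow_mul, h5, h5]
  have h7 : u ^ 2 ^ (2 * m + 1) = u := by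
    rw [← E.hF]; exact FiniteField.pow_card u
  have h8 : u ^ 2 = u := by
    have : (2 : ℕ) ^ (2 * m + 2) = 2 ^ (2 * m + 1) * 2 := by rw [← pow_succ]
    rw [this, pow_mul, h7] at h6
    exact h6
  have h9 : u * (u - 1) = 0 := by rw [mul_sub, mul_one, ← pow_two, h8, sub_self]
  rcases mul_eq_zero.mp h9 with h | h
  · exact hu0 h
  · exact hu1 (sub_eq_zero.mp h)

theorem eq_p_of_mem_V {v : G} (hv : v ∈ O.V) {a b : F} (h : v = E.p a b) : a = 0 := by
  apply eq_zero_of_bt (E := E)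
  intro c
  have h2 := O.V_cent v hv _ (O.p_mem c 0)
  rw [h, E.p_comm] at h2
  exact E.z_eq_one (mul_eq_right.mp h2)

variable [Finite G]

theorem two_lt_card (E : Env G F m) : 2 < Fintype.card F := by
  have h5 : 2 ^ (2 * 1 + 1) ≤ 2 ^ (2 * m + 1) := Nat.pow_le_pow_right (by norm_num)
    (by have := E.hm; omega)
  rw [E.hF]; omega

/-- If `L ∩ V` is not contained in `Z`, then `V ≤ L`. -/
theorem V_le_of_mem (L : Subgroup G) [hL : L.Normal] (hPL : ∀ a b, E.p a b ∈ L) {v : G}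
    (hv : v ∈ O.V) (hvL : v ∈ L) (hvZ : ∀ b, v ≠ E.p 0 b) : O.V ≤ L := by
  intro v' hv'
  obtain ⟨c, hc⟩ := O.sq_V v hv
  obtain ⟨c', hc'⟩ := O.sq_V v' hv'
  have hc0 : c ≠ 0 := by
    rintro rfl
    rw [E.p_zero] at hc
    obtain ⟨b, hb⟩ := O.two v (O.V_le hv) hc
    exact hvZ b hb
  by_cases hc'0 : c' = 0
  · subst hc'0
    rw [E.p_zero] at hc'
    obtain ⟨b, hb⟩ := O.two v' (O.V_le hv') hc'
    rw [hb]; exact hPL 0 b
  · set a : F := (c' / c) ^ (2 ^ (m + 1) - 1) with hadef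
    have ha : a ^ (1 + 2 ^ (m + 1)) = c' / c := SzMaps.norm_surj E.hF (c' / c)
    have ha0 : a ≠ 0 := by
      intro h0
      rw [h0, zero_pow (by positivity)] at ha
      rcases div_eq_zero_iff.mp ha.symm with h | h
      · exact hc'0 h
      · exact hc0 h
    set l := Units.mk0 a ha0 with hl
    set w := O.h l * v * (O.h l)⁻¹ with hw
    have hwV : w ∈ O.V := O.h_V l v hv
    have hwL : w ∈ L := hL.conj_mem v hvL _
    have hww : w * w = E.p 0 c' := by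
      have : w * w = O.h l * (v * v) * (O.h l)⁻¹ := by rw [hw]; group
      rw [this, hc, O.h_z, hl, Units.val_mk0, ha, div_mul_cancel₀ _ hc0]
    have hcomm := O.V_cent v' hv' w (O.W_le (O.V_le hwV))
    have hx : (v'⁻¹ * w) * (v'⁻¹ * w) = 1 := by
      have h1 : w * v'⁻¹ = v'⁻¹ * w := by
        rw [eq_inv_mul_iff_mul_eq, ← mul_assoc, hcomm, mul_inv_cancel_right]
      calc (v'⁻¹ * w) * (v'⁻¹ * w) = v'⁻¹ * (w * v'⁻¹) * w := by group
        _ = v'⁻¹ * (v'⁻¹ * w) * w := by rw [h1]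
        _ = (v' * v')⁻¹ * (w * w) := by rw [mul_inv_rev]; group
        _ = 1 := by rw [hc', hww, inv_mul_cancel]
    obtain ⟨b, hb⟩ := O.two _ (mul_mem (inv_mem (O.V_le hv')) (O.V_le hwV)) hx
    have h2 : v' = w * (v'⁻¹ * w)⁻¹ := by group
    rw [h2, hb]
    exact mul_mem hwL (inv_mem (hPL 0 b))

/-- the squares of `V` inside a group. -/
theorem exists_four {w : G} (hw : w ∈ O.W) (hwZ : ∀ b, w ≠ E.p 0 b) :
    ∃ n : ℕ, w ^ n ∈ O.V ∧ ∀ b, w ^ n ≠ E.p 0 b := by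
  have hp : Fact (Nat.Prime 2) := ⟨Nat.prime_two⟩
  have hwS : w ∈ (O.S : Subgroup G) := O.M_le (O.W_le hw)
  obtain ⟨k, hk⟩ := O.S.isPGroup' ⟨w, hwS⟩
  have hk' : w ^ 2 ^ k = 1 := congrArg Subtype.val hk
  -- the least `j` with `w ^ 2 ^ j ∈ Z`
  classical
  have hex : ∃ j, ∃ b, w ^ 2 ^ j = E.p 0 b := ⟨k, 0, by rw [hk', E.p_zero]⟩
  set j := Nat.find hex with hj
  have hj0 : j ≠ 0 := by
    intro h0
    obtain ⟨b, hb⟩ := Nat.find_spec hex
    rw [← hj, h0, pow_zero, pow_one] at hb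
    exact hwZ b hb
  obtain ⟨i, hi⟩ := Nat.exists_eq_succ_of_ne_zero hj0
  refine ⟨2 ^ i, ?_, ?_⟩
  · apply O.four _ (pow_mem hw _)
    obtain ⟨b, hb⟩ := Nat.find_spec hex
    rw [← hj, hi, Nat.succ_eq_add_one, pow_succ, pow_mul, pow_two] at hb
    rw [hb, E.z_self]
  · intro b hb
    exact Nat.find_min hex (m := i) (by omega) ⟨b, hb⟩

/-- If `V` is not contained in `L`, then `S ∩ L = P`. -/
theorem mem_iff_of_not_le
    (L : Subgroup G) [hL : L.Normal] (hPL : ∀ a b, E.p a b ∈ L)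
    (hV : ¬ O.V ≤ L) {x : G} (hx : x ∈ O.M) (hxL : x ∈ L) : ∃ a b, x = E.p a b := by
  obtain ⟨a, w, hw, hxw⟩ := O.gen x hx
  have hwL : w ∈ L := by
    have : w = (E.p a 0)⁻¹ * x := by rw [hxw]; group
    rw [this]; exact mul_mem (inv_mem (hPL a 0)) hxL
  by_contra hcon
  push Not at hcon
  have hwZ : ∀ b, w ≠ E.p 0 b := by
    intro b hb
    apply hcon a b
    rw [hxw, hb, E.p_mul_z, zero_add]
  obtain ⟨n, hn, hnZ⟩ := exists_four O hw hwZ
  exact hV (V_le_of_mem O L hPL hn (pow_mem hwL n) hnZ)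

universe u

/-- The end of the tower: `S ∩ L = P`. -/
theorem inf_eq {G : Type u} [Group G] [Finite G] {F : Type*} [Field F] [Fintype F] [CharP F 2]
    {m : ℕ} {E : Env G F m} (O : TowerEnd E) (gold : Gold.{u}) (L : Subgroup G) [hL : L.Normal]
    [IsSimpleGroup L] (hLc : ¬ IsMulCommutative L) (hPL : ∀ a b, E.p a b ∈ L) :
    E.t ∉ L ∧ ∀ x, x ∈ (O.S : Subgroup G) ⊓ L ↔ ∃ a b, x = E.p a b := by
  obtain ⟨ht, hinf⟩ := Out.not_mem_and_inf O.toOutBase (two_lt_card E) L hLc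
  refine ⟨ht, ?_⟩
  have hV : ¬ O.V ≤ L := by
    intro hV
    set X := OutBase.syl O.toOutBase L with hX
    have hXM : ∀ x : L, x ∈ (X : Subgroup L) → (x : G) ∈ O.M := by
      intro x hx
      have h1 : (x : G) ∈ (O.S : Subgroup G) ⊓ L := ⟨hx, x.2⟩
      rw [hinf] at h1
      exact h1.1
    have hMX : ∀ x : L, (x : G) ∈ O.M → x ∈ (X : Subgroup L) := fun x hx => O.M_le hx
    refine EndClosed.false_of_closed gold X ((Zsub E).subgroupOf L) (O.V.subgroupOf L)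
      ?_ ?_ ?_ ?_ ?_ ?_ ?_ ?_ ?_
    · intro z hz
      exact Zsub_le_V O hz
    · intro v hv
      exact hMX v (O.W_le (O.V_le hv))
    · intro v hv x hx
      exact Subtype.ext (O.V_cent v hv x (hXM x hx))
    · rintro z ⟨b, hb⟩
      obtain ⟨v, hv, hvb⟩ := O.V_sq b
      refine ⟨⟨v, hV hv⟩, hv, Subtype.ext ?_⟩
      show v * v = z
      rw [hvb]; exact hb.symm
    · intro x hx h
      obtain ⟨b, hb⟩ := O.sq_M x (hXM x hx) (congrArg Subtype.val h)
      exact ⟨b, hb⟩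
    · rintro z ⟨b, hb⟩
      apply Subtype.ext
      show (z : G) * z = 1
      have hb' : (z : G) = E.p 0 b := hb
      rw [hb', E.z_self]
    · refine ⟨⟨E.p 0 1, hPL 0 1⟩, ⟨1, rfl⟩, ?_⟩
      intro h
      have h1 : E.p 0 1 = 1 := congrArg Subtype.val h
      exact one_ne_zero (E.z_eq_one h1)
    · intro hc
      -- `p 1 0` would be central
      have h1 : ∀ a b c d, E.p a b * E.p c d = E.p c d * E.p a b := by
        intro a b c d
        have h2 := hc.is_comm.comm ⟨⟨E.p a b, hPL a b⟩, hMX _ (O.p_mem a b)⟩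
          ⟨⟨E.p c d, hPL c d⟩, hMX _ (O.p_mem c d)⟩
        exact congrArg (fun y => ((y : X) : L).1) h2
      have h3 : (1 : F) = 0 := by
        apply eq_zero_of_bt (E := E)
        intro c
        have h4 := h1 1 0 c 0
        rw [E.p_comm] at h4
        exact E.z_eq_one (mul_eq_right.mp h4)
      exact one_ne_zero h3
    · obtain ⟨v, hv, hvb⟩ := O.V_sq (1 : F)
      refine ⟨⟨E.p 1 0 * v, mul_mem (hPL 1 0) (hV hv)⟩,
        hMX _ (mul_mem (O.p_mem 1 0) (O.W_le (O.V_le hv))), ?_, ?_⟩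
      · rintro ⟨b, hb⟩
        have hb' : E.p 1 0 * v = E.p 0 b := hb
        have h1 : v = (E.p 1 0)⁻¹ * E.p 0 b := by rw [← hb']; group
        rw [E.p_inv, E.p_mul_z] at h1
        exact one_ne_zero (eq_p_of_mem_V O hv h1)
      · apply Subtype.ext
        show E.p 1 0 * v * (E.p 1 0 * v) = 1
        have h1 := O.V_cent v hv _ (O.p_mem 1 0)
        calc E.p 1 0 * v * (E.p 1 0 * v) = E.p 1 0 * (v * E.p 1 0) * v := by group
          _ = E.p 1 0 * (E.p 1 0 * v) * v := by rw [h1]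
          _ = (E.p 1 0 * E.p 1 0) * (v * v) := by group
          _ = 1 := by rw [E.p_sq, hvb, one_pow, E.z_self]
  intro x
  constructor
  · intro hx
    rw [hinf] at hx
    exact mem_iff_of_not_le O L hPL hV hx.1 hx.2
  · rintro ⟨a, b, rfl⟩
    exact ⟨O.M_le (O.p_mem a b), hPL a b⟩

end Cfsg.Agent.StdSz.EndTower
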