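import Cfsg.Agent.StdSz.ExoticFive
import Cfsg.Agent.Lib.PGroupCoprimeAction
import Cfsg.Agent.S0215

/-!
# The exotic configuration for `Sz(8)`: the centralizer of the field automorphism

`S = ⟨t, x, f⟩` a Sylow 2-subgroup of `G`, `f` of order `2 ^ (k + 1) ≥ 8`, `z = f ^ 2 ^ k = x ^ 2`,
`x` central in `S`, `t f t⁻¹ = z f⁻¹`, `y` of order 5 inverted by `x` ... and
`C_G(t) = ⟨t⟩ × ⟨y, x⟩ × D`. This is impossible.
-/

set_option autoImplicit false

namespace Cfsg.Agent.StdSz.ExoticGroup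

open Subgroup Cfsg.Agent.StdSz.ExoticFive

section

variable {G : Type*} [Group G]

/-- Squares of the elements of `⟨t, x, f⟩`. -/
theorem sq_mem {t x f : G} {k : ℕ} (htt : t * t = 1) (htx : t * x = x * t) (hxf : x * f = f * x)
    (hx : x * x = f ^ 2 ^ k) (hft : t * f * t⁻¹ = f ^ 2 ^ k * f⁻¹)
    (hff : f ^ 2 ^ k * f ^ 2 ^ k = 1) (hz1 : f ^ 2 ^ k ≠ 1) {s : G}
    (hs : ∃ a b c : ℕ, s = t ^ a * x ^ b * f ^ c) (h4 : s * s * (s * s) = 1) :
    s * s = 1 ∨ s * s = f ^ 2 ^ k := by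
  set z := f ^ 2 ^ k with hz
  have hzpow : ∀ n : ℕ, z ^ n = 1 ∨ z ^ n = z := by
    intro n
    induction n with
    | zero => left; exact pow_zero z
    | succ n ih =>
      rcases ih with h | h
      · right; rw [pow_succ, h, one_mul]
      · left; rw [pow_succ, h, hff]
  have hzf : z * f = f * z := ((Commute.refl f).pow_left _)
  have hzx : z * x = x * z := by rw [← hx, mul_assoc]
  obtain ⟨a, b, c, rfl⟩ := hs
  have hta : t ^ a = 1 ∨ t ^ a = t := by
    clear h4
    induction a with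
    | zero => left; exact pow_zero t
    | succ n ih =>
      rcases ih with h | h
      · right; rw [pow_succ, h, one_mul]
      · left; rw [pow_succ, h, htt]
  have hxx : x ^ b * x ^ b = z ^ b := by
    rw [← (Commute.refl x).mul_pow, hx]
  have hxfc : f ^ c * x ^ b = x ^ b * f ^ c := (((show Commute x f from hxf).pow_pow b c).eq).symm
  rcases hta with ha | ha
  · rw [ha, one_mul] at h4 ⊢
    have h1 : x ^ b * f ^ c * (x ^ b * f ^ c) = z ^ b * f ^ (2 * c) := by
      calc x ^ b * f ^ c * (x ^ b * f ^ c) = x ^ b * (f ^ c * x ^ b) * f ^ c := by group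
        _ = (x ^ b * x ^ b) * (f ^ c * f ^ c) := by rw [hxfc]; group
        _ = _ := by rw [hxx, ← pow_add, two_mul]
    rw [h1] at h4 ⊢
    have hzfn : ∀ m n : ℕ, f ^ m * z ^ n = z ^ n * f ^ m := fun m n =>
      ((show Commute f z from hzf.symm).pow_pow m n)
    have h2 : f ^ (4 * c) = 1 := by
      have h3 : z ^ b * f ^ (2 * c) * (z ^ b * f ^ (2 * c)) = (z ^ b * z ^ b) * f ^ (4 * c) := by
        calc z ^ b * f ^ (2 * c) * (z ^ b * f ^ (2 * c))
            = z ^ b * (f ^ (2 * c) * z ^ b) * f ^ (2 * c) := by group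
          _ = (z ^ b * z ^ b) * (f ^ (2 * c) * f ^ (2 * c)) := by rw [hzfn]; group
          _ = _ := by rw [← pow_add f]; congr 2; ring
      rw [h3, ← (Commute.refl z).mul_pow, hff, one_pow, one_mul] at h4
      exact h4
    -- `f ^ (2 * c)` is a power of `z`
    obtain ⟨d, hd⟩ : ∃ d, 2 * c = 2 ^ k * d := by
      have h3 : orderOf f = 2 ^ (k + 1) := by
        have : Fact (Nat.Prime 2) := ⟨Nat.prime_two⟩
        apply orderOf_eq_prime_pow
        · exact hz1
        · rw [pow_succ, pow_mul, pow_two, hff]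
      have h5 : 2 ^ (k + 1) ∣ 4 * c := by
        rw [← h3]; exact orderOf_dvd_of_pow_eq_one h2
      obtain ⟨e, he⟩ := h5
      refine ⟨e, ?_⟩
      rw [pow_succ] at he
      nlinarith
    have h3 : f ^ (2 * c) = z ^ d := by rw [hd, pow_mul]
    rw [h3, ← pow_add]
    exact hzpow _
  · rw [ha] at h4 ⊢
    have h1 : t * x ^ b * f ^ c * (t * x ^ b * f ^ c) = z ^ (b + c) := by
      have h2 : x ^ b * t = t * x ^ b := (((show Commute t x from htx).pow_right b).eq).symm
      have h3 : t * f ^ c * t⁻¹ = z ^ c * (f ^ c)⁻¹ := by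
        rw [← conj_pow, hft, (show Commute z f⁻¹ from (show Commute z f from hzf).inv_right).mul_pow,
          inv_pow]
      have h4 : f ^ c * t = t * (z ^ c * (f ^ c)⁻¹) := by
        rw [← h3]
        have : t⁻¹ = t := inv_eq_of_mul_eq_one_left htt
        rw [this]
        calc f ^ c * t = (t * t) * f ^ c * t := by rw [htt, one_mul]
          _ = _ := by group
      calc t * x ^ b * f ^ c * (t * x ^ b * f ^ c)
          = t * x ^ b * (f ^ c * t) * x ^ b * f ^ c := by group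
        _ = t * x ^ b * t * z ^ c * ((f ^ c)⁻¹ * x ^ b) * f ^ c := by rw [h4]; group
        _ = t * (x ^ b * t) * z ^ c * (x ^ b * (f ^ c)⁻¹) * f ^ c := by
            have : (f ^ c)⁻¹ * x ^ b = x ^ b * (f ^ c)⁻¹ :=
              ((show Commute (f ^ c) (x ^ b) from hxfc).inv_left).eq
            rw [this]; group
        _ = (t * t) * x ^ b * (z ^ c * x ^ b) := by rw [h2]; group
        _ = (x ^ b * x ^ b) * z ^ c := by
            have : z ^ c * x ^ b = x ^ b * z ^ c := ((show Commute z x from hzx).pow_pow c b)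
            rw [this, htt]; group
        _ = z ^ (b + c) := by rw [hxx, pow_add]
    rw [h1]
    exact hzpow _

end

variable {G : Type*} [Group G] [Finite G]

theorem exotic_false (S : Sylow 2 G) (t x f y : G) (k : ℕ) (hk : 2 ≤ k)
    (htS : t ∈ S) (hxS : x ∈ S) (hfS : f ∈ S)
    (hS : ∀ s ∈ S, ∃ a b c : ℕ, s = t ^ a * x ^ b * f ^ c)
    (htt : t * t = 1) (htx : t * x = x * t) (hxf : x * f = f * x)
    (hx : x * x = f ^ 2 ^ k) (hft : t * f * t⁻¹ = f ^ 2 ^ k * f⁻¹)
    (hff : f ^ 2 ^ k * f ^ 2 ^ k = 1) (hy1 : y ≠ 1) (hy5 : y ^ 5 = 1)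
    (hty : t * y = y * t) (hzy : f ^ 2 ^ k * y * (f ^ 2 ^ k)⁻¹ = y⁻¹)
    (hCy : ∀ g : G, t * g = g * t → g * y * g⁻¹ ∈ zpowers y)
    (hC : ∀ g : G, t * g = g * t → f ^ 2 ^ k * g * (f ^ 2 ^ k)⁻¹ * g⁻¹ ∈ zpowers y) : False := by
  have h2fact : Fact (Nat.Prime 2) := ⟨Nat.prime_two⟩
  have h5fact : Fact (Nat.Prime 5) := ⟨by norm_num⟩
  set z := f ^ 2 ^ k with hz
  have hyy : y⁻¹ ≠ y := by
    intro h
    apply hy1
    have h1 : y ^ 2 = 1 := by rw [pow_two]; nth_rewrite 1 [← h]; exact inv_mul_cancel y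
    have h2 : y ^ 5 = y := by
      calc y ^ 5 = y ^ 2 * y ^ 2 * y := by group
        _ = y := by rw [h1, one_mul, one_mul]
    rw [← h2, hy5]
  have hz1 : z ≠ 1 := by
    intro h
    rw [h, one_mul, inv_one, mul_one] at hzy
    exact hyy hzy.symm
  have hzS : z ∈ S := pow_mem hfS _
  have hzf : z * f = f * z := ((Commute.refl f).pow_left _)
  have hzx : z * x = x * z := by rw [← hx, mul_assoc]
  have hzt : t * z = z * t := by rw [← hx, ← mul_assoc, htx, mul_assoc, htx, ← mul_assoc]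
  have hxcen : ∀ s ∈ S, x * s = s * x := by
    intro s hs
    obtain ⟨a, b, c, rfl⟩ := hS s hs
    have h1 : Commute x (t ^ a) := (show Commute x t from htx.symm).pow_right a
    have h2 : Commute x (x ^ b) := (Commute.refl x).pow_right b
    have h3 : Commute x (f ^ c) := (show Commute x f from hxf).pow_right c
    exact (h1.mul_right h2).mul_right h3
  have hzcen : ∀ s ∈ S, z * s = s * z := by
    intro s hs
    rw [← hx, mul_assoc, hxcen s hs, ← mul_assoc, hxcen s hs, mul_assoc]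
  have hzo : orderOf z = 2 := orderOf_eq_prime (by rw [pow_two]; exact hff) hz1
  -- `z` is isolated
  have hiso : ∀ g : G, g * z * g⁻¹ ∈ S → g * z * g⁻¹ = z := by
    intro g hg
    set H : Subgroup G := Subgroup.centralizer ({z} : Set G) with hH
    have hmemH : ∀ u, u ∈ H ↔ u * z = z * u := fun u => by
      rw [hH, Subgroup.mem_centralizer_singleton_iff, eq_comm]
    have hSH : (S : Subgroup G) ≤ H := fun s hs => (hmemH s).mpr (hzcen s hs).symm
    have hxH : g⁻¹ * x * g ∈ H := by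
      rw [hmemH]
      have h1 := hxcen _ hg
      calc g⁻¹ * x * g * z = g⁻¹ * (x * (g * z * g⁻¹)) * g := by group
        _ = g⁻¹ * ((g * z * g⁻¹) * x) * g := by rw [h1]
        _ = z * (g⁻¹ * x * g) := by group
    -- conjugate the 2-element `g⁻¹ x g` of `H` into `S`
    obtain ⟨h, hhH, hh⟩ : ∃ h ∈ H, h * (g⁻¹ * x * g) * h⁻¹ ∈ S := by
      have hx4 : x ^ 2 ^ 2 = 1 := by
        have : x ^ 2 ^ 2 = (x * x) * (x * x) := by
          rw [← pow_two, ← pow_two, ← pow_mul]
          norm_num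
        rw [this, hx, hff]
      have hP : IsPGroup 2 (zpowers (⟨g⁻¹ * x * g, hxH⟩ : H)) := by
        apply IsPGroup.of_card (n := 0 + (Nat.log 2 (orderOf x)))
        rw [Nat.card_zpowers, zero_add]
        have h1 : orderOf (⟨g⁻¹ * x * g, hxH⟩ : H) = orderOf x := by
          rw [← Subgroup.orderOf_coe]
          have : (g⁻¹ * x * g) = g⁻¹ * x * (g⁻¹)⁻¹ := by rw [inv_inv]
          change orderOf (g⁻¹ * x * g) = _
          rw [this]
          exact orderOf_injective (MulAut.conj g⁻¹).toMonoidHom (MulAut.conj g⁻¹).injective x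
        rw [h1]
        obtain ⟨m, -, hm⟩ := (Nat.dvd_prime_pow Nat.prime_two).mp (orderOf_dvd_of_pow_eq_one hx4)
        rw [hm, Nat.log_pow (by norm_num)]
      obtain ⟨Q, hQ⟩ := hP.exists_le_sylow
      obtain ⟨h, hh⟩ := MulAction.exists_smul_eq H Q (S.subtype hSH)
      refine ⟨h, h.2, ?_⟩
      have h1 : (⟨g⁻¹ * x * g, hxH⟩ : H) ∈ Q := hQ (mem_zpowers _)
      have h2 : h * (⟨g⁻¹ * x * g, hxH⟩ : H) * h⁻¹ ∈ S.subtype hSH := by
        rw [← hh]
        exact ⟨_, h1, rfl⟩
      exact h2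
    have h1 : (h * (g⁻¹ * x * g) * h⁻¹) * (h * (g⁻¹ * x * g) * h⁻¹) = h * (g⁻¹ * z * g) * h⁻¹ := by
      rw [← hx]; group
    have h2 := sq_mem htt htx hxf hx hft hff hz1 (hS _ hh) (by
      rw [h1]
      calc h * (g⁻¹ * z * g) * h⁻¹ * (h * (g⁻¹ * z * g) * h⁻¹) = h * g⁻¹ * (z * z) * g * h⁻¹ := by
            group
        _ = 1 := by rw [hff]; group)
    rw [h1] at h2
    rcases h2 with h2 | h2
    · exfalso
      apply hz1
      have : z = g * (h⁻¹ * (h * (g⁻¹ * z * g) * h⁻¹) * h) * g⁻¹ := by group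
      rw [this, h2]; group
    · have h3 := (hmemH h).mp hhH
      have h4 : g⁻¹ * z * g = z := by
        have h5 : g⁻¹ * z * g = h⁻¹ * (h * (g⁻¹ * z * g) * h⁻¹) * h := by group
        rw [h5, h2, mul_assoc, ← h3, inv_mul_cancel_left]
      calc g * z * g⁻¹ = g * (g⁻¹ * z * g) * g⁻¹ := by rw [h4]
        _ = z := by group
  obtain ⟨N, hN, hNodd, hNz⟩ := Cfsg.Agent.S0215.result S z hzo hzS hiso
  have hpow : ∀ M : Subgroup G, y⁻¹ * y⁻¹ ∈ M → y ∈ M := by
    intro M hM
    have h1 : y = (y⁻¹ * y⁻¹) ^ 2 := by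
      have h3 : (y⁻¹ * y⁻¹) ^ 2 * y ^ 5 = y := by group
      rw [hy5, mul_one] at h3
      exact h3.symm
    rw [h1]
    exact pow_mem hM 2
  have hyN : y ∈ N := by
    apply hpow
    have h1 := hNz y
    rw [hzy] at h1
    exact h1
  -- an `S`-invariant Sylow 5-subgroup of `N`
  have hN2 : ¬ 2 ∣ Nat.card N := hNodd.not_two_dvd_nat
  obtain ⟨W, hWsyl, hSW⟩ := Cfsg.Agent.Lib.PGroupCoprimeAction.exists_invariant_sylow
    (p := 2) (A := (S : Subgroup G)) (H := N) S.isPGroup' hN2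
    (fun b _ u hu => hN.conj_mem u hu b) 5
  have ht2 : IsPGroup 2 (zpowers t) := by
    apply S.isPGroup'.to_le
    rw [zpowers_le]
    exact htS
  obtain ⟨W', hW'syl, htW', hyW'⟩ := Cfsg.Agent.Lib.PGroupCoprimeAction.exists_invariant_sylow_ge
    (p := 2) (A := zpowers t) (H := N) ht2 hN2 (fun b _ u hu => hN.conj_mem u hu b) (q := 5)
    (R := zpowers y) (by rw [zpowers_le]; exact hyN) (by
      apply IsPGroup.of_card (n := 1)
      rw [Nat.card_zpowers, pow_one]
      exact orderOf_eq_prime hy5 hy1) (by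
      rintro b ⟨m, rfl⟩ u ⟨n, rfl⟩
      have h1 : Commute (t ^ m) (y ^ n) := (show Commute t y from hty).zpow_zpow m n
      change t ^ m * y ^ n * (t ^ m)⁻¹ ∈ _
      rw [h1.eq, mul_inv_cancel_right]
      exact zpow_mem (mem_zpowers y) n)
  obtain ⟨c, hc, hcW⟩ := Cfsg.Agent.Lib.PGroupCoprimeAction.exists_centralizer_conj
    (p := 2) (A := zpowers t) (H := N) ht2 hN2 (fun b _ u hu => hN.conj_mem u hu b) (q := 5)
    hWsyl hW'syl (fun b hb u hu => hSW b ((zpowers_le.mpr htS) hb) u hu) htW'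
  have hct : t * c = c * t := by
    have h1 := (Subgroup.mem_inf.mp hc).2
    rw [Subgroup.mem_centralizer_iff] at h1
    exact h1 t (mem_zpowers t)
  have hyW : y ∈ W := by
    have h1 : y ∈ W' := hyW' (mem_zpowers y)
    rw [← hcW] at h1
    obtain ⟨w, hw, hwy⟩ := h1
    change c * w * c⁻¹ = y at hwy
    have h2 := hCy c hct
    -- conjugation by `c` permutes `⟨y⟩`
    have h3 : c⁻¹ * y * c⁻¹⁻¹ ∈ zpowers y := hCy c⁻¹ (by
      have : Commute t c⁻¹ := (show Commute t c from hct).inv_right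
      exact this)
    have h4 : w ∈ zpowers y := by
      have : w = c⁻¹ * y * c⁻¹⁻¹ := by rw [← hwy]; group
      rw [this]; exact h3
    have hw1 : w ≠ 1 := by
      rintro rfl
      rw [mul_one, mul_inv_cancel] at hwy
      exact hy1 hwy.symm
    have hcard : Nat.card (zpowers y) = 5 := by
      rw [Nat.card_zpowers]
      exact orderOf_eq_prime hy5 hy1
    have h5 : zpowers w = zpowers y := by
      have hle : zpowers w ≤ zpowers y := zpowers_le.mpr h4
      refine Subgroup.eq_of_le_of_card_ge hle ?_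
      rw [hcard, Nat.card_zpowers]
      have h6 : w ^ 5 = 1 := by
        have : w = c⁻¹ * y * c⁻¹⁻¹ := by rw [← hwy]; group
        rw [this, conj_pow, hy5]; group
      rw [orderOf_eq_prime h6 hw1]
    have h6 : y ∈ zpowers w := by rw [h5]; exact mem_zpowers y
    exact (zpowers_le.mpr hw) h6
  -- the action of `S` on `W`
  have hW5 : IsPGroup 5 W := by
    obtain ⟨P, rfl⟩ := hWsyl
    exact P.isPGroup'.map _
  let _ := Cfsg.Agent.Lib.PGroupCoprimeAction.conjAction (S : Subgroup G) W hSW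
  let ρ : (S : Subgroup G) →* MulAut W := MulDistribMulAction.toMulAut (S : Subgroup G) W
  have hρ : ∀ (s : (S : Subgroup G)) (w : W), ((ρ s w : W) : G) = s * w * (s : G)⁻¹ :=
    fun s w => rfl
  refine five_false_aux (Γ := (S : Subgroup G)) ⟨f, hfS⟩ ⟨t, htS⟩ k hk ?_ ?_ ?_ ?_
    (Nat.card W) W rfl hW5 ρ ⟨y, hyW⟩ ?_ ?_ ?_ ?_
  · intro s
    ext
    push_cast
    exact (hzcen s s.2).symm
  · ext
    exact htt
  · ext
    push_cast
    exact hft
  · ext
    push_cast
    exact hff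
  · intro h
    exact hy1 (congrArg Subtype.val h)
  · ext
    rw [hρ]
    change t * y * t⁻¹ = y
    rw [hty, mul_inv_cancel_right]
  · ext
    rw [hρ]
    push_cast
    exact hzy
  · intro w hw
    have h1 : t * (w : G) = w * t := by
      have h2 := congrArg Subtype.val hw
      rw [hρ] at h2
      change t * (w : G) * t⁻¹ = w at h2
      rw [mul_inv_eq_iff_eq_mul] at h2
      exact h2
    obtain ⟨n, hn⟩ := mem_zpowers_iff.mp (hC _ h1)
    refine mem_zpowers_iff.mpr ⟨n, ?_⟩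
    ext
    rw [Subgroup.coe_mul, hρ]
    push_cast
    exact hn

end Cfsg.Agent.StdSz.ExoticGroup
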