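import Cfsg.Agent.StdSz.ExoticW
import Cfsg.Agent.StdSz.ExoticGroup

/-!
# The exotic configuration for `Sz(8)` does not exist
-/

set_option autoImplicit false
set_option linter.unusedSectionVars false

namespace Cfsg.Agent.StdSz.ExoticMain

open Subgroup Cfsg.Agent.StdSz.Env Cfsg.Agent.StdSz.FormAlg Cfsg.Agent.StdSz.ExoticData
open Cfsg.Agent.StdSz.ExoticAct Cfsg.Agent.StdSz.ExoticHom Cfsg.Agent.StdSz.ExoticEight
open Cfsg.Agent.StdSz.ExoticStd Cfsg.Agent.StdSz.ExoticY Cfsg.Agent.StdSz.ExoticW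

variable {G : Type*} [Group G] {F : Type*} [Field F] [Fintype F] [CharP F 2] [Finite G]
variable {E : Env G F 1} {A W S : Subgroup G} {k : ℕ} (C : Cfg E A W S k)
include C

theorem t_mem : E.t ∈ S :=
  (mem_S_iff C).mpr (Or.inr ⟨0, 1, D_W C (one_mem _), by rw [mul_one]⟩)

theorem U_mem {x : G} {a : F} (h : D E W x a) : x ∈ S := (mem_S_iff C).mpr (Or.inl ⟨a, h⟩)

theorem W_mem {w : G} (hw : w ∈ W) : w ∈ S := U_mem C (D_W C hw)

/-- elements of `W` act trivially -/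
theorem PH_W {w : normalizer (S : Set G)} (hw : (w : G) ∈ W) : PH C w = 1 := by
  have hact : Act E W (w : G) id id 0 := by
    refine ⟨fun c => ?_, fun b => ?_, ?_, fun f hf => mul_mem (mul_mem hw hf) (inv_mem hw)⟩
    · rw [C.W_p _ hw, mul_inv_cancel_right]; exact D_p C c 0
    · rw [C.W_p _ hw, mul_inv_cancel_right]; rfl
    · refine ⟨(w : G) ^ 2 ^ k * ((w : G)⁻¹ * (w : G)⁻¹),
        D_W C (mul_mem (pow_mem hw _) (mul_mem (inv_mem hw) (inv_mem hw))), ?_⟩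
      have h2 := C.W_t w hw
      rw [E.t_inv] at h2
      calc (w : G) * E.t * (w : G)⁻¹ = (E.t * E.t) * (w * E.t * (w : G)⁻¹) := by
            rw [E.t_sq, one_mul]
        _ = E.t * (E.t * w * E.t) * (w : G)⁻¹ := by group
        _ = _ := by rw [h2]; group
  obtain ⟨h1, h2, h3⟩ := eq_of_act C hact
  ext c
  rw [PH_apply, h1, h3, add_zero]
  rfl

/-- elements of `N(S)` commuting with `t` -/
theorem ca_of_comm {g : normalizer (S : Set G)} (h : (g : G) * E.t = E.t * g) : ca C g = 0 := by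
  obtain ⟨u, hu, h1⟩ := (spec C g).ha
  rw [h, mul_inv_cancel_right] at h1
  have h2 : u = 1 := by
    have : E.t * 1 = E.t * u := by rw [mul_one]; exact h1
    exact (mul_left_cancel this).symm
  rw [h2] at hu
  exact D_inj C hu (D_W C (one_mem _))

theorem p_of_comm {g : normalizer (S : Set G)} (h : (g : G) * E.t = E.t * g) (c d : F) :
    ∃ e, (g : G) * E.p c d * (g : G)⁻¹ = E.p (PH C g c) e := by
  have ha := ca_of_comm C h
  obtain ⟨f, hf, h1⟩ := (spec C g).hA c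
  have h2 : f * E.t = E.t * f := by
    have h3 : ((g : G) * E.p c 0 * (g : G)⁻¹) * E.t = E.t * ((g : G) * E.p c 0 * (g : G)⁻¹) := by
      have h4 : (g : G)⁻¹ * E.t = E.t * (g : G)⁻¹ := (show Commute (g : G) E.t from h).inv_left
      calc ((g : G) * E.p c 0 * (g : G)⁻¹) * E.t = (g : G) * E.p c 0 * ((g : G)⁻¹ * E.t) := by group
        _ = (g : G) * (E.p c 0 * E.t) * (g : G)⁻¹ := by rw [h4]; group
        _ = ((g : G) * E.t) * E.p c 0 * (g : G)⁻¹ := by rw [← E.t_p]; group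
        _ = _ := by rw [h]; group
    rw [h1] at h3
    apply mul_left_cancel (a := E.p (cA C g c) 0)
    rw [← mul_assoc, h3, ← mul_assoc, E.t_p]; group
  obtain ⟨b, hb⟩ := W_comm_t C hf h2
  refine ⟨b + cB C g d, ?_⟩
  have h3 : E.p c d = E.p c 0 * E.p 0 d := by rw [E.p_mul_z, zero_add]
  calc (g : G) * E.p c d * (g : G)⁻¹ = ((g : G) * E.p c 0 * (g : G)⁻¹) *
        ((g : G) * E.p 0 d * (g : G)⁻¹) := by rw [h3]; group
    _ = E.p (cA C g c) 0 * (E.p 0 b * E.p 0 (cB C g d)) := by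
      rw [h1, hb, (spec C g).hB, mul_assoc]
    _ = _ := by rw [E.z_mul, E.p_mul_z, zero_add, PH_apply, ha, add_zero]

/-- normalized `φ` and `s`. -/
theorem exists_phi {r : G} (X : Exo E A W S k r) :
    ∃ φ s : normalizer (S : Set G), ∃ j : ℕ, Phi E (φ : G) j ∧ (∀ c, PH C φ c = c ^ 2) ∧
      PH C s 0 = 1 ∧ PH C (s * φ * s⁻¹ * φ) = 1 := by
  obtain ⟨φ, s, h1, h2, h3, h4⟩ := exists_pair C X
  -- first make `φ` commute with `t`
  have ha : ca C φ = 0 := by rw [← PH_zero, h1]; ring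
  obtain ⟨u, hu, h5⟩ := (spec C φ).ha
  rw [ha] at hu
  have hu' := D_zero C hu
  have hsq : (E.t * u) * (E.t * u) = 1 := by
    rw [← h5]
    calc (φ : G) * E.t * (φ : G)⁻¹ * ((φ : G) * E.t * (φ : G)⁻¹) =
        (φ : G) * (E.t * E.t) * (φ : G)⁻¹ := by group
      _ = 1 := by rw [E.t_sq]; group
  have hu1 : u ^ 2 ^ k = 1 := by
    have h6 := t_mul_sq C hu' (x := u) (a := 0) (by rw [E.p_zero, one_mul])
    rw [hsq, zero_pow (by positivity), E.p_zero, one_mul] at h6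
    exact h6.symm
  obtain ⟨w, hw, hwt⟩ := conj_t C hu' hu1
  have hwN : w ∈ normalizer (S : Set G) := le_normalizer (W_mem C hw)
  set φ₁ : normalizer (S : Set G) := ⟨w, hwN⟩⁻¹ * φ with hφ₁
  have hP1 : PH C φ₁ = PH C φ := by
    rw [hφ₁, map_mul, map_inv, PH_W C (w := ⟨w, hwN⟩) hw, inv_one, one_mul]
  have hc1 : (φ₁ : G) * E.t = E.t * φ₁ := by
    rw [hφ₁]
    change w⁻¹ * (φ : G) * E.t = E.t * (w⁻¹ * (φ : G))
    have h6 : (φ : G) * E.t * (φ : G)⁻¹ = w * E.t * w⁻¹ := by rw [h5, hwt]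
    calc w⁻¹ * (φ : G) * E.t = w⁻¹ * ((φ : G) * E.t * (φ : G)⁻¹) * φ := by group
      _ = _ := by rw [h6]; group
  -- now a power of 3-power order
  obtain ⟨n, j, hn, hj⟩ : ∃ n j : ℕ, n % 3 = 1 ∧ φ₁ ^ (n * 3 ^ j) = 1 := by
    have ho : orderOf φ₁ ≠ 0 := (orderOf_pos φ₁).ne'
    obtain ⟨j, m, hm, hjm⟩ := Nat.exists_eq_pow_mul_and_not_dvd ho 3 (by norm_num)
    have hcop : Nat.Coprime 3 m := (Nat.Prime.coprime_iff_not_dvd Nat.prime_three).mpr hm
    obtain ⟨n, hn1, hn2⟩ := Nat.chineseRemainder hcop 1 0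
    obtain ⟨q, hq⟩ := Nat.modEq_zero_iff_dvd.mp hn2
    refine ⟨n, j, hn1, ?_⟩
    rw [← orderOf_dvd_iff_pow_eq_one, hjm, hq]
    exact ⟨q, by ring⟩
  have hP2 : PH C (φ₁ ^ n) = PH C φ := by
    rw [map_pow, hP1]
    have h3' : PH C φ ^ 3 = 1 := by
      ext c
      rw [pow_succ, pow_two, Equiv.Perm.mul_apply, Equiv.Perm.mul_apply, h1, h1, h1,
        Equiv.Perm.one_apply]
      have := pow8 (card_eight E) c
      calc ((c ^ 2) ^ 2) ^ 2 = c ^ 8 := by ring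
        _ = c := this
    have h6 : n = 3 * (n / 3) + 1 := by omega
    rw [h6, pow_succ, pow_mul, h3', one_pow, one_mul]
  have hc2 : ((φ₁ ^ n : normalizer (S : Set G)) : G) * E.t =
      E.t * ((φ₁ ^ n : normalizer (S : Set G)) : G) := by
    push_cast
    exact (show Commute (φ₁ : G) E.t from hc1).pow_left n
  have hP2' : ∀ c, PH C (φ₁ ^ n) c = c ^ 2 := fun c => by rw [hP2, h1]
  refine ⟨φ₁ ^ n, s, j, ⟨hc2, ?_, ?_, ?_⟩, hP2', h3, ?_⟩
  · intro c d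
    obtain ⟨e, he⟩ := p_of_comm C hc2 c d
    rw [hP2'] at he
    exact ⟨e, he⟩
  · intro b
    rw [(spec C (φ₁ ^ n)).hB]
    congr 1
    -- `B` is determined by `A`
    obtain ⟨c, hc⟩ := exists_fifth E b
    rw [exp_five] at hc
    have ha2 := ca_of_comm C hc2
    have h6 := (spec C (φ₁ ^ n)).norm C c
    rw [ha2, bt_zero_left, add_zero, exp_five] at h6
    have h7 : cA C (φ₁ ^ n) c = c ^ 2 := by
      rw [← hP2', PH_apply, ha2, add_zero]
    rw [← hc, h6, h7]; ring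
  · have h6 : ((φ₁ ^ n) ^ 3 ^ j : normalizer (S : Set G)) = 1 := by rw [← pow_mul]; exact hj
    have := congrArg Subtype.val h6
    push_cast at this
    push_cast
    exact this
  · rw [map_mul, map_mul, map_mul, hP2, ← map_mul, ← map_mul, ← map_mul]
    exact h4

/-- elements of `U` commuting with `t` have order dividing 4 -/
theorem comm_t_four {v : G} {a : F} (hv : D E W v a) (h : v * E.t = E.t * v) : v ^ 4 = 1 := by
  obtain ⟨g, hg, rfl⟩ := hv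
  have h1 : E.t * (E.p a 0 * g) * E.t = E.p a 0 * g := by
    rw [← h, mul_assoc, E.t_sq, mul_one]
  rw [t_conj C hg rfl] at h1
  have h2 : g * g = g ^ 2 ^ k := by
    have := mul_left_cancel h1
    nth_rewrite 1 [← this]
    group
  obtain ⟨b, hb⟩ := z_of_pow C hg
  have h3 : (E.p a 0 * g) * (E.p a 0 * g) = E.p 0 (a ^ (1 + 2 ^ (1 + 1)) + b) := by
    calc (E.p a 0 * g) * (E.p a 0 * g) = E.p a 0 * (g * E.p a 0) * g := by group
      _ = (E.p a 0 * E.p a 0) * (g * g) := by rw [C.W_p g hg]; group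
      _ = _ := by rw [E.p_sq, h2, hb, E.z_mul]
  have h4 : (E.p a 0 * g) ^ 4 = ((E.p a 0 * g) * (E.p a 0 * g)) * ((E.p a 0 * g) * (E.p a 0 * g)) := by
    simp only [pow_succ, pow_zero, one_mul, mul_assoc]
  rw [h4, h3, E.z_self]

section phi

variable {φ s : normalizer (S : Set G)} {j : ℕ} (Q : Phi E (φ : G) j)
  (hφP : ∀ c, PH C φ c = c ^ 2) (hs0 : PH C s 0 = 1) (hsφ : PH C (s * φ * s⁻¹ * φ) = 1)

/-- coordinates of the elements of `S` commuting with `φ` -/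
theorem fixed_U (hφP : ∀ c, PH C φ c = c ^ 2) {u : G} {a : F} (hu : D E W u a)
    (h : (φ : G) * u * (φ : G)⁻¹ = u) : a = 0 ∨ a = 1 := by
  have h1 := (spec C φ).D_conj C hu
  rw [h] at h1
  have h2 := D_inj C h1 hu
  apply sq_eq
  rw [← h2]
  have ha : ca C φ = 0 := by rw [← PH_zero, hφP]; ring
  rw [← hφP, PH_apply, ha, add_zero]
  congr 1

theorem mem_S₁ (Q : Phi E (φ : G) j) (hφP : ∀ c, PH C φ c = c ^ 2) {d : F}
    (hx : (φ : G) * E.p 1 d * (φ : G)⁻¹ = E.p 1 d) {f : G} (hf : f ∈ W)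
    (hfφ : (φ : G) * f * (φ : G)⁻¹ = f) (hfz : f ^ 2 ^ k = E.p 0 1) {v : G} (hv : v ∈ S)
    (h : (φ : G) * v * (φ : G)⁻¹ = v) : ∃ a b c : ℕ, v = E.t ^ a * E.p 1 d ^ b * f ^ c := by
  have hz : ∀ g ∈ zpowers f, ∃ c : ℕ, g = f ^ c := by
    intro g hg
    rw [← mem_powers_iff_mem_zpowers] at hg
    obtain ⟨c, hc⟩ := hg
    exact ⟨c, hc.symm⟩
  -- elements of `U`
  have hU : ∀ u a, D E W u a → (φ : G) * u * (φ : G)⁻¹ = u →
      ∃ b c : ℕ, u = E.p 1 d ^ b * f ^ c := by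
    intro u a hu hφu
    rcases fixed_U C hφP hu hφu with h1 | h1
    · rw [h1] at hu
      have huW := D_zero C hu
      obtain ⟨c, hc⟩ := hz u (fixed_W C Q hf hfφ hfz (k + 1) u huW hφu (C.W_exp u huW))
      exact ⟨0, c, by rw [pow_zero, one_mul, hc]⟩
    · rw [h1] at hu
      have h2 : D E W ((E.p 1 d)⁻¹ * u) 0 := by
        have := D_mul C (D_inv C (D_p C 1 d)) hu
        rwa [FormAlg.add_self] at this
      have huW := D_zero C h2
      have h3 : (φ : G) * ((E.p 1 d)⁻¹ * u) * (φ : G)⁻¹ = (E.p 1 d)⁻¹ * u := by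
        calc (φ : G) * ((E.p 1 d)⁻¹ * u) * (φ : G)⁻¹ =
            ((φ : G) * E.p 1 d * (φ : G)⁻¹)⁻¹ * ((φ : G) * u * (φ : G)⁻¹) := by group
          _ = _ := by rw [hx, hφu]
      obtain ⟨c, hc⟩ := hz _ (fixed_W C Q hf hfφ hfz (k + 1) _ huW h3 (C.W_exp _ huW))
      exact ⟨1, c, by rw [pow_one, ← hc]; group⟩
  rcases (mem_S_iff C).mp hv with ⟨a, ha⟩ | ⟨a, u, hu, h1⟩
  · obtain ⟨b, c, hbc⟩ := hU v a ha h
    exact ⟨0, b, c, by rw [pow_zero, one_mul, hbc]⟩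
  · have h2 : (φ : G) * u * (φ : G)⁻¹ = u := by
      have h3 : u = E.t * v := by rw [h1, ← mul_assoc, E.t_sq, one_mul]
      have h4 : (φ : G) * E.t * (φ : G)⁻¹ = E.t := by rw [Q.comm, mul_inv_cancel_right]
      calc (φ : G) * u * (φ : G)⁻¹ = ((φ : G) * E.t * (φ : G)⁻¹) * ((φ : G) * v * (φ : G)⁻¹) := by
            rw [h3]; group
        _ = u := by rw [h4, h, h3]
    obtain ⟨b, c, hbc⟩ := hU u a hu h2
    exact ⟨1, b, c, by rw [h1, hbc, pow_one, mul_assoc]⟩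

/-- the two `S`-classes are not fused in `C(φ)` -/
theorem no_fusion (Q : Phi E (φ : G) j) (hφP : ∀ c, PH C φ c = c ^ 2) (hs0 : PH C s 0 = 1)
    (hsφ : PH C (s * φ * s⁻¹ * φ) = 1) {r u : G} (hr : (φ : G) * r * (φ : G)⁻¹ = r)
    (hu : D E W u 1) (hrt : r * E.t * r⁻¹ = E.t * u) : False := by
  have H := C.std
  -- `s t s⁻¹ = t u'`
  obtain ⟨u', hu', hst⟩ := (spec C s).ha
  rw [PH_zero] at hs0
  rw [hs0] at hu'
  have hinv : ∀ g v : G, g * E.t * g⁻¹ = E.t * v → (E.t * v) * (E.t * v) = 1 := by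
    intro g v h
    rw [← h]
    calc g * E.t * g⁻¹ * (g * E.t * g⁻¹) = g * (E.t * E.t) * g⁻¹ := by group
      _ = 1 := by rw [E.t_sq]; group
  obtain ⟨g, hg, hgu⟩ := hu
  obtain ⟨g', hg', hgu'⟩ := hu'
  have hpow : ∀ (r v g : G), g ∈ W → v = E.p 1 0 * g → r * E.t * r⁻¹ = E.t * v →
      g ^ 2 ^ k = E.p 0 1 := by
    intro r v g hg hv hr
    have h1 := t_mul_sq C hg hv
    rw [hinv r v hr, one_pow] at h1
    have h2 : g ^ 2 ^ k = (E.p 0 1)⁻¹ := by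
      rw [eq_comm, inv_eq_iff_mul_eq_one]; exact h1.symm
    rw [h2, E.z_inv]
  have hg2 := hpow r u g hg hgu hrt
  have hg2' := hpow s u' g' hg' hgu' hst
  have hgg : (g * g'⁻¹) ^ 2 ^ k = 1 := by
    rw [(show Commute g g'⁻¹ from C.W_comm g hg _ (inv_mem hg')).mul_pow, inv_pow, hg2, hg2',
      mul_inv_cancel]
  obtain ⟨w, hw, hwt⟩ := conj_t C (mul_mem hg (inv_mem hg')) hgg
  -- `w (t u') w⁻¹ = t u`
  have hwu : w * (E.t * u') * w⁻¹ = E.t * u := by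
    have h1 : w * u' * w⁻¹ = u' := by
      rw [W_D C hw (⟨g', hg', hgu'⟩ : D E W u' 1), mul_inv_cancel_right]
    calc w * (E.t * u') * w⁻¹ = (w * E.t * w⁻¹) * (w * u' * w⁻¹) := by group
      _ = E.t * (g * g'⁻¹) * (E.p 1 0 * g') := by rw [hwt, h1, hgu']
      _ = E.t * ((g * g'⁻¹) * E.p 1 0) * g' := by group
      _ = E.t * (E.p 1 0 * (g * g'⁻¹)) * g' := by rw [C.W_p _ (mul_mem hg (inv_mem hg'))]
      _ = E.t * u := by rw [hgu]; group
  have hwN : w ∈ normalizer (S : Set G) := le_normalizer (W_mem C hw)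
  -- the element `c`
  set c : G := (s : G)⁻¹ * w⁻¹ * r with hc
  have hct : c * E.t = E.t * c := by
    have h1 : c * E.t * c⁻¹ = E.t := by
      calc c * E.t * c⁻¹ = (s : G)⁻¹ * (w⁻¹ * (r * E.t * r⁻¹) * w) * s := by rw [hc]; group
        _ = (s : G)⁻¹ * (w⁻¹ * (w * (E.t * u') * w⁻¹) * w) * s := by rw [hrt, hwu]
        _ = (s : G)⁻¹ * ((s : G) * E.t * (s : G)⁻¹) * s := by rw [hst]; group
        _ = E.t := by group
    rwa [mul_inv_eq_iff_eq_mul] at h1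
  -- `ψ`
  set ψ : normalizer (S : Set G) := s⁻¹ * ⟨w, hwN⟩⁻¹ * φ * ⟨w, hwN⟩ * s with hψ
  have hψc : (ψ : G) = c * φ * c⁻¹ := by
    have h1 : r * (φ : G) * r⁻¹ = φ := by
      rw [mul_inv_eq_iff_eq_mul] at hr
      rw [mul_inv_eq_iff_eq_mul]
      exact hr.symm
    calc (ψ : G) = (s : G)⁻¹ * w⁻¹ * φ * w * s := rfl
      _ = (s : G)⁻¹ * w⁻¹ * (r * (φ : G) * r⁻¹) * w * s := by rw [h1]
      _ = _ := by rw [hc]; group
  have hPψ : PH C φ * PH C ψ = 1 := by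
    have h1 : PH C ψ = (PH C s)⁻¹ * PH C φ * PH C s := by
      rw [hψ, map_mul, map_mul, map_mul, map_mul, map_inv, map_inv, PH_W C (w := ⟨w, hwN⟩) hw,
        inv_one, mul_one, mul_one]
    have h2 : PH C s * PH C φ * (PH C s)⁻¹ * PH C φ = 1 := by
      rw [map_mul, map_mul, map_mul, map_inv] at hsφ
      exact hsφ
    have h3 : PH C s * PH C φ * (PH C s)⁻¹ = (PH C φ)⁻¹ := eq_inv_of_mul_eq_one_left h2
    have h4 : PH C φ = (PH C s)⁻¹ * (PH C φ)⁻¹ * PH C s := by rw [← h3]; group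
    have h5 : (PH C φ)⁻¹ = (PH C s)⁻¹ * PH C φ * PH C s := by
      nth_rewrite 1 [h4]
      group
    rw [h1, ← h5, mul_inv_cancel]
  have hψt : (ψ : G) * E.t = E.t * ψ := by
    rw [hψc]
    have h1 : Commute c E.t := hct
    have h2 : Commute (φ : G) E.t := Q.comm
    exact ((h1.mul_left h2).mul_left h1.inv_left).eq
  have hψN : (ψ : G) ∈ normalizer (Pq E : Set G) := by
    rw [← NP_iff]
    intro a b
    obtain ⟨e, he⟩ := p_of_comm C hψt a b
    exact ⟨_, _, he⟩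
  -- modify `c` to normalize `P`
  obtain ⟨c', hc't, hc'N, hc'φ⟩ : ∃ c' : G, c' * E.t = E.t * c' ∧
      c' ∈ normalizer (Pq E : Set G) ∧ c' * φ = ψ * c' := by
    obtain ⟨g, hg, hgN⟩ := exists_conj H (ρ := c⁻¹) ((show Commute c E.t from hct).inv_left)
    set n := g⁻¹ * c⁻¹ with hn
    have h1 : g⁻¹ * ((φ : G) * g * (φ : G)⁻¹) ∈ normalizer (Pq E : Set G) := by
      have h2 : g⁻¹ * ((φ : G) * g * (φ : G)⁻¹) = n * ψ * n⁻¹ * (φ : G)⁻¹ := by
        rw [hψc, hn]; group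
      rw [h2]
      exact mul_mem (mul_mem (mul_mem hgN hψN) (inv_mem hgN)) (inv_mem (φ_mem H Q))
    obtain ⟨y, hy, hyφ, n', hn', hgy⟩ := trans H Q hg h1
    refine ⟨c * y, ?_, ?_, ?_⟩
    · exact ((show Commute c E.t from hct).mul_left (H.comm_t y hy)).eq
    · have h2 : c * y = n⁻¹ * n'⁻¹ := by
        have h3 : c = n⁻¹ * g⁻¹ := by rw [hn]; group
        rw [h3, hgy]; group
      rw [h2]
      exact mul_mem (inv_mem hgN) (inv_mem hn')
    · have h2 : y * (φ : G) = φ * y := by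
        rw [mul_inv_eq_iff_eq_mul] at hyφ
        exact hyφ.symm
      rw [hψc, mul_assoc, h2]; group
  -- the action of `c'`
  have hNP := NP_iff.mpr hc'N
  have hA : ∀ a : F, ∃ x : F × F, c' * E.p a 0 * c'⁻¹ = E.p x.1 x.2 := by
    intro a
    obtain ⟨x, y, h⟩ := hNP a 0
    exact ⟨(x, y), h⟩
  choose AA hAA using hA
  let A' : F → F := fun a => (AA a).1
  have hA' : ∀ a, ∃ e, c' * E.p a 0 * c'⁻¹ = E.p (A' a) e := fun a => ⟨_, hAA a⟩
  have hB : ∀ b : F, ∃ b', c' * E.p 0 b * c'⁻¹ = E.p 0 b' := by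
    intro b
    obtain ⟨x, y, h⟩ := hNP 0 b
    have h1 : E.p x y * E.p x y = 1 := by
      rw [← h]
      calc c' * E.p 0 b * c'⁻¹ * (c' * E.p 0 b * c'⁻¹) = c' * (E.p 0 b * E.p 0 b) * c'⁻¹ := by group
        _ = 1 := by rw [E.z_self]; group
    rw [E.p_sq] at h1
    have h2 : x = 0 := by
      have := E.z_eq_one h1
      rwa [pow_eq_zero_iff (by positivity)] at this
    exact ⟨y, by rw [h, h2]⟩
  choose B' hB' using hB
  have hfull : ∀ a b, ∃ e, c' * E.p a b * c'⁻¹ = E.p (A' a) e := by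
    intro a b
    obtain ⟨e, he⟩ := hA' a
    refine ⟨e + B' b, ?_⟩
    have h3 : E.p a b = E.p a 0 * E.p 0 b := by rw [E.p_mul_z, zero_add]
    calc c' * E.p a b * c'⁻¹ = (c' * E.p a 0 * c'⁻¹) * (c' * E.p 0 b * c'⁻¹) := by rw [h3]; group
      _ = _ := by rw [he, hB', E.p_mul_z]
  have hAadd : ∀ x y, A' (x + y) = A' x + A' y := by
    intro x y
    obtain ⟨e, he⟩ := hA' x
    obtain ⟨e', he'⟩ := hA' y
    have h3 : E.p x 0 * E.p y 0 = E.p (x + y) (x ^ 2 ^ (1 + 1) * y) := by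
      rw [E.p_mul, add_zero, zero_add]
    obtain ⟨e'', he''⟩ := hfull (x + y) (x ^ 2 ^ (1 + 1) * y)
    rw [← h3] at he''
    have h4 : c' * (E.p x 0 * E.p y 0) * c'⁻¹ = (c' * E.p x 0 * c'⁻¹) * (c' * E.p y 0 * c'⁻¹) := by
      group
    rw [h4, he, he', E.p_mul] at he''
    exact (E.p_inj _ _ _ _ he'').1.symm
  have hBadd : ∀ x y, B' (x + y) = B' x + B' y := by
    intro x y
    apply E.z_inj
    rw [← hB', ← E.z_mul, ← E.z_mul, ← hB', ← hB']
    group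
  have hnorm : ∀ x, (A' x) ^ 5 = B' (x ^ 5) := by
    intro x
    obtain ⟨e, he⟩ := hA' x
    apply E.z_inj
    rw [← hB', ← exp_five, ← E.p_sq (A' x) e, ← E.p_sq x 0, ← he]
    group
  have hne : ∃ x, A' x ≠ 0 := by
    refine ⟨1, fun h => ?_⟩
    obtain ⟨e, he⟩ := hA' 1
    rw [h] at he
    have h1 : (c' * E.p 1 0 * c'⁻¹) * (c' * E.p 1 0 * c'⁻¹) = 1 := by rw [he, E.z_self]
    have h2 : c' * (E.p 1 0 * E.p 1 0) * c'⁻¹ = 1 := by rw [← h1]; group
    rw [E.p_sq, one_pow] at h2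
    have h3 : E.p 0 1 = 1 := by
      have : E.p 0 1 = c'⁻¹ * (c' * E.p 0 1 * c'⁻¹) * c' := by group
      rw [this, h2]; group
    exact one_ne_zero (E.z_eq_one h3)
  obtain ⟨ν, i, hν, -, hmon⟩ := monomial (card_eight E) A' B' hAadd hBadd hne hnorm
  -- the commutation relation
  have hrel : ∀ x, (A' (x ^ 2)) ^ 2 = A' x := by
    intro x
    obtain ⟨e1, he1⟩ := Q.hp x 0
    obtain ⟨e2, he2⟩ := hfull (x ^ 2) e1
    obtain ⟨e3, he3⟩ := hA' x
    obtain ⟨e4, he4⟩ := p_of_comm C hψt (A' x) e3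
    have h1 : c' * (φ * E.p x 0 * (φ : G)⁻¹) * c'⁻¹ = ψ * (c' * E.p x 0 * c'⁻¹) * (ψ : G)⁻¹ := by
      calc c' * (φ * E.p x 0 * (φ : G)⁻¹) * c'⁻¹ = (c' * φ) * E.p x 0 * (c' * φ)⁻¹ := by group
        _ = (ψ * c') * E.p x 0 * (ψ * c')⁻¹ := by rw [hc'φ]
        _ = _ := by group
    rw [he1, he2, he3, he4] at h1
    have h2 := (E.p_inj _ _ _ _ h1).1
    have h3 : PH C φ (PH C ψ (A' x)) = A' x := by
      rw [← Equiv.Perm.mul_apply, hPψ, Equiv.Perm.one_apply]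
    rw [← h2, hφP] at h3
    exact h3
  have hν1 : ν = 1 := by
    have h1 := hrel 1
    rw [one_pow, hmon, one_pow, mul_one] at h1
    rcases sq_eq ν h1 with h2 | h2
    · exact absurd h2 hν
    · exact h2
  have hall : ∀ x : F, x ^ 4 = x := by
    intro x
    have h1 := hrel x
    rw [hmon, hmon, hν1, one_mul, one_mul] at h1
    have h2 : (x ^ 4) ^ 2 ^ i = x ^ 2 ^ i := by
      rw [← h1, ← pow_mul, ← pow_mul, ← pow_mul]
      congr 1
      ring
    have h3 : (x ^ 4 + x) ^ 2 ^ i = 0 := by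
      rw [FormAlg.pow_add, h2, FormAlg.add_self]
    rw [pow_eq_zero_iff (by positivity)] at h3
    linear_combination h3 - x * two0 (F := F)
  obtain ⟨x, hx0, hx1⟩ : ∃ x : F, x ≠ 0 ∧ x ≠ 1 := by
    classical
    by_contra hcon
    push Not at hcon
    have h3 : Fintype.card F ≤ 2 := by
      have : (Finset.univ : Finset F) ⊆ {0, 1} := by
        intro y _
        rw [Finset.mem_insert, Finset.mem_singleton]
        by_cases hy : y = 0
        · exact Or.inl hy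
        · exact Or.inr (hcon y hy)
      calc Fintype.card F = (Finset.univ : Finset F).card := rfl
        _ ≤ ({0, 1} : Finset F).card := Finset.card_le_card this
        _ ≤ 2 := Finset.card_le_two
    have := card_eight E
    omega
  have h4 := hall x
  have h5 : x * (x - 1) * (x ^ 2 + x + 1) = 0 := by linear_combination h4
  rcases mul_eq_zero.mp h5 with h6 | h6
  · rcases mul_eq_zero.mp h6 with h7 | h7
    · exact hx0 h7
    · exact hx1 (sub_eq_zero.mp h7)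
  · exact no_cube (card_eight E) x h6

/-- the elements of a 2-subgroup `R` of `C(φ)` above `⟨t, x⟩` which commute with `t` lie in
`S`. -/
theorem comm_mem (Q : Phi E (φ : G) j) {d : F}
    (hx : (φ : G) * E.p 1 d * (φ : G)⁻¹ = E.p 1 d) {R : Subgroup G} (hR : IsPGroup 2 R)
    (hRφ : ∀ ρ ∈ R, (φ : G) * ρ * (φ : G)⁻¹ = ρ) (htR : E.t ∈ R) (hxR : E.p 1 d ∈ R) {ρ : G}
    (hρ : ρ ∈ R) (hρt : ρ * E.t = E.t * ρ) : ρ ∈ S := by
  have H := C.std
  have h2f : Fact (Nat.Prime 2) := ⟨Nat.prime_two⟩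
  set R' := R ⊓ centralizer ({E.t} : Set G) with hR'
  have hmR' : ∀ g, g ∈ R' ↔ g ∈ R ∧ g * E.t = E.t * g := by
    intro g
    rw [hR', mem_inf, mem_centralizer_singleton_iff]
  have hR'2 : IsPGroup 2 R' := hR.to_le inf_le_left
  have hxR' : E.p 1 d ∈ R' := (hmR' _).mpr ⟨hxR, (E.t_p 1 d).symm⟩
  set Y := A ⊓ centralizer ({(φ : G)} : Set G) with hY
  have hmem : ∀ g, g ∈ Y ↔ g ∈ A ∧ (φ : G) * g * (φ : G)⁻¹ = g := by
    intro g
    rw [hY, mem_inf, mem_centralizer_singleton_iff, mul_inv_eq_iff_eq_mul,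
      eq_comm (a := (φ : G) * g)]
  have hcardY : Nat.card Y = 20 := card_Y H Q hx
  -- `R' ∩ Y = ⟨x⟩`
  have hxY : E.p 1 d ∈ Y := (hmem _).mpr ⟨H.p_mem 1 d, hx⟩
  have hRY : R' ⊓ Y = zpowers (E.p 1 d) := by
    have hle : zpowers (E.p 1 d) ≤ R' ⊓ Y := zpowers_le.mpr ⟨hxR', hxY⟩
    symm
    apply Subgroup.eq_of_le_of_card_ge hle
    rw [Nat.card_zpowers, order_x H Q d]
    obtain ⟨n, hn⟩ := IsPGroup.iff_card.mp (hR'2.to_le (inf_le_left : R' ⊓ Y ≤ R'))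
    have h1 : Nat.card ↥(R' ⊓ Y) ∣ 20 := by
      rw [← hcardY]; exact Subgroup.card_dvd_of_le inf_le_right
    rw [hn] at h1 ⊢
    have h3 : n ≤ 2 := by
      by_contra hcon
      have h4 : 2 ^ 3 ∣ 2 ^ n := Nat.pow_dvd_pow 2 (by omega)
      have h5 := h4.trans h1
      norm_num at h5
    calc 2 ^ n ≤ 2 ^ 2 := Nat.pow_le_pow_right (by norm_num) h3
      _ = 4 := by norm_num
  -- `R'` normalizes `P`
  have hRN : R' ≤ normalizer (Pq E : Set G) := by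
    intro g hg
    have hgt := ((hmR' g).mp hg).2
    have hgφ := hRφ g ((hmR' g).mp hg).1
    have h1 : g * E.p 1 d * g⁻¹ ∈ R' ⊓ Y := by
      refine Subgroup.mem_inf.mpr ⟨mul_mem (mul_mem hg hxR') (inv_mem hg),
        (hmem _).mpr ⟨H.conj_mem g hgt _ (H.p_mem 1 d), ?_⟩⟩
      calc (φ : G) * (g * E.p 1 d * g⁻¹) * (φ : G)⁻¹ = ((φ : G) * g * (φ : G)⁻¹) *
            ((φ : G) * E.p 1 d * (φ : G)⁻¹) * ((φ : G) * g * (φ : G)⁻¹)⁻¹ := by group
        _ = _ := by rw [hgφ, hx]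
    rw [hRY] at h1
    obtain ⟨n, hn⟩ := mem_zpowers_iff.mp h1
    have h2 : g * E.p 0 1 * g⁻¹ = E.p 0 1 := by
      have h3 : E.p 0 1 = E.p 1 d * E.p 1 d := by rw [E.p_sq, one_pow]
      have h4 : g * E.p 0 1 * g⁻¹ = E.p 0 1 ^ n := by
        calc g * E.p 0 1 * g⁻¹ = (g * E.p 1 d * g⁻¹) * (g * E.p 1 d * g⁻¹) := by rw [h3]; group
          _ = E.p 1 d ^ n * E.p 1 d ^ n := by rw [hn]
          _ = E.p 0 1 ^ n := by rw [h3, ← (Commute.refl (E.p 1 d)).mul_zpow]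
      have h5 : E.p 0 1 ^ (2 : ℤ) = 1 := by rw [zpow_two, E.z_self]
      rcases Int.even_or_odd n with ⟨m, hm⟩ | ⟨m, hm⟩
      · exfalso
        rw [hm, ← two_mul, zpow_mul, h5, one_zpow] at h4
        apply z_ne H Q
        have : E.p 0 1 = g⁻¹ * (g * E.p 0 1 * g⁻¹) * g := by group
        rw [this, h4]; group
      · rw [h4, hm, zpow_add, zpow_mul, h5, one_zpow, one_mul, zpow_one]
    obtain ⟨a, ha, haN⟩ := exists_conj H hgt
    set n' := a⁻¹ * g with hn'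
    have h6 : g = a * n' := by rw [hn']; group
    have h7 : n' * E.p 0 1 * n'⁻¹ ∈ Pq E := (mem_normalizer_iff.mp haN _).mp (p_mem_Pq 0 1)
    have h8 : a ∈ normalizer (Pq E : Set G) := by
      apply ti' H ha h7
      · intro h9
        apply z_ne H Q
        have : E.p 0 1 = n'⁻¹ * (n' * E.p 0 1 * n'⁻¹) * n' := by group
        rw [this, h9]; group
      · have : a * (n' * E.p 0 1 * n'⁻¹) * a⁻¹ = E.p 0 1 := by
          calc a * (n' * E.p 0 1 * n'⁻¹) * a⁻¹ = (a * n') * E.p 0 1 * (a * n')⁻¹ := by group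
            _ = E.p 0 1 := by rw [← h6, h2]
        rw [this]; exact p_mem_Pq 0 1
    rw [h6]
    exact mul_mem h8 haN
  -- apply maximality
  have hP2 : IsPGroup 2 (Pq E) := by
    intro x
    exact ⟨2, Subtype.ext (Pq_four x.2)⟩
  have hX2 : IsPGroup 2 ↥(R' ⊔ Pq E) := hR'2.to_sup_of_normal_right' hP2 hRN
  have hXt : R' ⊔ Pq E ≤ centralizer ({E.t} : Set G) := by
    rw [sup_le_iff]
    refine ⟨inf_le_right, ?_⟩
    rintro x ⟨a, b, rfl⟩
    rw [mem_centralizer_singleton_iff]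
    exact (E.t_p a b).symm
  obtain ⟨a, b, h1⟩ := E.T_max (R' ⊔ Pq E) hX2
    (fun a b => (le_sup_right : Pq E ≤ R' ⊔ Pq E) (p_mem_Pq a b))
    ((le_sup_left : R' ≤ R' ⊔ Pq E) ((hmR' _).mpr ⟨htR, rfl⟩))
    (fun x hx => mem_centralizer_singleton_iff.mp (hXt hx)) ρ
    ((le_sup_left : R' ≤ R' ⊔ Pq E) ((hmR' _).mpr ⟨hρ, hρt⟩))
  rcases h1 with h1 | h1
  · rw [h1]; exact U_mem C (D_p C a b)
  · rw [h1]; exact mul_mem (U_mem C (D_p C a b)) (t_mem C)

/-- `C_S(φ)` is a Sylow 2-subgroup of `C(φ)`. -/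
theorem sylow_max (Q : Phi E (φ : G) j) (hφP : ∀ c, PH C φ c = c ^ 2) (hs0 : PH C s 0 = 1)
    (hsφ : PH C (s * φ * s⁻¹ * φ) = 1) {d : F}
    (hx : (φ : G) * E.p 1 d * (φ : G)⁻¹ = E.p 1 d) {f : G} (hf : f ∈ W)
    (hfφ : (φ : G) * f * (φ : G)⁻¹ = f) (hfz : f ^ 2 ^ k = E.p 0 1) (R : Subgroup G)
    (hRφ : R ≤ centralizer ({(φ : G)} : Set G)) (hR : IsPGroup 2 R)
    (hSR : S ⊓ centralizer ({(φ : G)} : Set G) ≤ R) :
    R = S ⊓ centralizer ({(φ : G)} : Set G) := by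
  have h2f : Fact (Nat.Prime 2) := ⟨Nat.prime_two⟩
  have hmem : ∀ g, g ∈ centralizer ({(φ : G)} : Set G) ↔ (φ : G) * g * (φ : G)⁻¹ = g := by
    intro g
    rw [mem_centralizer_singleton_iff, mul_inv_eq_iff_eq_mul, eq_comm (a := (φ : G) * g)]
  have hRφ' : ∀ ρ ∈ R, (φ : G) * ρ * (φ : G)⁻¹ = ρ := fun ρ hρ => (hmem ρ).mp (hRφ hρ)
  have hφt : (φ : G) * E.t * (φ : G)⁻¹ = E.t := by rw [Q.comm, mul_inv_cancel_right]
  have ht1 : E.t ∈ S ⊓ centralizer ({(φ : G)} : Set G) := ⟨t_mem C, (hmem _).mpr hφt⟩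
  have hx1 : E.p 1 d ∈ S ⊓ centralizer ({(φ : G)} : Set G) :=
    ⟨U_mem C (D_p C 1 d), (hmem _).mpr hx⟩
  have hf1 : f ∈ S ⊓ centralizer ({(φ : G)} : Set G) := ⟨W_mem C hf, (hmem _).mpr hfφ⟩
  have hf4 : f ^ 4 ≠ 1 := by
    intro h4
    have h5 : f ^ 2 ^ k = 1 := by
      apply pow_two_k C
      have : f * f * (f * f) = f ^ 4 := by
        simp only [pow_succ, pow_zero, one_mul, mul_assoc]
      rw [this, h4]
    rw [hfz] at h5
    exact one_ne_zero (E.z_eq_one h5)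
  apply Cfsg.Agent.Blocks.SylowIn.eq_of_normalizer_inf_le hR hSR
  rintro r ⟨hrN, hrR⟩
  have hrφ := hRφ' r hrR
  have hj : r * E.t * r⁻¹ ∈ S ⊓ centralizer ({(φ : G)} : Set G) :=
    (mem_normalizer_iff.mp hrN _).mp ht1
  rcases (mem_S_iff C).mp hj.1 with ⟨a, ha⟩ | ⟨a, u, hu, hju⟩
  · exfalso
    -- `t` commutes with `r⁻¹ f r`
    have h1 := W_D C hf ha
    have h2 : r⁻¹ * f * r⁻¹⁻¹ ∈ S ⊓ centralizer ({(φ : G)} : Set G) :=
      (mem_normalizer_iff.mp (inv_mem hrN) _).mp hf1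
    have h3 : (r⁻¹ * f * r⁻¹⁻¹) * E.t = E.t * (r⁻¹ * f * r⁻¹⁻¹) := by
      calc (r⁻¹ * f * r⁻¹⁻¹) * E.t = r⁻¹ * (f * (r * E.t * r⁻¹)) * r := by group
        _ = r⁻¹ * ((r * E.t * r⁻¹) * f) * r := by rw [h1]
        _ = _ := by group
    have h4 : (r⁻¹ * f * r⁻¹⁻¹) ^ 4 = 1 := by
      rcases (mem_S_iff C).mp h2.1 with ⟨b, hb⟩ | ⟨b, v, hv, hbv⟩
      · exact comm_t_four C hb h3
      · rw [hbv]; exact t_mul_four C hv
    apply hf4
    rw [conj_pow] at h4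
    have : f ^ 4 = r * (r⁻¹ * f ^ 4 * r⁻¹⁻¹) * r⁻¹ := by group
    rw [this, h4]; group
  · have hjφ : (φ : G) * (E.t * u) * (φ : G)⁻¹ = E.t * u := by
      rw [← hju]; exact (hmem _).mp hj.2
    have huφ : (φ : G) * u * (φ : G)⁻¹ = u := by
      apply mul_left_cancel (a := E.t)
      calc E.t * ((φ : G) * u * (φ : G)⁻¹) = ((φ : G) * E.t * (φ : G)⁻¹) *
            ((φ : G) * u * (φ : G)⁻¹) := by rw [hφt]
        _ = (φ : G) * (E.t * u) * (φ : G)⁻¹ := by group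
        _ = _ := hjφ
    have hsq : (E.t * u) * (E.t * u) = 1 := by
      rw [← hju]
      calc r * E.t * r⁻¹ * (r * E.t * r⁻¹) = r * (E.t * E.t) * r⁻¹ := by group
        _ = 1 := by rw [E.t_sq]; group
    rcases fixed_U C hφP hu huφ with h0 | h0
    · rw [h0] at hu
      have huW := D_zero C hu
      have hu1 : u ^ 2 ^ k = 1 := by
        have h6 := t_mul_sq C huW (x := u) (a := 0) (by rw [E.p_zero, one_mul])
        rw [hsq, zero_pow (by positivity), E.p_zero, one_mul] at h6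
        exact h6.symm
      obtain ⟨w, hw, hwφ, hwt⟩ := conj_fixed C Q (fun f hf => (spec C φ).hW f hf) huW hu1 huφ
      have hw1 : w ∈ S ⊓ centralizer ({(φ : G)} : Set G) := ⟨W_mem C hw, (hmem _).mpr hwφ⟩
      have h1 : (w⁻¹ * r) * E.t = E.t * (w⁻¹ * r) := by
        have h2 : r * E.t * r⁻¹ = w * E.t * w⁻¹ := by rw [hju, hwt]
        calc (w⁻¹ * r) * E.t = w⁻¹ * (r * E.t * r⁻¹) * r := by group
          _ = w⁻¹ * (w * E.t * w⁻¹) * r := by rw [h2]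
          _ = _ := by group
      have hρR : w⁻¹ * r ∈ R := mul_mem (inv_mem (hSR hw1)) hrR
      have h2 := comm_mem C Q hx hR hRφ' (hSR ht1) (hSR hx1) hρR h1
      have h3 : r = w * (w⁻¹ * r) := by group
      refine ⟨?_, (hmem _).mpr hrφ⟩
      rw [h3]
      exact mul_mem hw1.1 h2
    · exfalso
      rw [h0] at hu
      exact no_fusion C Q hφP hs0 hsφ hrφ hu hju

end phi

/-- THE EXOTIC CONFIGURATION DOES NOT EXIST. -/
theorem false_of_exotic {r : G} (X : Exo E A W S k r) : False := by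
  have h2f : Fact (Nat.Prime 2) := ⟨Nat.prime_two⟩
  have H := C.std
  obtain ⟨φ, s, j, Q, hφP, hs0, hsφ⟩ := exists_phi C X
  obtain ⟨d, hx⟩ := exists_x H Q
  obtain ⟨f, hf, hfφ, hfz⟩ := exists_f C Q (fun f hf => (spec C φ).hW f hf)
  obtain ⟨y, hyA, hyφ, hyo, hzy, hCy, hC⟩ := exists_y H Q hx
  set K := centralizer ({(φ : G)} : Set G) with hK
  have hmem : ∀ g, g ∈ K ↔ (φ : G) * g * (φ : G)⁻¹ = g := by
    intro g
    rw [hK, mem_centralizer_singleton_iff, mul_inv_eq_iff_eq_mul, eq_comm (a := (φ : G) * g)]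
  have hφt : (φ : G) * E.t * (φ : G)⁻¹ = E.t := by rw [Q.comm, mul_inv_cancel_right]
  have hS2 : IsPGroup 2 S := by
    rintro ⟨v, hv⟩
    have h4 : v ^ 2 ^ (k + 1) = 1 := by
      have h42 : ∃ l, 2 ^ (k + 1) = 4 * l := by
        obtain ⟨l, hl⟩ : ∃ l, k = l + 1 := ⟨k - 1, by have := C.hk; omega⟩
        exact ⟨2 ^ l, by rw [hl]; ring⟩
      obtain ⟨l, hl⟩ := h42
      rcases (mem_S_iff C).mp hv with ⟨a, g, hg, rfl⟩ | ⟨a, u, hu, rfl⟩
      · rw [(show Commute (E.p a 0) g from (C.W_p g hg a 0).symm).mul_pow, C.W_exp g hg, mul_one, hl,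
          pow_mul]
        have : E.p a 0 ^ 4 = 1 := Pq_four (p_mem_Pq a 0)
        rw [this, one_pow]
      · rw [hl, pow_mul, t_mul_four C hu, one_pow]
    exact ⟨k + 1, Subtype.ext h4⟩
  obtain ⟨T, hT⟩ : ∃ T : Sylow 2 K, (T : Subgroup K).map K.subtype = S ⊓ K :=
    Cfsg.Agent.Blocks.SylowIn.exists_sylow_map_eq_iff.mpr ⟨inf_le_right, hS2.to_le inf_le_left,
      fun R hRK hR hSR => sylow_max C Q hφP hs0 hsφ hx hf hfφ hfz R hRK hR hSR⟩
  have hTmem : ∀ g : K, g ∈ T ↔ (g : G) ∈ S := by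
    intro g
    constructor
    · intro hg
      have : (g : G) ∈ (T : Subgroup K).map K.subtype := ⟨g, hg, rfl⟩
      rw [hT] at this
      exact this.1
    · intro hg
      have : (g : G) ∈ (T : Subgroup K).map K.subtype := by rw [hT]; exact ⟨hg, g.2⟩
      obtain ⟨g', hg', h⟩ := this
      have : g' = g := Subtype.ext h
      rw [← this]; exact hg'
  have hy5 : y ^ 5 = 1 := by rw [← hyo]; exact pow_orderOf_eq_one y
  have hy1 : y ≠ 1 := by
    rintro rfl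
    rw [orderOf_one] at hyo
    norm_num at hyo
  have hzp : ∀ g : K, (g : G) ∈ zpowers y → g ∈ zpowers (⟨y, (hmem y).mpr hyφ⟩ : K) := by
    intro g hg
    obtain ⟨n, hn⟩ := mem_zpowers_iff.mp hg
    exact mem_zpowers_iff.mpr ⟨n, Subtype.ext (by push_cast; exact hn)⟩
  refine Cfsg.Agent.StdSz.ExoticGroup.exotic_false (G := K) T ⟨E.t, (hmem _).mpr hφt⟩
    ⟨E.p 1 d, (hmem _).mpr hx⟩ ⟨f, (hmem _).mpr hfφ⟩ ⟨y, (hmem _).mpr hyφ⟩ k C.hk
    ((hTmem _).mpr (t_mem C)) ((hTmem _).mpr (U_mem C (D_p C 1 d))) ((hTmem _).mpr (W_mem C hf))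
    ?_ ?_ ?_ ?_ ?_ ?_ ?_ ?_ ?_ ?_ ?_ ?_ ?_
  · intro v hv
    obtain ⟨a, b, c, h⟩ := mem_S₁ C Q hφP hx hf hfφ hfz ((hTmem v).mp hv) ((hmem _).mp v.2)
    exact ⟨a, b, c, Subtype.ext (by push_cast; exact h)⟩
  · exact Subtype.ext E.t_sq
  · exact Subtype.ext (E.t_p 1 d)
  · exact Subtype.ext (C.W_p f hf 1 d).symm
  · refine Subtype.ext ?_
    push_cast
    rw [hfz, E.p_sq, one_pow]
  · refine Subtype.ext ?_
    push_cast
    exact C.W_t f hf
  · refine Subtype.ext ?_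
    push_cast
    rw [hfz, E.z_self]
  · intro h
    exact hy1 (congrArg Subtype.val h)
  · exact Subtype.ext (by push_cast; exact hy5)
  · exact Subtype.ext (H.comm_t y hyA).symm
  · refine Subtype.ext ?_
    push_cast
    rw [hfz]
    exact hzy
  · intro g hg
    apply hzp
    push_cast
    exact hCy g (congrArg Subtype.val hg).symm ((hmem _).mp g.2)
  · intro g hg
    apply hzp
    push_cast
    rw [hfz]
    exact hC g (congrArg Subtype.val hg).symm ((hmem _).mp g.2)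

end Cfsg.Agent.StdSz.ExoticMain
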