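import Cfsg.Agent.StdSz.LevelOne

/-!
# Coordinates on `Q`

`crd : Q → V3 F`, `crd g = (e, a, u)`, is a torus-equivariant homomorphism, surjective, with
kernel `Z`, and there are constants `γ`, `δ` with `g * g = p 0 (Sq m γ δ (crd g))` and
`g * k = p 0 (B m δ (crd g) (crd k)) * (k * g)`.
-/

set_option autoImplicit false
set_option linter.unusedSectionVars false
set_option linter.style.haveILetI false

namespace Cfsg.Agent.StdSz.Coord

open Cfsg.Agent.StdSz.EquivMaps Cfsg.Agent.StdSz.SzMaps Cfsg.Agent.StdSz.FormAlg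
open Cfsg.Agent.StdSz.FixT Cfsg.Agent.StdSz.LevelOne

variable {G : Type*} [Group G] {F : Type*} [Field F] [Fintype F] [CharP F 2] {m : ℕ}
variable (P : Pre G F m)

/-- the subgroup `Z` inside `Q`. -/
def Zs : Subgroup P.Q where
  carrier := {g | ∃ b, (g : G) = P.p 0 b}
  one_mem' := ⟨0, by rw [P.p_zero]; rfl⟩
  mul_mem' := by
    rintro a b ⟨x, hx⟩ ⟨y, hy⟩
    exact ⟨x + y, by rw [Subgroup.coe_mul, hx, hy, P.z_mul]⟩
  inv_mem' := by
    rintro a ⟨x, hx⟩
    exact ⟨x, by rw [Subgroup.coe_inv, hx, P.z_inv]⟩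

theorem mem_Zs {g : P.Q} : g ∈ Zs P ↔ ∃ b, (g : G) = P.p 0 b := Iff.rfl

instance Zs_normal : (Zs P).Normal := ⟨by
  rintro n ⟨b, hb⟩ g
  refine ⟨b, ?_⟩
  rw [Subgroup.coe_mul, Subgroup.coe_mul, hb, Subgroup.coe_inv, P.Q_Z g g.2, mul_assoc,
    mul_inv_cancel, mul_one]⟩

theorem quot_sq (x : P.Q ⧸ Zs P) : x * x = 1 := by
  obtain ⟨g, rfl⟩ := QuotientGroup.mk_surjective x
  rw [← QuotientGroup.mk_mul, QuotientGroup.eq_one_iff]
  exact ⟨_, P.sq_spec g.2⟩

theorem quot_comm (x y : P.Q ⧸ Zs P) : x * y = y * x := by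
  have h1 := quot_sq P x
  have h2 := quot_sq P y
  have h3 := quot_sq P (x * y)
  calc x * y = x * 1 * y := by rw [mul_one]
    _ = x * (x * y * (x * y)) * y := by rw [h3]
    _ = (x * x) * (y * x) * (y * y) := by simp only [mul_assoc]
    _ = y * x := by rw [h1, h2, one_mul, mul_one]

theorem exists_retraction : ∃ (e0 : G → ZMod 2) (a0 : G → F),
    (∀ g ∈ P.Q, ∀ k ∈ P.Q, e0 (g * k) = e0 g + e0 k) ∧
    (∀ g ∈ P.Q, ∀ k ∈ P.Q, a0 (g * k) = a0 g + a0 k) ∧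
    e0 P.t = 1 ∧ a0 P.t = 0 ∧ (∀ a b, e0 (P.p a b) = 0) ∧ ∀ a b, a0 (P.p a b) = a := by
  classical
  letI : Algebra (ZMod 2) F := ZMod.algebra F 2
  letI cg : CommGroup (P.Q ⧸ Zs P) :=
    { (inferInstance : Group (P.Q ⧸ Zs P)) with mul_comm := quot_comm P }
  letI : Module (ZMod 2) (Additive (P.Q ⧸ Zs P)) := AddCommGroup.zmodModule (n := 2) (fun x => by
    rw [two_nsmul]; exact quot_sq P x)
  let te : ZMod 2 → P.Q := fun e => if e = 0 then 1 else ⟨P.t, P.Q_t⟩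
  let tau : P.Q := ⟨P.t, P.Q_t⟩
  have htau : tau * tau = 1 := Subtype.ext P.t_sq
  let pp : F → P.Q := fun a => ⟨P.p a 0, P.Q_p a 0⟩
  have te0 : te 0 = 1 := if_pos rfl
  have te1 : te 1 = tau := if_neg (by decide)
  let mk : P.Q → P.Q ⧸ Zs P := QuotientGroup.mk
  have hmk : ∀ x y, mk (x * y) = mk x * mk y := fun x y => rfl
  have hte : ∀ e e', mk (te (e + e')) = mk (te e) * mk (te e') := by
    intro e e'
    rcases zmod_cases e with rfl | rfl <;> rcases zmod_cases e' with rfl | rfl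
    · rw [zero_add, te0]; rw [← hmk, one_mul]
    · rw [zero_add, te0, ← hmk, one_mul]
    · rw [add_zero, te0, ← hmk, mul_one]
    · have h2 : (1 : ZMod 2) + 1 = 0 := by decide
      rw [h2, te0, te1, ← hmk, htau]
  have hpp : ∀ a b, mk (pp (a + b)) = mk (pp a) * mk (pp b) := by
    intro a b
    rw [← hmk]
    apply (QuotientGroup.eq (s := Zs P)).mpr
    have h1 : ((pp a * pp b : P.Q) : G) = P.p 0 (a ^ (2 ^ (m + 1)) * b) * P.p (a + b) 0 := by
      show P.p a 0 * P.p b 0 = _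
      rw [P.p_mul, P.z_mul_p, add_zero]
    refine ⟨a ^ (2 ^ (m + 1)) * b, ?_⟩
    show (P.p (a + b) 0)⁻¹ * ((pp a * pp b : P.Q) : G) = _
    rw [h1, ← P.Q_Z _ (P.Q_p _ _), ← mul_assoc, inv_mul_cancel, one_mul]
  let ι : ZMod 2 × F →+ Additive (P.Q ⧸ Zs P) := AddMonoidHom.mk'
    (fun x => Additive.ofMul (mk (te x.1) * mk (pp x.2))) (by
      intro x y
      show Additive.ofMul (mk (te (x.1 + y.1)) * mk (pp (x.2 + y.2))) =
        Additive.ofMul ((mk (te x.1) * mk (pp x.2)) * (mk (te y.1) * mk (pp y.2)))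
      rw [hte, hpp]
      congr 1
      rw [mul_assoc, mul_assoc, ← mul_assoc (mk (te y.1)), ← mul_assoc (mk (pp x.2)),
        quot_comm P (mk (te y.1))])
  let ιl : ZMod 2 × F →ₗ[ZMod 2] Additive (P.Q ⧸ Zs P) := ι.toZModLinearMap 2
  have hinj : LinearMap.ker ιl = ⊥ := by
    rw [LinearMap.ker_eq_bot']
    rintro ⟨e, a⟩ h
    have h1 : mk (te e) * mk (pp a) = 1 := h
    rw [← hmk] at h1
    have h2 : te e * pp a ∈ Zs P := (QuotientGroup.eq_one_iff (N := Zs P) _).mp h1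
    obtain ⟨b, hb⟩ := h2
    rcases zmod_cases e with rfl | rfl
    · rw [te0, one_mul] at hb
      have : P.p a 0 = P.p 0 b := hb
      rw [(P.p_inj _ _ _ _ this).1]
      rfl
    · rw [te1] at hb
      have : P.t * P.p a 0 = P.p 0 b := hb
      rw [P.t_p] at this
      exact absurd this (P.pt_ne _ _ _ _)
  obtain ⟨r, hr⟩ := LinearMap.exists_leftInverse_of_injective ιl hinj
  have hr' : ∀ x, r (ιl x) = x := fun x => LinearMap.congr_fun hr x
  let R : G → ZMod 2 × F := fun g => if h : g ∈ P.Q then r (Additive.ofMul (mk ⟨g, h⟩)) else 0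
  have hR : ∀ g (h : g ∈ P.Q), R g = r (Additive.ofMul (mk ⟨g, h⟩)) := fun g h => dif_pos h
  have hRmul : ∀ g ∈ P.Q, ∀ k ∈ P.Q, R (g * k) = R g + R k := by
    intro g hg k hk
    rw [hR g hg, hR k hk, hR (g * k) (mul_mem hg hk), ← map_add]
    rfl
  have hRt : R P.t = (1, 0) := by
    rw [hR _ P.Q_t, ← hr' (1, 0)]
    congr 1
    show Additive.ofMul (mk tau) = Additive.ofMul (mk (te 1) * mk (pp 0))
    rw [te1, ← hmk]
    have : pp 0 = 1 := Subtype.ext P.p_zero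
    rw [this, mul_one]
  have hRp : ∀ a b, R (P.p a b) = (0, a) := by
    intro a b
    rw [hR _ (P.Q_p a b), ← hr' (0, a)]
    congr 1
    show Additive.ofMul (mk ⟨P.p a b, P.Q_p a b⟩) = Additive.ofMul (mk (te 0) * mk (pp a))
    rw [te0, ← hmk, one_mul]
    congr 1
    apply (QuotientGroup.eq (s := Zs P)).mpr
    refine ⟨b, ?_⟩
    show (P.p a b)⁻¹ * P.p a 0 = _
    rw [inv_mul_eq_iff_eq_mul, P.p_mul_z, FormAlg.add_self]
  refine ⟨fun g => (R g).1, fun g => (R g).2, ?_, ?_, ?_, ?_, ?_, ?_⟩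
  · intro g hg k hk
    show (R (g * k)).1 = _
    rw [hRmul g hg k hk]; rfl
  · intro g hg k hk
    show (R (g * k)).2 = _
    rw [hRmul g hg k hk]; rfl
  · show (R P.t).1 = 1
    rw [hRt]
  · show (R P.t).2 = 0
    rw [hRt]
  · intro a b
    show (R (P.p a b)).1 = 0
    rw [hRp]
  · intro a b
    show (R (P.p a b)).2 = a
    rw [hRp]

/-- conjugation by the torus. -/
def cj (l : Fˣ) (g : G) : G := P.h l * g * (P.h l)⁻¹

theorem cj_mem (l : Fˣ) {g : G} (hg : g ∈ P.Q) : cj P l g ∈ P.Q := P.Q_h l g hg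

theorem cj_mul (l : Fˣ) (g k : G) : cj P l (g * k) = cj P l g * cj P l k := by
  unfold cj; group

theorem cj_cj (l k : Fˣ) {g : G} (hg : g ∈ P.Q) : cj P l (cj P k g) = cj P (l * k) g :=
  (P.h_mul l k g hg).symm

theorem cj_p (l : Fˣ) (a b : F) :
    cj P l (P.p a b) = P.p (l * a) ((l : F) ^ (1 + 2 ^ (m + 1)) * b) := P.h_conj l a b

theorem cj_t (l : Fˣ) : cj P l P.t = P.t := by
  unfold cj; rw [← P.t_h, mul_assoc, mul_inv_cancel, mul_one]

theorem u_cj (l : Fˣ) {g : G} (hg : g ∈ P.Q) :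
    P.u (cj P l g) = (l : F) ^ (1 + 2 ^ (m + 1)) * P.u g := by
  apply P.u_eq (cj_mem P l hg)
  have h1 : cj P l g * P.t * (cj P l g)⁻¹ = cj P l (g * ((P.h l)⁻¹ * P.t * P.h l) * g⁻¹) := by
    unfold cj; group
  have h2 : (P.h l)⁻¹ * P.t * P.h l = P.t := by
    rw [mul_assoc, P.t_h, ← mul_assoc, inv_mul_cancel, one_mul]
  rw [h1, h2, P.u_spec hg, cj_mul, cj_t, cj_p, mul_zero]

theorem sq_cj (l : Fˣ) {g : G} (hg : g ∈ P.Q) :
    P.sq (cj P l g) = (l : F) ^ (1 + 2 ^ (m + 1)) * P.sq g := by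
  apply P.sq_eq (cj_mem P l hg)
  rw [← cj_mul, P.sq_spec hg, cj_p, mul_zero]

theorem cm_cj (l : Fˣ) {g k : G} (hg : g ∈ P.Q) (hk : k ∈ P.Q) :
    P.cm (cj P l g) (cj P l k) = (l : F) ^ (1 + 2 ^ (m + 1)) * P.cm g k := by
  unfold Pre.cm
  rw [← cj_mul, sq_cj P l (mul_mem hg hk), sq_cj P l hg, sq_cj P l hk]
  ring

theorem card_units_odd (hF : Fintype.card F = 2 ^ (2 * m + 1)) [DecidableEq F] :
    ((Fintype.card Fˣ : ℕ) : ZMod 2) = 1 ∧ ((Fintype.card Fˣ : ℕ) : F) = 1 := by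
  have h1 : Fintype.card Fˣ = Fintype.card F - 1 := Fintype.card_units F
  rw [hF] at h1
  obtain ⟨k, hk⟩ : ∃ k, Fintype.card Fˣ = 2 * k + 1 := by
    refine ⟨2 ^ (2 * m) - 1, ?_⟩
    rw [h1, pow_succ]
    have : 1 ≤ 2 ^ (2 * m) := Nat.one_le_two_pow
    omega
  rw [hk]
  constructor
  · push_cast
    have : (2 : ZMod 2) = 0 := by decide
    rw [this, zero_mul, zero_add]
  · push_cast
    rw [FormAlg.two_eq_zero, zero_mul, zero_add]

theorem exists_coords : ∃ (e : G → ZMod 2) (a : G → F),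
    (∀ g ∈ P.Q, ∀ k ∈ P.Q, e (g * k) = e g + e k) ∧
    (∀ g ∈ P.Q, ∀ k ∈ P.Q, a (g * k) = a g + a k) ∧
    e P.t = 1 ∧ a P.t = 0 ∧ (∀ x y, e (P.p x y) = 0) ∧ (∀ x y, a (P.p x y) = x) ∧
    (∀ l, ∀ g ∈ P.Q, e (cj P l g) = e g) ∧ ∀ (l : Fˣ), ∀ g ∈ P.Q, a (cj P l g) = l * a g := by
  classical
  obtain ⟨e0, a0, h1, h2, h3, h4, h5, h6⟩ := exists_retraction P
  obtain ⟨o1, o2⟩ := card_units_odd P.hF
  refine ⟨fun g => ∑ l : Fˣ, e0 (cj P l g), fun g => ∑ l : Fˣ, ((l⁻¹ : Fˣ) : F) * a0 (cj P l g),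
    ?_, ?_, ?_, ?_, ?_, ?_, ?_, ?_⟩
  · intro g hg k hk
    show ∑ l : Fˣ, e0 (cj P l (g * k)) = (∑ l : Fˣ, e0 (cj P l g)) + ∑ l : Fˣ, e0 (cj P l k)
    rw [← Finset.sum_add_distrib]
    refine Finset.sum_congr rfl fun l _ => ?_
    rw [cj_mul, h1 _ (cj_mem P l hg) _ (cj_mem P l hk)]
  · intro g hg k hk
    show ∑ l : Fˣ, ((l⁻¹ : Fˣ) : F) * a0 (cj P l (g * k)) =
      (∑ l : Fˣ, ((l⁻¹ : Fˣ) : F) * a0 (cj P l g)) + ∑ l : Fˣ, ((l⁻¹ : Fˣ) : F) * a0 (cj P l k)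
    rw [← Finset.sum_add_distrib]
    refine Finset.sum_congr rfl fun l _ => ?_
    rw [cj_mul, h2 _ (cj_mem P l hg) _ (cj_mem P l hk), mul_add]
  · show ∑ l : Fˣ, e0 (cj P l P.t) = 1
    have : ∀ l : Fˣ, e0 (cj P l P.t) = 1 := fun l => by rw [cj_t, h3]
    rw [Finset.sum_congr rfl (fun l _ => this l), Finset.sum_const, Finset.card_univ,
      nsmul_eq_mul, mul_one, o1]
  · show ∑ l : Fˣ, ((l⁻¹ : Fˣ) : F) * a0 (cj P l P.t) = 0
    have : ∀ l : Fˣ, ((l⁻¹ : Fˣ) : F) * a0 (cj P l P.t) = 0 := fun l => by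
      rw [cj_t, h4, mul_zero]
    rw [Finset.sum_congr rfl (fun l _ => this l), Finset.sum_const_zero]
  · intro x y
    show ∑ l : Fˣ, e0 (cj P l (P.p x y)) = 0
    have : ∀ l : Fˣ, e0 (cj P l (P.p x y)) = 0 := fun l => by rw [cj_p, h5]
    rw [Finset.sum_congr rfl (fun l _ => this l), Finset.sum_const_zero]
  · intro x y
    show ∑ l : Fˣ, ((l⁻¹ : Fˣ) : F) * a0 (cj P l (P.p x y)) = x
    have : ∀ l : Fˣ, ((l⁻¹ : Fˣ) : F) * a0 (cj P l (P.p x y)) = x := fun l => by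
      rw [cj_p, h6, ← mul_assoc, Units.inv_mul, one_mul]
    rw [Finset.sum_congr rfl (fun l _ => this l), Finset.sum_const, Finset.card_univ,
      nsmul_eq_mul, o2, one_mul]
  · intro k g hg
    show ∑ l : Fˣ, e0 (cj P l (cj P k g)) = ∑ l : Fˣ, e0 (cj P l g)
    refine Fintype.sum_equiv (Equiv.mulRight k) _ _ fun l => ?_
    rw [cj_cj P l k hg]; rfl
  · intro k g hg
    show ∑ l : Fˣ, ((l⁻¹ : Fˣ) : F) * a0 (cj P l (cj P k g)) =
      k * ∑ l : Fˣ, ((l⁻¹ : Fˣ) : F) * a0 (cj P l g)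
    rw [Finset.mul_sum]
    refine Fintype.sum_equiv (Equiv.mulRight k) _ _ fun l => ?_
    rw [cj_cj P l k hg]
    show ((l⁻¹ : Fˣ) : F) * a0 (cj P (l * k) g) =
      k * ((((l * k)⁻¹ : Fˣ) : F) * a0 (cj P (l * k) g))
    rw [← mul_assoc, ← Units.val_mul]
    have : k * (l * k)⁻¹ = l⁻¹ := by rw [mul_inv]; rw [mul_comm l⁻¹, mul_inv_cancel_left]
    rw [this]

/-- the first coordinate. -/
noncomputable def eC : G → ZMod 2 := (exists_coords P).choose

/-- the second coordinate. -/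
noncomputable def aC : G → F := (exists_coords P).choose_spec.choose

theorem coords_spec :
    (∀ g ∈ P.Q, ∀ k ∈ P.Q, eC P (g * k) = eC P g + eC P k) ∧
    (∀ g ∈ P.Q, ∀ k ∈ P.Q, aC P (g * k) = aC P g + aC P k) ∧
    eC P P.t = 1 ∧ aC P P.t = 0 ∧ (∀ x y, eC P (P.p x y) = 0) ∧ (∀ x y, aC P (P.p x y) = x) ∧
    (∀ l, ∀ g ∈ P.Q, eC P (cj P l g) = eC P g) ∧
    ∀ (l : Fˣ), ∀ g ∈ P.Q, aC P (cj P l g) = l * aC P g :=
  (exists_coords P).choose_spec.choose_spec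

/-- the coordinates of elements of `Q`. -/
noncomputable def crd (g : G) : V3 F := (eC P g, aC P g, P.u g)

theorem crd_mul {g k : G} (hg : g ∈ P.Q) (hk : k ∈ P.Q) :
    crd P (g * k) = crd P g + crd P k := by
  obtain ⟨h1, h2, -⟩ := coords_spec P
  unfold crd
  rw [h1 g hg k hk, h2 g hg k hk, P.u_mul hg hk]
  rfl

theorem crd_t : crd P P.t = tt := by
  obtain ⟨-, -, h1, h2, -⟩ := coords_spec P
  unfold crd
  rw [h1, h2, P.u_t]
  rfl

theorem crd_p (a b : F) : crd P (P.p a b) = (0, a, 0) := by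
  obtain ⟨-, -, -, -, h1, h2, -⟩ := coords_spec P
  unfold crd
  rw [h1, h2, P.u_p]

theorem crd_cj (l : Fˣ) {g : G} (hg : g ∈ P.Q) :
    crd P (cj P l g) = ((crd P g).1, (l : F) * (crd P g).2.1,
      (l : F) ^ (1 + 2 ^ (m + 1)) * (crd P g).2.2) := by
  obtain ⟨-, -, -, -, -, -, h1, h2⟩ := coords_spec P
  unfold crd
  rw [h1 l g hg, h2 l g hg, u_cj P l hg]

theorem crd_u (g : G) : (crd P g).2.2 = P.u g := rfl

theorem crd_one : crd P 1 = 0 := by
  rw [← P.p_zero, crd_p]; rfl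

theorem crd_inv {g : G} (hg : g ∈ P.Q) : crd P g⁻¹ = crd P g := by
  have h := crd_mul P (inv_mem hg) hg
  rw [inv_mul_cancel, crd_one] at h
  have h2 : ∀ x y : V3 F, 0 = x + y → x = y := by
    intro x y hxy
    have : x + y + y = y := by rw [← hxy, zero_add]
    rw [add_assoc] at this
    have e : y + y = 0 := by
      ext
      · show y.1 + y.1 = 0
        rcases zmod_cases y.1 with h | h <;> rw [h]
        · rfl
        · decide
      · exact FormAlg.add_self _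
      · exact FormAlg.add_self _
    rw [e, add_zero] at this
    exact this
  exact h2 _ _ h

/-- the kernel of the coordinates. -/
theorem eq_z_of_crd {g : G} (hg : g ∈ P.Q) (h : crd P g = 0) : ∃ b, g = P.p 0 b := by
  have hu : P.u g = 0 := by rw [← crd_u, h]; rfl
  obtain ⟨a, b, h1 | h1⟩ := P.mem_T_of_u hg hu
  · rw [h1, crd_p] at h
    have ha : a = 0 := congrArg (fun z => z.2.1) h
    subst ha
    exact ⟨b, h1⟩
  · rw [h1, crd_mul P (P.Q_p a b) P.Q_t, crd_p, crd_t] at h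
    have h2 : (0 : ZMod 2) + 1 = 0 := congrArg (fun z => z.1) h
    exact absurd h2 (by decide)

theorem exists_z_mul {g k : G} (hg : g ∈ P.Q) (hk : k ∈ P.Q) (h : crd P g = crd P k) :
    ∃ b, g = P.p 0 b * k := by
  obtain ⟨b, hb⟩ := eq_z_of_crd P (mul_mem hg (inv_mem hk)) (by
    rw [crd_mul P hg (inv_mem hk), crd_inv P hk, h]
    ext
    · show (crd P k).1 + (crd P k).1 = 0
      rcases zmod_cases (crd P k).1 with h | h <;> rw [h]
      · rfl
      · decide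
    · exact FormAlg.add_self _
    · exact FormAlg.add_self _)
  exact ⟨b, mul_inv_eq_iff_eq_mul.mp hb⟩

theorem crd_surj (v : V3 F) : ∃ g ∈ P.Q, crd P g = v := by
  obtain ⟨e, a, u⟩ := v
  obtain ⟨g, hg, hu⟩ := P.Q_surj u
  have hu' : P.u g = u := P.u_eq hg hu
  have key : ∃ k ∈ P.Q, crd P k = (e + (crd P g).1, a + (crd P g).2.1, 0) := by
    rcases zmod_cases (e + (crd P g).1) with h | h
    · exact ⟨_, P.Q_p (a + (crd P g).2.1) 0, by rw [crd_p, h]⟩
    · refine ⟨_, mul_mem (P.Q_p (a + (crd P g).2.1) 0) P.Q_t, ?_⟩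
      rw [crd_mul P (P.Q_p _ _) P.Q_t, crd_p, crd_t, h]
      unfold tt
      ext
      · show (0 : ZMod 2) + 1 = 1; decide
      · exact add_zero _
      · exact add_zero _
  obtain ⟨k, hk, hk2⟩ := key
  refine ⟨k * g, mul_mem hk hg, ?_⟩
  rw [crd_mul P hk hg, hk2]
  have hz : ∀ x : ZMod 2, x + x = 0 := by decide
  ext
  · show e + (crd P g).1 + (crd P g).1 = e
    rw [add_assoc, hz, add_zero]
  · show a + (crd P g).2.1 + (crd P g).2.1 = a
    rw [add_assoc, FormAlg.add_self, add_zero]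
  · show 0 + P.u g = u
    rw [zero_add, hu']

/-! ### The constants -/

theorem sq_z_mul (b : F) {g : G} (hg : g ∈ P.Q) : P.sq (P.p 0 b * g) = P.sq g := by
  apply P.sq_eq (mul_mem (P.Q_p 0 b) hg)
  have : P.p 0 b * g * (P.p 0 b * g) = P.p 0 b * (g * P.p 0 b) * g := by simp only [mul_assoc]
  rw [this, P.Q_Z g hg]
  have : P.p 0 b * (P.p 0 b * g) * g = (P.p 0 b * P.p 0 b) * (g * g) := by simp only [mul_assoc]
  rw [this, P.z_self, one_mul, P.sq_spec hg]

theorem sq_congr {g k : G} (hg : g ∈ P.Q) (hk : k ∈ P.Q) (h : crd P g = crd P k) :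
    P.sq g = P.sq k := by
  obtain ⟨b, hb⟩ := exists_z_mul P hg hk h
  rw [hb, sq_z_mul P b hk]

theorem cm_congr {g k g' k' : G} (hg : g ∈ P.Q) (hk : k ∈ P.Q) (hg' : g' ∈ P.Q)
    (hk' : k' ∈ P.Q) (h : crd P g = crd P g') (h' : crd P k = crd P k') :
    P.cm g k = P.cm g' k' := by
  unfold Pre.cm
  rw [sq_congr P hg hg' h, sq_congr P hk hk' h', sq_congr P (mul_mem hg hk) (mul_mem hg' hk')
    (by rw [crd_mul P hg hk, crd_mul P hg' hk', h, h'])]

/-- an element with given coordinates. -/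
noncomputable def el (v : V3 F) : G := (crd_surj P v).choose

theorem el_mem (v : V3 F) : el P v ∈ P.Q := (crd_surj P v).choose_spec.1

theorem crd_el (v : V3 F) : crd P (el P v) = v := (crd_surj P v).choose_spec.2

theorem exists_gamma : ∃ γ : F, ∀ u, P.sq (el P (0, 0, u)) = γ * u ∧
    ∀ v, P.cm (el P (0, 0, u)) (el P (0, 0, v)) = 0 := by
  have hm := P.hm
  have hF := P.hF
  -- the equivariance
  have hsc : ∀ l : F, l ≠ 0 → ∃ k : Fˣ, (k : F) ^ (1 + 2 ^ (m + 1)) = l := by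
    intro l hl
    have h1 := norm_surj hF l
    have h2 : l ^ (2 ^ (m + 1) - 1) ≠ 0 := pow_ne_zero _ hl
    exact ⟨Units.mk0 _ h2, h1⟩
  have hcj : ∀ (k : Fˣ) (u : F), crd P (cj P k (el P (0, 0, u))) =
      crd P (el P (0, 0, (k : F) ^ (1 + 2 ^ (m + 1)) * u)) := by
    intro k u
    rw [crd_cj P k (el_mem P _), crd_el, crd_el]
    simp
  have hadd : ∀ u v : F, crd P (el P (0, 0, u) * el P (0, 0, v)) =
      crd P (el P (0, 0, u + v)) := by
    intro u v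
    rw [crd_mul P (el_mem P _) (el_mem P _), crd_el, crd_el, crd_el]
    ext <;> simp
  let f : F → F → F := fun u v => P.cm (el P (0, 0, u)) (el P (0, 0, v))
  have hf0 : ∀ u v, f u v = 0 := by
    apply alternating_same (by omega) hF f
    · intro x x' y
      show P.cm _ _ = P.cm _ _ + P.cm _ _
      rw [← P.cm_mul_left (el_mem P _) (el_mem P _) (el_mem P _)]
      exact cm_congr P (el_mem P _) (el_mem P _) (mul_mem (el_mem P _) (el_mem P _))
        (el_mem P _) (hadd _ _).symm rfl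
    · intro x y y'
      show P.cm _ _ = P.cm _ _ + P.cm _ _
      rw [← P.cm_mul_right (el_mem P _) (el_mem P _) (el_mem P _)]
      exact cm_congr P (el_mem P _) (el_mem P _) (el_mem P _)
        (mul_mem (el_mem P _) (el_mem P _)) rfl (hadd _ _).symm
    · intro l x y hl
      obtain ⟨k, hk⟩ := hsc l hl
      show P.cm _ _ = _ * P.cm _ _
      rw [← hk, ← cm_cj P k (el_mem P _) (el_mem P _)]
      exact cm_congr P (el_mem P _) (el_mem P _) (cj_mem P k (el_mem P _))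
        (cj_mem P k (el_mem P _)) (hcj k x).symm (hcj k y).symm
    · intro x
      apply P.cm_eq (el_mem P _) (el_mem P _)
      rw [P.p_zero, one_mul]
  have hsq_add : ∀ u v, P.sq (el P (0, 0, u + v)) = P.sq (el P (0, 0, u)) +
      P.sq (el P (0, 0, v)) := by
    intro u v
    have h1 := hf0 u v
    rw [sq_congr P (el_mem P _) (mul_mem (el_mem P _) (el_mem P _)) (hadd u v).symm,
      P.sq_mul]
    have h2 : P.cm (el P (0, 0, u)) (el P (0, 0, v)) = 0 := h1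
    rw [h2, add_zero]
  refine ⟨P.sq (el P (0, 0, 1)), fun u => ⟨?_, fun v => hf0 u v⟩⟩
  rcases eq_or_ne u 0 with rfl | hu
  · rw [mul_zero]
    have h1 := hsq_add 0 0
    rw [add_zero, FormAlg.add_self] at h1
    exact h1
  · obtain ⟨k, hk⟩ := hsc u hu
    have h1 := hcj k 1
    rw [mul_one, hk] at h1
    rw [← sq_congr P (cj_mem P k (el_mem P _)) (el_mem P _) h1, sq_cj P k (el_mem P _), hk,
      mul_comm]

theorem exists_delta : ∃ δ : F, ∀ a u, P.cm (P.p a 0) (el P (0, 0, u)) = δ * (a * u) ^ (2 ^ m) := by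
  have hm := P.hm
  have hF := P.hF
  apply pairing_122 hm hF (fun a u => P.cm (P.p a 0) (el P (0, 0, u)))
  · intro a a' u
    show P.cm _ _ = P.cm _ _ + P.cm _ _
    rw [← P.cm_mul_left (P.Q_p _ _) (P.Q_p _ _) (el_mem P _)]
    refine cm_congr P (P.Q_p _ _) (el_mem P _) (mul_mem (P.Q_p _ _) (P.Q_p _ _)) (el_mem P _)
      ?_ rfl
    rw [crd_mul P (P.Q_p _ _) (P.Q_p _ _), crd_p, crd_p, crd_p]
    ext <;> simp
  · intro a u u'
    show P.cm _ _ = P.cm _ _ + P.cm _ _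
    rw [← P.cm_mul_right (P.Q_p _ _) (el_mem P _) (el_mem P _)]
    refine cm_congr P (P.Q_p _ _) (el_mem P _) (P.Q_p _ _) (mul_mem (el_mem P _) (el_mem P _))
      rfl ?_
    rw [crd_mul P (el_mem P _) (el_mem P _), crd_el, crd_el, crd_el]
    ext <;> simp
  · intro l a u hl
    show P.cm _ _ = _ * P.cm _ _
    have h1 := cm_cj P (Units.mk0 l hl) (P.Q_p a 0) (el_mem P (0, 0, u))
    rw [Units.val_mk0] at h1
    rw [← h1]
    refine cm_congr P (P.Q_p _ _) (el_mem P _) (cj_mem P _ (P.Q_p _ _)) (cj_mem P _ (el_mem P _))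
      ?_ ?_
    · rw [cj_p, crd_p, crd_p, Units.val_mk0]
    · rw [crd_cj P _ (el_mem P _), crd_el, crd_el, Units.val_mk0]
      simp

/-- the constant `γ`. -/
noncomputable def gam : F := (exists_gamma P).choose

/-- the constant `δ`. -/
noncomputable def del : F := (exists_delta P).choose

theorem sq_el (u : F) : P.sq (el P (0, 0, u)) = gam P * u :=
  ((exists_gamma P).choose_spec u).1

theorem cm_el_el (u v : F) : P.cm (el P (0, 0, u)) (el P (0, 0, v)) = 0 :=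
  ((exists_gamma P).choose_spec u).2 v

theorem cm_p_el (a u : F) : P.cm (P.p a 0) (el P (0, 0, u)) = del P * (a * u) ^ (2 ^ m) :=
  (exists_delta P).choose_spec a u

theorem cm_t {g : G} (hg : g ∈ P.Q) : P.cm P.t g = P.u g := by
  rw [P.cm_swap P.Q_t hg]
  apply P.cm_eq hg P.Q_t
  rw [← mul_assoc, ← P.u_spec hg]
  group

/-- `t ^ e`. -/
def tp (e : ZMod 2) : G := if e = 0 then 1 else P.t

theorem tp_zero : tp P 0 = 1 := if_pos rfl
theorem tp_one : tp P 1 = P.t := if_neg (by decide)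

theorem tp_mem (e : ZMod 2) : tp P e ∈ P.Q := by
  rcases zmod_cases e with rfl | rfl
  · rw [tp_zero]; exact one_mem _
  · rw [tp_one]; exact P.Q_t

theorem crd_tp (e : ZMod 2) : crd P (tp P e) = (e, 0, 0) := by
  rcases zmod_cases e with rfl | rfl
  · rw [tp_zero, crd_one]; rfl
  · rw [tp_one, crd_t]; rfl

theorem sq_tp (e : ZMod 2) : P.sq (tp P e) = 0 := by
  apply P.sq_eq (tp_mem P e)
  rcases zmod_cases e with rfl | rfl
  · rw [tp_zero, P.p_zero, mul_one]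
  · rw [tp_one, P.t_sq, P.p_zero]

theorem cm_tp (e : ZMod 2) {g : G} (hg : g ∈ P.Q) : P.cm (tp P e) g = cc e * P.u g := by
  rcases zmod_cases e with rfl | rfl
  · rw [tp_zero, cc_zero, zero_mul]
    apply P.cm_eq (one_mem _) hg
    rw [P.p_zero, one_mul, mul_one, one_mul]
  · rw [tp_one, cc_one, one_mul, cm_t P hg]

theorem u_el (v : V3 F) : P.u (el P v) = v.2.2 := by
  rw [← crd_u, crd_el]

/-- squares. -/
theorem sq_crd {g : G} (hg : g ∈ P.Q) : P.sq g = Sq m (gam P) (del P) (crd P g) := by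
  obtain ⟨⟨e, a, u⟩, hv⟩ : ∃ v, crd P g = v := ⟨_, rfl⟩
  have hk : tp P e * (P.p a 0 * el P (0, 0, u)) ∈ P.Q :=
    mul_mem (tp_mem P e) (mul_mem (P.Q_p _ _) (el_mem P _))
  rw [sq_congr P hg hk (by
    rw [hv, crd_mul P (tp_mem P e) (mul_mem (P.Q_p _ _) (el_mem P _)),
      crd_mul P (P.Q_p _ _) (el_mem P _), crd_tp, crd_p, crd_el]
    ext <;> simp)]
  rw [P.sq_mul, P.sq_mul, sq_tp, sq_el, cm_p_el, cm_tp P e (mul_mem (P.Q_p _ _) (el_mem P _)),
    P.u_mul (P.Q_p _ _) (el_mem P _), P.u_p, u_el]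
  have h1 : P.sq (P.p a 0) = a ^ (1 + 2 ^ (m + 1)) := P.sq_eq (P.Q_p _ _) (P.p_sq a 0)
  rw [h1, hv]
  unfold Sq
  rw [mul_comm u a]
  ring

/-- commutators. -/
theorem cm_crd {g k : G} (hg : g ∈ P.Q) (hk : k ∈ P.Q) :
    P.cm g k = B m (del P) (crd P g) (crd P k) := by
  have h1 : P.cm g k = P.sq (g * k) + P.sq g + P.sq k := rfl
  rw [h1, sq_crd P (mul_mem hg hk), sq_crd P hg, sq_crd P hk, crd_mul P hg hk, Sq_add]
  have h2 : ∀ x y z : F, x + y + z + x + y = z := by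
    intro x y z
    have : x + y + z + x + y = (x + x) + (y + y) + z := by ring
    rw [this, FormAlg.add_self, FormAlg.add_self, zero_add, zero_add]
  exact h2 _ _ _

theorem mul_self_crd {g : G} (hg : g ∈ P.Q) :
    g * g = P.p 0 (Sq m (gam P) (del P) (crd P g)) := by
  rw [P.sq_spec hg, sq_crd P hg]

theorem mul_comm_crd {g k : G} (hg : g ∈ P.Q) (hk : k ∈ P.Q) :
    g * k = P.p 0 (B m (del P) (crd P g) (crd P k)) * (k * g) := by
  rw [← cm_crd P hg hk]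
  exact P.cm_spec hg hk

end Cfsg.Agent.StdSz.Coord
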