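import Cfsg.Agent.StdSz.Final
import Cfsg.Agent.StdSz.StdA
import Cfsg.Agent.StdSz.CenterEight
import Cfsg.Agent.StdSz.Tower.LevelTwo
import Cfsg.Agent.StdSz.Tower.Glue
import Cfsg.Agent.StdSz.Tower.End
import Cfsg.Agent.StdSz.Tower.KappaOne

/-!
# The branch `γ = 1`: glue

Credits: tower (helper845), level two (helper176), exotic case (helper176), `Std` (helper471).
-/

set_option autoImplicit false
set_option linter.unusedSectionVars false
set_option linter.style.haveILetI false

namespace Cfsg.Agent.StdSz.OneBranch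

open Cfsg Subgroup Cfsg.Agent.StdSz.OutDef Cfsg.Agent.StdSz.Out Cfsg.Agent.StdSz.FromStd
open Cfsg.Agent.StdSz.EndTower Cfsg.Agent.StdSz.EndClosed Cfsg.Agent.StdSz.LevelOne
open Cfsg.Agent.StdSz.NextLevel Cfsg.Agent.StdSz.Coord Cfsg.Agent.StdSz.FormAlg
open Cfsg.Agent.StdSz.Final Cfsg.Agent.StdSz.Tower

universe u

variable {G : Type u} [Group G] [Finite G] {F : Type*} [Field F] [Fintype F] [CharP F 2] {m : ℕ}
  {A : Subgroup G} {t : G}

/-- in the case `q = 8` the standard subgroup is `Sz(8)`. -/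
theorem center_eq_bot (C : Ctx A t F 1) : center A = ⊥ := by
  have h := C.hF
  exact CenterEight.center_eq_bot_of_rel C.S.std.1.1 C.hZ (by rw [h]; norm_num) C.R

/-- the exotic case does not occur. -/
theorem exotic (D : Data A t F m) (hm : m = 1) (k : ℕ) (L : Lv D.E k 0 1) (hL : Full L) (s : G)
    (a : F) (x : G) (M : Mv L s a x) : a = 0 := by
  subst hm
  exact eq_zero_of_std (StdA.exists_std D.C (center_eq_bot D.C) D.E_t D.E_p) L hL M

/-- **The branch `γ = 1`**. -/
theorem oneBranch (D : Data A t F m) : OneBranch D := by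
  intro hd hg _
  obtain ⟨L, hL, -⟩ := LevelTwo.exists_lvl D.P hd hg D.E D.P_t D.P_p
  rcases tower (E := D.E) (exotic D) _ 2 L rfl (by rw [hL]; exact D.Q_full) with
    ⟨k, δ, μ, L', hmax, hfull⟩ | ⟨L2, N, hk⟩
  · exact Or.inr (L'.towerEnd hmax hfull)
  · exact Or.inl (KappaOne.out_of_kappa_one N hk)

end Cfsg.Agent.StdSz.OneBranch
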