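import Mathlib.FieldTheory.Finite.Basic
import Mathlib.FieldTheory.Finite.Trace
import Mathlib.LinearAlgebra.FreeModule.Finite.Matrix
import Mathlib.FieldTheory.Fixed
import Mathlib.RingTheory.IntegralDomain
import Mathlib.Tactic

/-!
# Equivariant additive and biadditive maps of a finite field of characteristic 2

Linearized polynomials: additive maps `F → F` are uniquely `∑ c i * x ^ 2 ^ i` (`i < n`),
biadditive maps are uniquely `∑ c i j * x ^ 2 ^ i * y ^ 2 ^ j`; torus equivariance kills all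
coefficients but those of the right weight.
-/

set_option autoImplicit false
set_option linter.unusedSectionVars false
set_option linter.style.haveILetI false

namespace Cfsg.Agent.StdSz.EquivMaps

variable {F : Type*} [Field F] [Fintype F]

theorem charP_two {n : ℕ} (hn : Fintype.card F = 2 ^ n) : CharP F 2 := by
  obtain ⟨p, hp⟩ := CharP.exists F
  haveI := hp
  obtain ⟨k, hpp, hk⟩ := FiniteField.card F p
  haveI := Fact.mk hpp
  have h1 : p ∣ 2 ^ n := by
    rw [← hn, hk]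
    exact dvd_pow_self p k.ne_zero
  have h2 : p = 2 := (Nat.prime_dvd_prime_iff_eq hpp Nat.prime_two).mp (hpp.dvd_of_dvd_pow h1)
  exact h2 ▸ hp

/-- a generator of the multiplicative group, with exponents compared modulo `2 ^ n - 1`. -/
theorem exists_gen {n : ℕ} (hn : Fintype.card F = 2 ^ n) :
    ∃ g : F, g ≠ 0 ∧ (∀ a b : ℕ, g ^ a = g ^ b ↔ a ≡ b [MOD 2 ^ n - 1]) ∧
      ∀ x : F, x ≠ 0 → ∃ k : ℕ, x = g ^ k := by
  classical
  obtain ⟨g, hg⟩ := IsCyclic.exists_generator (α := Fˣ)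
  have ho : orderOf g = 2 ^ n - 1 := by
    rw [orderOf_eq_card_of_forall_mem_zpowers hg, Nat.card_eq_fintype_card, Fintype.card_units, hn]
  refine ⟨g, g.ne_zero, fun a b => ?_, fun x hx => ?_⟩
  · rw [← ho, ← pow_eq_pow_iff_modEq]
    constructor
    · intro h
      exact Units.ext (by simpa using h)
    · intro h
      have := congrArg (fun u : Fˣ => (u : F)) h
      simpa using this
  · have := hg (Units.mk0 x hx)
    rw [← mem_powers_iff_mem_zpowers] at this
    obtain ⟨k, hk⟩ := this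
    refine ⟨k, ?_⟩
    have := congrArg (fun u : Fˣ => (u : F)) hk
    simpa using this.symm

theorem two_pow_inj_mod {n i j : ℕ} (hn : 2 ≤ n) (hi : i < n) (hj : j < n)
    (h : 2 ^ i ≡ 2 ^ j [MOD 2 ^ n - 1]) : i = j := by
  have e1 : 2 ^ i < 2 ^ n - 1 := by
    have : 2 ^ i ≤ 2 ^ (n - 1) := Nat.pow_le_pow_right (by norm_num) (by omega)
    have h2 : 2 ^ n = 2 * 2 ^ (n - 1) := by
      rw [← pow_succ']; congr 1; omega
    have h3 : 2 ≤ 2 ^ (n - 1) := by
      calc 2 = 2 ^ 1 := by norm_num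
        _ ≤ 2 ^ (n - 1) := Nat.pow_le_pow_right (by norm_num) (by omega)
    omega
  have e2 : 2 ^ j < 2 ^ n - 1 := by
    have : 2 ^ j ≤ 2 ^ (n - 1) := Nat.pow_le_pow_right (by norm_num) (by omega)
    have h2 : 2 ^ n = 2 * 2 ^ (n - 1) := by
      rw [← pow_succ']; congr 1; omega
    have h3 : 2 ≤ 2 ^ (n - 1) := by
      calc 2 = 2 ^ 1 := by norm_num
        _ ≤ 2 ^ (n - 1) := Nat.pow_le_pow_right (by norm_num) (by omega)
    omega
  have := Nat.ModEq.eq_of_lt_of_lt h e1 e2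
  exact Nat.pow_right_injective le_rfl this

/-- uniqueness of coefficients of linearized polynomials. -/
theorem coeff_unique {n : ℕ} (hn : Fintype.card F = 2 ^ n) (hn2 : 2 ≤ n) (c d : Fin n → F)
    (h : ∀ x : F, ∑ i, c i * x ^ (2 ^ (i : ℕ)) = ∑ i, d i * x ^ (2 ^ (i : ℕ))) : c = d := by
  have hli := linearIndependent_monoidHom F F
  let φ : Fin n → (F →* F) := fun i => powMonoidHom (2 ^ (i : ℕ))
  have hφ : Function.Injective φ := by
    intro i j hij
    obtain ⟨g, -, hg, -⟩ := exists_gen hn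
    have : g ^ (2 ^ (i : ℕ)) = g ^ (2 ^ (j : ℕ)) := by
      have := congrArg (fun f : F →* F => f g) hij
      simpa [φ] using this
    exact Fin.ext (two_pow_inj_mod hn2 i.2 j.2 ((hg _ _).mp this))
  have hli2 : LinearIndependent F (fun i : Fin n => ((φ i : F →* F) : F → F)) :=
    hli.comp φ hφ
  have h0 : ∑ i, (c i - d i) • ((φ i : F →* F) : F → F) = 0 := by
    funext x
    have := h x
    simp only [Finset.sum_apply, Pi.smul_apply, smul_eq_mul, Pi.zero_apply, φ,
      powMonoidHom_apply, sub_mul, Finset.sum_sub_distrib]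
    rw [this, sub_self]
  have h1 := (Fintype.linearIndependent_iff.mp hli2) (fun i => c i - d i) h0
  funext i
  exact sub_eq_zero.mp (h1 i)

/-- additive maps are linearized polynomials. -/
theorem exists_coeff {n : ℕ} (hn : Fintype.card F = 2 ^ n) (hn2 : 2 ≤ n) (f : F → F)
    (hf : ∀ x y, f (x + y) = f x + f y) :
    ∃ c : Fin n → F, ∀ x, f x = ∑ i, c i * x ^ (2 ^ (i : ℕ)) := by
  haveI := charP_two hn
  haveI : Algebra (ZMod 2) F := ZMod.algebra F 2
  haveI : Fact (Nat.Prime 2) := ⟨Nat.prime_two⟩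
  have hfr : Module.finrank (ZMod 2) F = n := by
    have h1 : Fintype.card F = Fintype.card (ZMod 2) ^ Module.finrank (ZMod 2) F :=
      Module.card_eq_pow_finrank
    rw [hn, ZMod.card] at h1
    exact (Nat.pow_right_injective le_rfl h1).symm
  have hM : Module.finrank F (F →ₗ[ZMod 2] F) = n := by
    rw [Module.finrank_linearMap_self, hfr]
  have key : ∀ g : F → F, (∀ x y, g (x + y) = g x + g y) → ∃ l : F →ₗ[ZMod 2] F, ∀ x, l x = g x := by
    intro g hg
    let g' : F →+ F := AddMonoidHom.mk' g hg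
    exact ⟨g'.toZModLinearMap 2, fun x => rfl⟩
  have hfrob : ∀ i : ℕ, ∀ x y : F, (x + y) ^ (2 ^ i) = x ^ (2 ^ i) + y ^ (2 ^ i) := by
    intro i x y
    exact add_pow_char_pow x y 2 i
  choose L hL using fun i : Fin n => key (fun x => x ^ (2 ^ (i : ℕ))) (hfrob i)
  have hLI : LinearIndependent F L := by
    rw [Fintype.linearIndependent_iff]
    intro g hg
    have h2 : g = fun _ => 0 := by
      apply coeff_unique hn hn2
      intro x
      have := congrArg (fun l : F →ₗ[ZMod 2] F => l x) hg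
      simp only [LinearMap.sum_apply, LinearMap.smul_apply, smul_eq_mul, LinearMap.zero_apply,
        hL] at this
      rw [this]
      simp
    intro i
    rw [h2]
  have hspan : Submodule.span F (Set.range L) = ⊤ := by
    apply hLI.span_eq_top_of_card_eq_finrank'
    rw [hM, Fintype.card_fin]
  obtain ⟨l, hl⟩ := key f hf
  have hmem : l ∈ Submodule.span F (Set.range L) := hspan ▸ Submodule.mem_top
  rw [Submodule.mem_span_range_iff_exists_fun] at hmem
  obtain ⟨c, hc⟩ := hmem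
  refine ⟨c, fun x => ?_⟩
  rw [← hl x, ← hc]
  simp only [LinearMap.sum_apply, LinearMap.smul_apply, smul_eq_mul, hL]

/-- biadditive maps are bilinearized polynomials. -/
theorem exists_coeff₂ {n : ℕ} (hn : Fintype.card F = 2 ^ n) (hn2 : 2 ≤ n) (f : F → F → F)
    (h1 : ∀ x x' y, f (x + x') y = f x y + f x' y)
    (h2 : ∀ x y y', f x (y + y') = f x y + f x y') :
    ∃ c : Fin n → Fin n → F,
      ∀ x y, f x y = ∑ i, ∑ j, c i j * (x ^ (2 ^ (i : ℕ)) * y ^ (2 ^ (j : ℕ))) := by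
  choose C hC using fun y => exists_coeff hn hn2 (fun x => f x y) (fun x x' => h1 x x' y)
  have hadd : ∀ i, ∀ y y', C (y + y') i = C y i + C y' i := by
    intro i y y'
    have : C (y + y') = fun i => C y i + C y' i := by
      apply coeff_unique hn hn2
      intro x
      rw [← hC]
      simp only [add_mul, Finset.sum_add_distrib]
      rw [← hC, ← hC, h2]
    rw [this]
  choose c hc using fun i => exists_coeff hn hn2 (fun y => C y i) (hadd i)
  refine ⟨c, fun x y => ?_⟩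
  rw [hC y x]
  refine Finset.sum_congr rfl fun i _ => ?_
  rw [hc i y, Finset.sum_mul]
  refine Finset.sum_congr rfl fun j _ => ?_
  ring

theorem coeff₂_unique {n : ℕ} (hn : Fintype.card F = 2 ^ n) (hn2 : 2 ≤ n)
    (c d : Fin n → Fin n → F)
    (h : ∀ x y : F, ∑ i, ∑ j, c i j * (x ^ (2 ^ (i : ℕ)) * y ^ (2 ^ (j : ℕ))) =
      ∑ i, ∑ j, d i j * (x ^ (2 ^ (i : ℕ)) * y ^ (2 ^ (j : ℕ)))) : c = d := by
  funext i
  apply coeff_unique hn hn2
  intro y
  have : (fun i : Fin n => ∑ j, c i j * y ^ (2 ^ (j : ℕ))) =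
      fun i => ∑ j, d i j * y ^ (2 ^ (j : ℕ)) := by
    apply coeff_unique hn hn2
    intro x
    have e : ∀ e' : Fin n → Fin n → F, ∑ i, (∑ j, e' i j * y ^ (2 ^ (j : ℕ))) * x ^ (2 ^ (i : ℕ)) =
        ∑ i, ∑ j, e' i j * (x ^ (2 ^ (i : ℕ)) * y ^ (2 ^ (j : ℕ))) := by
      intro e'
      refine Finset.sum_congr rfl fun i _ => ?_
      rw [Finset.sum_mul]
      refine Finset.sum_congr rfl fun j _ => ?_
      ring
    rw [e c, e d]
    exact h x y
  exact congrFun this i

/-- equivariant additive maps: only coefficients of the right weight survive. -/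
theorem coeff_eq_zero_of_equivariant {n : ℕ} (hn : Fintype.card F = 2 ^ n) (hn2 : 2 ≤ n)
    (c : Fin n → F) (a b : ℕ)
    (h : ∀ μ x : F, μ ≠ 0 → ∑ i, c i * (μ ^ a * x) ^ (2 ^ (i : ℕ)) =
      μ ^ b * ∑ i, c i * x ^ (2 ^ (i : ℕ)))
    (i : Fin n) (hi : ¬ a * 2 ^ (i : ℕ) ≡ b [MOD 2 ^ n - 1]) : c i = 0 := by
  obtain ⟨g, hg0, hg, -⟩ := exists_gen hn
  have : (fun i : Fin n => c i * (g ^ a) ^ (2 ^ (i : ℕ))) = fun i => g ^ b * c i := by
    apply coeff_unique hn hn2
    intro x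
    have e1 : ∑ i, c i * (g ^ a) ^ (2 ^ (i : ℕ)) * x ^ (2 ^ (i : ℕ)) =
        ∑ i, c i * (g ^ a * x) ^ (2 ^ (i : ℕ)) :=
      Finset.sum_congr rfl fun i _ => by ring
    have e2 : ∑ i, g ^ b * c i * x ^ (2 ^ (i : ℕ)) = g ^ b * ∑ i, c i * x ^ (2 ^ (i : ℕ)) := by
      rw [Finset.mul_sum]
      exact Finset.sum_congr rfl fun i _ => by ring
    rw [e1, e2]
    exact h g x hg0
  have h1 := congrFun this i
  by_contra hc
  apply hi
  rw [← hg, pow_mul]
  have h2 : c i * ((g ^ a) ^ (2 ^ (i : ℕ))) = c i * g ^ b := by rw [h1]; ring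
  exact mul_left_cancel₀ hc h2

/-- equivariant biadditive maps: only coefficients of the right weight survive. -/
theorem coeff₂_eq_zero_of_equivariant {n : ℕ} (hn : Fintype.card F = 2 ^ n) (hn2 : 2 ≤ n)
    (c : Fin n → Fin n → F) (a b k : ℕ)
    (h : ∀ μ x y : F, μ ≠ 0 →
      ∑ i, ∑ j, c i j * ((μ ^ a * x) ^ (2 ^ (i : ℕ)) * (μ ^ b * y) ^ (2 ^ (j : ℕ))) =
      μ ^ k * ∑ i, ∑ j, c i j * (x ^ (2 ^ (i : ℕ)) * y ^ (2 ^ (j : ℕ))))
    (i j : Fin n) (hij : ¬ a * 2 ^ (i : ℕ) + b * 2 ^ (j : ℕ) ≡ k [MOD 2 ^ n - 1]) :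
    c i j = 0 := by
  obtain ⟨g, hg0, hg, -⟩ := exists_gen hn
  have : (fun i j : Fin n => c i j * ((g ^ a) ^ (2 ^ (i : ℕ)) * (g ^ b) ^ (2 ^ (j : ℕ)))) =
      fun i j => g ^ k * c i j := by
    apply coeff₂_unique hn hn2
    intro x y
    have e1 : ∑ i, ∑ j, c i j * ((g ^ a) ^ (2 ^ (i : ℕ)) * (g ^ b) ^ (2 ^ (j : ℕ))) *
          (x ^ (2 ^ (i : ℕ)) * y ^ (2 ^ (j : ℕ))) =
        ∑ i, ∑ j, c i j * ((g ^ a * x) ^ (2 ^ (i : ℕ)) * (g ^ b * y) ^ (2 ^ (j : ℕ))) :=
      Finset.sum_congr rfl fun i _ => Finset.sum_congr rfl fun j _ => by ring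
    have e2 : ∑ i, ∑ j, g ^ k * c i j * (x ^ (2 ^ (i : ℕ)) * y ^ (2 ^ (j : ℕ))) =
        g ^ k * ∑ i, ∑ j, c i j * (x ^ (2 ^ (i : ℕ)) * y ^ (2 ^ (j : ℕ))) := by
      rw [Finset.mul_sum]
      refine Finset.sum_congr rfl fun i _ => ?_
      rw [Finset.mul_sum]
      exact Finset.sum_congr rfl fun j _ => by ring
    rw [e1, e2]
    exact h g x y hg0
  have h1 := congrFun (congrFun this i) j
  by_contra hc
  apply hij
  rw [← hg, pow_add, pow_mul, pow_mul]
  have h2 : c i j * ((g ^ a) ^ (2 ^ (i : ℕ)) * (g ^ b) ^ (2 ^ (j : ℕ))) = c i j * g ^ k := by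
    rw [h1]; ring
  exact mul_left_cancel₀ hc h2

end Cfsg.Agent.StdSz.EquivMaps
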