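import Cfsg.Agent.StdSz.FormAlg
import Cfsg.Agent.LieRecognition.SzMatrix

/-!
# Coordinates of the Borel subgroup of a Suzuki group

`p a b`, `h l` with `p a b * p c d = p (a + c) (b + d + a ^ θ * c)` and
`h l * p a b * (h l)⁻¹ = p (l * a) (l ^ (1 + θ) * b)`, where `x ^ θ = x ^ 2 ^ (m + 1)`.
-/

set_option autoImplicit false
set_option linter.unusedSectionVars false
set_option linter.style.haveILetI false

namespace Cfsg.Agent.StdSz.BorelCoord

open scoped commutatorElement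
open Cfsg.Agent.StdSz.EquivMaps Cfsg.Agent.StdSz.SzMaps Cfsg.Agent.StdSz.FormAlg

/-- coordinates of (the Borel subgroup of a) Suzuki group. -/
structure Data (m : ℕ) (F : Type*) [Field F] (S : Type*) [Group S] where
  /-- the unipotent elements -/
  p : F → F → S
  /-- the torus elements -/
  h : Fˣ → S
  p_mul : ∀ a b c d : F, p a b * p c d = p (a + c) (b + d + a ^ (2 ^ (m + 1)) * c)
  p_inj : ∀ a b c d : F, p a b = p c d → a = c ∧ b = d
  h_mul : ∀ k l : Fˣ, h k * h l = h (k * l)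
  h_p : ∀ (l : Fˣ) (a b : F), h l * p a b * (h l)⁻¹ = p (l * a) ((l : F) ^ (1 + 2 ^ (m + 1)) * b)

namespace Data

variable {m : ℕ} {F : Type*} [Field F] {S : Type*} [Group S] (C : Data m F S)
include C

theorem p_zero : C.p 0 0 = 1 := by
  have h := C.p_mul 0 0 0 0
  have e : C.p (0 + 0) (0 + 0 + (0 : F) ^ (2 ^ (m + 1)) * 0) = C.p 0 0 := by simp
  rw [e] at h
  exact mul_eq_left.mp h

theorem h_one : C.h 1 = 1 := by
  have h := C.h_mul 1 1
  rw [mul_one] at h
  exact mul_eq_left.mp h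

theorem h_inv (l : Fˣ) : (C.h l)⁻¹ = C.h l⁻¹ := by
  apply inv_eq_of_mul_eq_one_right
  rw [C.h_mul, mul_inv_cancel, C.h_one]

theorem p_zero_mul (b d : F) : C.p 0 b * C.p 0 d = C.p 0 (b + d) := by
  rw [C.p_mul, add_zero, mul_zero, add_zero]

theorem p_mul_zero (a b d : F) : C.p a b * C.p 0 d = C.p a (b + d) := by
  rw [C.p_mul, add_zero, mul_zero, add_zero]

theorem p_zero_mul' (a b d : F) : C.p 0 d * C.p a b = C.p a (b + d) := by
  rw [C.p_mul, zero_add, zero_pow (by positivity), zero_mul, add_zero, add_comm]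

theorem comm_zero (a b d : F) : C.p a b * C.p 0 d = C.p 0 d * C.p a b := by
  rw [C.p_mul_zero, C.p_zero_mul']

variable [CharP F 2]

theorem p_inv (a b : F) : (C.p a b)⁻¹ = C.p a (b + a ^ (1 + 2 ^ (m + 1))) := by
  apply inv_eq_of_mul_eq_one_right
  rw [C.p_mul, CharTwo.add_self_eq_zero]
  have : b + (b + a ^ (1 + 2 ^ (m + 1))) + a ^ (2 ^ (m + 1)) * a = 0 := by
    rw [_root_.pow_add, pow_one, mul_comm a, add_assoc, add_assoc, ← add_assoc b,
      CharTwo.add_self_eq_zero, CharTwo.add_self_eq_zero, add_zero]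
  rw [this, C.p_zero]

theorem p_sq (a b : F) : C.p a b * C.p a b = C.p 0 (a ^ (1 + 2 ^ (m + 1))) := by
  rw [C.p_mul, CharTwo.add_self_eq_zero, CharTwo.add_self_eq_zero, zero_add]
  congr 1
  rw [_root_.pow_add a 1, pow_one, mul_comm]

theorem commutator (a b c d : F) : ⁅C.p a b, C.p c d⁆ = C.p 0 (bt m a c) := by
  have h1 : C.p a b * C.p c d = C.p 0 (bt m a c) * (C.p c d * C.p a b) := by
    rw [C.p_mul, C.p_mul, C.p_zero_mul', add_comm c a]
    congr 1
    unfold bt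
    have h2 : a * c ^ (2 ^ (m + 1)) + a * c ^ (2 ^ (m + 1)) = 0 := CharTwo.add_self_eq_zero _
    linear_combination -h2
  rw [commutatorElement_def, h1]
  group

end Data

open Cfsg.Agent.LieRecognition.SzMatrix in
/-- The coordinates of `Sz`. -/
noncomputable def szData {F : Type*} [Field F] [Fintype F] {m : ℕ}
    (hF : Fintype.card F = 2 ^ (2 * m + 1)) : Data m F ↥(Cfsg.Lie.Sz F (2 ^ (m + 1))) where
  p a b := (good hF).u a (b + a * theta hF a)
  h l := (good hF).d (l ^ (1 + 2 ^ m))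
  p_mul a b c d := by
    haveI := EquivMaps.charP_two hF
    rw [(good hF).u_mul]
    congr 1
    rw [map_add, theta_apply, theta_apply]
    have : a * c ^ (2 ^ (m + 1)) + (a ^ (2 ^ (m + 1)) * c) = (a + c) * (a ^ (2 ^ (m + 1)) +
        c ^ (2 ^ (m + 1))) + a * a ^ (2 ^ (m + 1)) + c * c ^ (2 ^ (m + 1)) := by
      have e : (a + c) * (a ^ (2 ^ (m + 1)) + c ^ (2 ^ (m + 1))) + a * a ^ (2 ^ (m + 1)) +
          c * c ^ (2 ^ (m + 1)) = (a * c ^ (2 ^ (m + 1)) + (a ^ (2 ^ (m + 1)) * c)) +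
          (a * a ^ (2 ^ (m + 1)) + a * a ^ (2 ^ (m + 1))) +
          (c * c ^ (2 ^ (m + 1)) + c * c ^ (2 ^ (m + 1))) := by ring
      rw [e, CharTwo.add_self_eq_zero, CharTwo.add_self_eq_zero, add_zero, add_zero]
    have h2 : a * c ^ (2 ^ (m + 1)) = (a ^ (2 ^ (m + 1)) * c) + ((a + c) * (a ^ (2 ^ (m + 1)) +
        c ^ (2 ^ (m + 1))) + a * a ^ (2 ^ (m + 1)) + c * c ^ (2 ^ (m + 1))) := by
      rw [← this, add_comm (a * c ^ (2 ^ (m + 1))), ← add_assoc, CharTwo.add_self_eq_zero, zero_add]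
    have h3 : a * a ^ (2 ^ (m + 1)) + a * a ^ (2 ^ (m + 1)) = 0 := CharTwo.add_self_eq_zero _
    have h4 : c * c ^ (2 ^ (m + 1)) + c * c ^ (2 ^ (m + 1)) = 0 := CharTwo.add_self_eq_zero _
    linear_combination h2 + h3 + h4
  p_inj a b c d h := by
    obtain ⟨h1, h2⟩ := (good hF).u_inj h
    subst h1
    exact ⟨rfl, add_right_cancel h2⟩
  h_mul k l := by
    rw [(good hF).d_mul, mul_pow]
  h_p l a b := by
    haveI := EquivMaps.charP_two hF
    rw [(good hF).d_mul_u, mul_inv_cancel_right]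
    have hl : ((l : F) ^ (2 ^ m)) ^ (2 ^ (m + 1)) = l := by
      rw [← pow_mul, ← _root_.pow_add]
      have : m + (m + 1) = 2 * m + 1 := by ring
      rw [this, ← hF, FiniteField.pow_card]
    have hth : theta hF ((l ^ (1 + 2 ^ m) : Fˣ) : F) = (l : F) ^ (1 + 2 ^ (m + 1)) := by
      rw [theta_apply, Units.val_pow_eq_pow_val, _root_.pow_add, mul_pow, hl, pow_one,
        _root_.pow_add (l : F) 1, pow_one, mul_comm]
    rw [hth]
    have h0 : (l : F) ≠ 0 := l.ne_zero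
    have hsq : (((l ^ (1 + 2 ^ m) : Fˣ) : F)) ^ 2 = (l : F) * (l : F) ^ (1 + 2 ^ (m + 1)) := by
      rw [Units.val_pow_eq_pow_val, ← pow_mul, ← pow_succ']
      congr 1
      rw [pow_succ 2 m]; ring
    congr 1
    · rw [mul_assoc a, hsq, mul_inv_cancel_right₀ (pow_ne_zero _ h0), mul_comm]
    · simp only [theta_apply]
      rw [mul_pow]
      have : (l : F) * a * ((l : F) ^ (2 ^ (m + 1)) * a ^ (2 ^ (m + 1))) =
          (l : F) ^ (1 + 2 ^ (m + 1)) * (a * a ^ (2 ^ (m + 1))) := by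
        rw [_root_.pow_add, pow_one]; ring
      rw [this]; ring

end Cfsg.Agent.StdSz.BorelCoord
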