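import Cfsg.Agent.StdSz.LieGen
import Cfsg.Agent.StdSz.Extra
import Cfsg.Agent.StdSz.FromStd
import Cfsg.Agent.StdSz.EndTower

/-!
# The two ends of the Suzuki case

In the situation `FromStd.Ctx`, both kinds of ends (`OutDef.Out` and `EndTower.TowerEnd`) give
that the layer is of Lie type in characteristic 2 and does not contain `t`.
-/

set_option autoImplicit false
set_option linter.unusedSectionVars false
set_option linter.style.haveILetI false

namespace Cfsg.Agent.StdSz.EndLie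

open Cfsg Subgroup Cfsg.Agent.StdSz.OutDef Cfsg.Agent.StdSz.Out Cfsg.Agent.StdSz.FromStd
open Cfsg.Agent.StdSz.EndTower Cfsg.Agent.StdSz.EndClosed

universe u

variable {G : Type u} [Group G] [Finite G] {F : Type*} [Field F] [Fintype F] {m : ℕ}
  {A : Subgroup G} {t : G}

/-- The layer does not have the order of `Sz(q)`. -/
theorem card_ne (C : Ctx A t F m) : Nat.card (Cfsg.layer G) ≠
    Fintype.card F ^ 2 * (Fintype.card F ^ 2 + 1) * (Fintype.card F - 1) := by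
  intro h
  have h1 := Extra.le_card C.R
  rw [← h] at h1
  have h2 : A = Cfsg.layer G := Subgroup.eq_of_le_of_card_ge C.S.le_layer h1
  exact C.S.not_normal (h2 ▸ C.S.layer_normal)

theorem pp_mem_layer (C : Ctx A t F m) (a b : F) : C.pp a b ∈ Cfsg.layer G :=
  C.S.le_layer (C.pp_mem a b)

/-- coordinates of commuting elements. -/
theorem card_pairs {p : F → F → G} (hp : ∀ a b c d, p a b = p c d → a = c ∧ b = d)
    {X : Subgroup G} (hX : ∀ a b, p a b ∈ X) : Fintype.card F ^ 2 ≤ Nat.card X := by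
  classical
  have h1 : Nat.card (F × F) ≤ Nat.card X := by
    refine Nat.card_le_card_of_injective (fun x : F × F => (⟨p x.1 x.2, hX _ _⟩ : X)) ?_
    rintro ⟨a, b⟩ ⟨c, d⟩ h
    obtain ⟨h1, h2⟩ := hp a b c d (congrArg Subtype.val h)
    rw [h1, h2]
  rwa [Nat.card_prod, Nat.card_eq_fintype_card, ← pow_two] at h1

/-- The end with a Sylow 2-subgroup `M ∩ L` of class two. -/
theorem of_out [CharP F 2] (h1170 : S1170Stmt.{u}) (C : Ctx A t F m) (E : Env.Env G F m)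
    (hEp : E.p = C.pp) (O : OutBase G F t)
    (hcl : ∀ x ∈ O.M ⊓ Cfsg.layer G, ∀ y ∈ O.M ⊓ Cfsg.layer G, ∀ z ∈ O.M ⊓ Cfsg.layer G,
      (x * y * x⁻¹ * y⁻¹) * z = z * (x * y * x⁻¹ * y⁻¹))
    (hle : Nat.card ↥(O.M ⊓ Cfsg.layer G) ≤ Fintype.card F ^ 4)
    (hp : ∀ a b, E.p a b ∈ O.M) :
    t ∉ Cfsg.layer G ∧ IsLieTypeChar 2 ↥(Cfsg.layer G) := by
  haveI := C.S.layer_normal
  haveI := C.S.simple
  have hpL : ∀ a b, E.p a b ∈ Cfsg.layer G := fun a b => by
    rw [hEp]; exact pp_mem_layer C a b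
  have hnc : ∃ x ∈ O.M ⊓ Cfsg.layer G, ∃ y ∈ O.M ⊓ Cfsg.layer G, x * y ≠ y * x := by
    by_contra hcon
    push Not at hcon
    have h3 : (1 : F) = 0 := by
      apply eq_zero_of_bt (E := E)
      intro c
      have h4 := hcon _ (mem_inf.mpr ⟨hp 1 0, hpL 1 0⟩) _ (mem_inf.mpr ⟨hp c 0, hpL c 0⟩)
      rw [E.p_comm] at h4
      exact E.z_eq_one (mul_eq_right.mp h4)
    exact one_ne_zero h3
  obtain ⟨h1, h2⟩ := LieGen.lieType_or_suzuki h1170 O C.hm C.hF (Cfsg.layer G) C.S.not_comm hcl hle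
    (card_pairs (fun a b c d h => E.p_inj a b c d h) (fun a b => mem_inf.mpr ⟨hp a b, hpL a b⟩)) hnc
  refine ⟨h1, ?_⟩
  rcases h2 with h2 | ⟨-, h2⟩
  · exact h2
  · exact absurd h2 (card_ne C)

/-- The end with `Out`. -/
theorem of_out' [CharP F 2] (h1170 : S1170Stmt.{u}) (C : Ctx A t F m) (E : Env.Env G F m)
    (hEp : E.p = C.pp) (O : OutDef.Out G F t) (hp : ∀ a b, E.p a b ∈ O.M) :
    t ∉ Cfsg.layer G ∧ IsLieTypeChar 2 ↥(Cfsg.layer G) :=
  of_out h1170 C E hEp O.toOutBase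
    (fun x hx y hy z hz => O.comm x hx.1 y hy.1 z hz.1)
    (le_trans (Subgroup.card_le_of_le inf_le_left) O.card_le) hp

/-- The end of the tower. -/
theorem of_tower [CharP F 2] (gold : Gold.{u}) (h1170 : S1170Stmt.{u}) (C : Ctx A t F m)
    (E : Env.Env G F m) (hEt : E.t = t) (hEp : E.p = C.pp) (O : TowerEnd E) :
    t ∉ Cfsg.layer G ∧ IsLieTypeChar 2 ↥(Cfsg.layer G) := by
  subst hEt
  haveI := C.S.layer_normal
  haveI := C.S.simple
  have hpL : ∀ a b, E.p a b ∈ Cfsg.layer G := fun a b => by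
    rw [hEp]; exact pp_mem_layer C a b
  obtain ⟨ht, hiff⟩ := inf_eq O gold (Cfsg.layer G) C.S.not_comm hpL
  have hin : ∀ x ∈ O.M ⊓ Cfsg.layer G, ∃ a b, x = E.p a b := fun x hx =>
    (hiff x).mp (mem_inf.mpr ⟨O.M_le hx.1, hx.2⟩)
  refine of_out h1170 C E hEp O.toOutBase ?_ ?_ O.p_mem
  · intro x hx y hy z hz
    obtain ⟨a, b, rfl⟩ := hin x hx
    obtain ⟨c, d, rfl⟩ := hin y hy
    obtain ⟨e, f, rfl⟩ := hin z hz
    have h1 := E.p_comm a b c d
    have h2 : E.p a b * E.p c d * (E.p a b)⁻¹ * (E.p c d)⁻¹ =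
        E.p 0 (Cfsg.Agent.StdSz.FormAlg.bt m a c) := by
      rw [h1]; group
    rw [h2, E.z_mul_p, E.p_mul_z]
  · have h1 : Nat.card ↥(O.M ⊓ Cfsg.layer G) ≤ Nat.card (F × F) := by
      choose f g hfg using hin
      refine Nat.card_le_card_of_injective
        (fun x : ↥(O.M ⊓ Cfsg.layer G) => ((f x x.2, g x x.2) : F × F)) ?_
      intro x y hxy
      simp only [Prod.mk.injEq] at hxy
      apply Subtype.ext
      rw [hfg x x.2, hfg y y.2, hxy.1, hxy.2]
    rw [Nat.card_prod, Nat.card_eq_fintype_card (α := F), ← pow_two] at h1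
    exact le_trans h1 (Nat.pow_le_pow_right Fintype.card_pos (by norm_num : 2 ≤ 4))

end Cfsg.Agent.StdSz.EndLie
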