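import Cfsg.Agent.StdSz.ExoticData
import Cfsg.Agent.StdSz.Hyperplane

/-!
# The exotic configuration for `Sz(8)`: the action of `N(S)`
-/

set_option autoImplicit false
set_option linter.unusedSectionVars false

namespace Cfsg.Agent.StdSz.ExoticAct

open Subgroup Cfsg.Agent.StdSz.Env Cfsg.Agent.StdSz.FormAlg Cfsg.Agent.StdSz.ExoticData

variable {G : Type*} [Group G] {F : Type*} [Field F] [Fintype F] [CharP F 2]

/-- Elements of `U = P W` with `P`-coordinate `a`. -/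
def D (E : Env G F 1) (W : Subgroup G) (x : G) (a : F) : Prop := ∃ f ∈ W, x = E.p a 0 * f

/-- The element `r` acts on `U / W`, `Z` and `t` by `A`, `B`, `a`. -/
structure Act (E : Env G F 1) (W : Subgroup G) (r : G) (A B : F → F) (a : F) : Prop where
  hA : ∀ c, D E W (r * E.p c 0 * r⁻¹) (A c)
  hB : ∀ b, r * E.p 0 b * r⁻¹ = E.p 0 (B b)
  ha : ∃ u, D E W u a ∧ r * E.t * r⁻¹ = E.t * u
  hW : ∀ f ∈ W, r * f * r⁻¹ ∈ W

section

variable {E : Env G F 1} {A W S : Subgroup G} {k : ℕ} (C : Cfg E A W S k)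
include C

theorem bt_eq_zero {a : F} (h : ∀ c, bt 1 a c = 0) : a = 0 := by
  by_contra ha
  have h1 : (∃ b, bt 1 a b = a ^ (1 + 2 ^ (1 + 1)) * 1) ↔ (1 : F) ∈ KK 1 F := mem_range_bt ha 1
  -- all elements of `KK` are zero
  have h2 : ∀ y : F, y ^ (2 ^ (1 + 1)) + y = 0 := by
    intro y
    have h3 := h (a * y)
    rw [bt_mul] at h3
    rcases mul_eq_zero.mp h3 with h4 | h4
    · exact absurd h4 (pow_ne_zero _ ha)
    · exact h4
  have h3 : ∀ y : F, y = 0 ∨ y = 1 := by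
    intro y
    apply eq_of_th_eq E.hF
    have := h2 y
    have h4 : y ^ (2 ^ (1 + 1)) = -y := eq_neg_of_add_eq_zero_left this
    rw [h4, CharTwo.neg_eq]
  have h4 : Fintype.card F ≤ 2 := by
    classical
    have : (Finset.univ : Finset F) ⊆ {0, 1} := by
      intro y _
      rw [Finset.mem_insert, Finset.mem_singleton]
      exact h3 y
    calc Fintype.card F = (Finset.univ : Finset F).card := rfl
      _ ≤ ({0, 1} : Finset F).card := Finset.card_le_card this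
      _ ≤ 2 := Finset.card_le_two
  rw [E.hF] at h4
  norm_num at h4

theorem W_of_p {a b : F} (h : E.p a b ∈ W) : a = 0 := by
  apply bt_eq_zero C
  intro c
  have h1 := C.W_p _ h c 0
  rw [E.p_comm a b c 0] at h1
  exact E.z_eq_one (mul_eq_right.mp h1)

theorem D_p (a b : F) : D E W (E.p a b) a :=
  ⟨E.p 0 b, C.Z_le b, by rw [E.p_mul_z, zero_add]⟩

theorem D_W {f : G} (hf : f ∈ W) : D E W f 0 := ⟨f, hf, by rw [E.p_zero, one_mul]⟩

theorem D_zero {x : G} (h : D E W x 0) : x ∈ W := by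
  obtain ⟨f, hf, rfl⟩ := h
  rw [E.p_zero, one_mul]; exact hf

theorem D_mul {x y : G} {a b : F} (hx : D E W x a) (hy : D E W y b) : D E W (x * y) (a + b) := by
  obtain ⟨f, hf, rfl⟩ := hx
  obtain ⟨g, hg, rfl⟩ := hy
  have h1 : E.p a 0 * f * (E.p b 0 * g) = E.p (a + b) 0 * (E.p 0 (a ^ (2 ^ (1 + 1)) * b) * (f * g)) := by
    calc E.p a 0 * f * (E.p b 0 * g) = E.p a 0 * (f * E.p b 0) * g := by group
      _ = (E.p a 0 * E.p b 0) * (f * g) := by rw [C.W_p f hf]; group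
      _ = _ := by
        rw [E.p_mul, ← mul_assoc (E.p (a + b) 0), E.p_mul_z]
        simp only [zero_add, add_zero]
  rw [h1]
  exact ⟨_, mul_mem (C.Z_le _) (mul_mem hf hg), rfl⟩

theorem D_inj {x : G} {a b : F} (h : D E W x a) (h' : D E W x b) : a = b := by
  obtain ⟨f, hf, rfl⟩ := h
  obtain ⟨g, hg, h'⟩ := h'
  have h1 : (E.p b 0)⁻¹ * E.p a 0 ∈ W := by
    have : (E.p b 0)⁻¹ * E.p a 0 = g * f⁻¹ := by
      rw [inv_mul_eq_iff_eq_mul, ← mul_assoc, ← h', mul_inv_cancel_right]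
    rw [this]
    exact mul_mem hg (inv_mem hf)
  rw [E.p_inv, E.p_mul] at h1
  have h2 := W_of_p C h1
  have h3 : a = -b := by
    rw [add_comm] at h2
    exact eq_neg_of_add_eq_zero_left h2
  rw [h3, CharTwo.neg_eq]

theorem D_inv {x : G} {a : F} (h : D E W x a) : D E W x⁻¹ a := by
  obtain ⟨f, hf, rfl⟩ := h
  have h1 : (E.p a 0 * f)⁻¹ = E.p a (0 + a ^ (1 + 2 ^ (1 + 1))) * f⁻¹ := by
    rw [mul_inv_rev, ← E.p_inv]
    have : Commute f⁻¹ (E.p a 0)⁻¹ := (show Commute f (E.p a 0) from C.W_p f hf a 0).inv_inv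
    exact this
  rw [h1]
  have := D_mul C (D_p C a (0 + a ^ (1 + 2 ^ (1 + 1)))) (D_W C (inv_mem hf))
  rwa [add_zero] at this

theorem D_comm {x y : G} {a b : F} (hx : D E W x a) (hy : D E W y b) :
    x * y = E.p 0 (bt 1 a b) * (y * x) := by
  obtain ⟨f, hf, rfl⟩ := hx
  obtain ⟨g, hg, rfl⟩ := hy
  calc E.p a 0 * f * (E.p b 0 * g) = E.p a 0 * (f * E.p b 0) * g := by group
    _ = (E.p a 0 * E.p b 0) * (f * g) := by rw [C.W_p f hf]; group
    _ = E.p 0 (bt 1 a b) * (E.p b 0 * E.p a 0) * (g * f) := by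
      rw [E.p_comm a 0 b 0, C.W_comm f hf g hg]
    _ = E.p 0 (bt 1 a b) * (E.p b 0 * (E.p a 0 * g) * f) := by group
    _ = _ := by rw [← C.W_p g hg]; group

theorem W_D {x f : G} {a : F} (hf : f ∈ W) (hx : D E W x a) : f * x = x * f := by
  have := D_comm C (D_W C hf) hx
  rwa [bt_zero_left, E.p_zero, one_mul] at this

theorem z_of_pow {f : G} (hf : f ∈ W) : ∃ b, f ^ 2 ^ k = E.p 0 b := by
  apply C.W_omega _ (pow_mem hf _)
  rw [← _root_.pow_add, ← two_mul, ← pow_succ']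
  exact C.W_exp f hf

/-- an element of order at least 8 -/
theorem exists_f0 : ∃ f ∈ W, f ^ 4 ≠ 1 := by
  obtain ⟨f, hf, h⟩ := C.W_pow 1
  refine ⟨f, hf, fun h4 => ?_⟩
  obtain ⟨l, hl⟩ : ∃ l, k = l + 2 := ⟨k - 2, by have := C.hk; omega⟩
  have h1 : f ^ 2 ^ k = 1 := by
    rw [hl, pow_succ, pow_succ, mul_assoc, mul_comm, pow_mul]
    have : f ^ (2 * 2) = 1 := h4
    rw [this, one_pow]
  rw [h1] at h
  exact one_ne_zero (E.z_eq_one h.symm)

theorem pow_two_k {f : G} (h : f * f * (f * f) = 1) : f ^ 2 ^ k = 1 := by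
  obtain ⟨l, hl⟩ : ∃ l, k = l + 2 := ⟨k - 2, by have := C.hk; omega⟩
  rw [hl, pow_succ, pow_succ, mul_assoc, mul_comm, pow_mul]
  have : f ^ (2 * 2) = 1 := by rw [pow_mul, pow_two, pow_two]; exact h
  rw [this, one_pow]

theorem t_not_D {a : F} : ¬ D E W E.t a := by
  intro h
  obtain ⟨f, hf, h4⟩ := exists_f0 C
  have h1 := W_D C hf h
  have h2 := C.W_t f hf
  rw [← h1, mul_inv_cancel_right] at h2
  -- `f = f ^ 2 ^ k f⁻¹`
  have h3 : f * f = f ^ 2 ^ k := by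
    nth_rewrite 1 [h2]
    group
  apply h4
  have h5 : f ^ 4 = (f * f) * (f * f) := by
    simp only [pow_succ, pow_zero, one_mul, mul_assoc]
  obtain ⟨b, hb⟩ := z_of_pow C hf
  rw [h5, h3, hb, E.z_self]

theorem t_conj {x : G} {a : F} {f : G} (hf : f ∈ W) (hx : x = E.p a 0 * f) :
    E.t * x * E.t = E.p a 0 * (f ^ 2 ^ k * f⁻¹) := by
  have h1 := C.W_t f hf
  rw [E.t_inv] at h1
  calc E.t * x * E.t = (E.t * E.p a 0) * f * E.t := by rw [hx]; group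
    _ = E.p a 0 * (E.t * f * E.t) := by rw [E.t_p]; group
    _ = _ := by rw [h1]

theorem t_mul_sq {x : G} {a : F} {f : G} (hf : f ∈ W) (hx : x = E.p a 0 * f) :
    (E.t * x) * (E.t * x) = E.p 0 (a ^ (1 + 2 ^ (1 + 1))) * f ^ 2 ^ k := by
  calc (E.t * x) * (E.t * x) = (E.t * x * E.t) * x := by group
    _ = E.p a 0 * (f ^ 2 ^ k * f⁻¹) * (E.p a 0 * f) := by rw [t_conj C hf hx, hx]
    _ = E.p a 0 * (f ^ 2 ^ k * (f⁻¹ * E.p a 0)) * f := by group
    _ = E.p a 0 * (f ^ 2 ^ k * (E.p a 0 * f⁻¹)) * f := by rw [C.W_p _ (inv_mem hf)]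
    _ = E.p a 0 * (f ^ 2 ^ k * E.p a 0) := by group
    _ = (E.p a 0 * E.p a 0) * f ^ 2 ^ k := by rw [C.W_p _ (pow_mem hf _)]; group
    _ = _ := by rw [E.p_sq]

theorem t_mul_four {x : G} {a : F} (hx : D E W x a) : (E.t * x) ^ 4 = 1 := by
  obtain ⟨f, hf, h⟩ := hx
  have h5 : (E.t * x) ^ 4 = ((E.t * x) * (E.t * x)) * ((E.t * x) * (E.t * x)) := by
    simp only [pow_succ, pow_zero, one_mul, mul_assoc]
  obtain ⟨b, hb⟩ := z_of_pow C hf
  rw [h5, t_mul_sq C hf h, hb, E.z_mul, E.z_self]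

theorem mem_S_iff {x : G} : x ∈ S ↔ (∃ a, D E W x a) ∨ ∃ a, ∃ u, D E W u a ∧ x = E.t * u := by
  rw [C.mem_S]
  constructor
  · rintro ⟨a, f, hf, h | h⟩
    · exact Or.inl ⟨a, f, hf, h⟩
    · exact Or.inr ⟨a, _, ⟨f, hf, rfl⟩, h⟩
  · rintro (⟨a, f, hf, h⟩ | ⟨a, u, ⟨f, hf, hu⟩, h⟩)
    · exact ⟨a, f, hf, Or.inl h⟩
    · exact ⟨a, f, hf, Or.inr (by rw [h, hu])⟩

theorem D_conj_four {r x : G} {a : F} (hr : r ∈ normalizer (S : Set G)) (hx : D E W x a)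
    (h4 : x ^ 4 ≠ 1) : ∃ b, D E W (r * x * r⁻¹) b := by
  have h1 : r * x * r⁻¹ ∈ S := (mem_normalizer_iff.mp hr x).mp ((mem_S_iff C).mpr (Or.inl ⟨a, hx⟩))
  rcases (mem_S_iff C).mp h1 with h2 | ⟨b, u, hu, h2⟩
  · exact h2
  · exfalso
    apply h4
    have h3 := t_mul_four C hu
    rw [← h2, conj_pow] at h3
    have h5 : x ^ 4 = r⁻¹ * (r * x ^ 4 * r⁻¹) * r := by group
    rw [h5, h3]; group

theorem D_conj {r x : G} {a : F} (hr : r ∈ normalizer (S : Set G)) (hx : D E W x a) :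
    ∃ b, D E W (r * x * r⁻¹) b := by
  by_cases h4 : x ^ 4 = 1
  · obtain ⟨f, hf, hf4⟩ := exists_f0 C
    obtain ⟨b, hb⟩ := D_conj_four C hr (D_W C hf) hf4
    obtain ⟨c, hc⟩ := D_conj_four C hr (D_mul C hx (D_W C hf)) (by
      rw [(show Commute x f from (W_D C hf hx).symm).mul_pow, h4, one_mul]
      exact hf4)
    refine ⟨c + b, ?_⟩
    have h1 : r * x * r⁻¹ = (r * (x * f) * r⁻¹) * (r * f * r⁻¹)⁻¹ := by group
    rw [h1]
    exact D_mul C hc (D_inv C hb)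
  · exact D_conj_four C hr hx h4

theorem W_conj {r f : G} (hr : r ∈ normalizer (S : Set G)) (hf : f ∈ W) : r * f * r⁻¹ ∈ W := by
  obtain ⟨a, ha⟩ := D_conj C hr (D_W C hf)
  have h1 : a = 0 := by
    apply bt_eq_zero C
    intro c
    obtain ⟨d, hd⟩ := D_conj C (inv_mem hr) (D_p C c 0)
    rw [inv_inv] at hd
    have h2 := W_D C hf hd
    have h3 : (r * f * r⁻¹) * E.p c 0 = E.p c 0 * (r * f * r⁻¹) := by
      calc (r * f * r⁻¹) * E.p c 0 = r * (f * (r⁻¹ * E.p c 0 * r)) * r⁻¹ := by group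
        _ = r * ((r⁻¹ * E.p c 0 * r) * f) * r⁻¹ := by rw [h2]
        _ = _ := by group
    rw [D_comm C ha (D_p C c 0)] at h3
    exact E.z_eq_one (mul_eq_right.mp h3)
  rw [h1] at ha
  exact D_zero C ha

theorem exists_act {r : G} (hr : r ∈ normalizer (S : Set G)) : ∃ A B a, Act E W r A B a := by
  have hA : ∀ c, ∃ c', D E W (r * E.p c 0 * r⁻¹) c' := fun c => D_conj C hr (D_p C c 0)
  have hB : ∀ b, ∃ b', r * E.p 0 b * r⁻¹ = E.p 0 b' := by
    intro b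
    apply C.W_omega _ (W_conj C hr (C.Z_le b))
    have : r * E.p 0 b * r⁻¹ * (r * E.p 0 b * r⁻¹) = r * (E.p 0 b * E.p 0 b) * r⁻¹ := by group
    rw [this, E.z_self]; group
  choose A hA using hA
  choose B hB using hB
  have ht : E.t ∈ S := (mem_S_iff C).mpr (Or.inr ⟨0, 1, D_W C (one_mem _), by rw [mul_one]⟩)
  have h1 : r * E.t * r⁻¹ ∈ S := (mem_normalizer_iff.mp hr _).mp ht
  rcases (mem_S_iff C).mp h1 with ⟨a, h2⟩ | ⟨a, u, hu, h2⟩
  · exfalso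
    obtain ⟨b, hb⟩ := D_conj C (inv_mem hr) h2
    have : r⁻¹ * (r * E.t * r⁻¹) * r⁻¹⁻¹ = E.t := by group
    rw [this] at hb
    exact t_not_D C hb
  · exact ⟨A, B, a, hA, hB, ⟨u, hu, h2⟩, fun f hf => W_conj C hr hf⟩

/-- images of elements of `U` -/
theorem Act.D_conj {r : G} {A' B' : F → F} {a : F} (h : Act E W r A' B' a) {x : G} {c : F}
    (hx : D E W x c) : D E W (r * x * r⁻¹) (A' c) := by
  obtain ⟨f, hf, rfl⟩ := hx
  have h1 : r * (E.p c 0 * f) * r⁻¹ = (r * E.p c 0 * r⁻¹) * (r * f * r⁻¹) := by group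
  rw [h1]
  have := D_mul C (h.hA c) (D_W C (h.hW f hf))
  rwa [add_zero] at this

theorem Act.A_add {r : G} {A' B' : F → F} {a : F} (h : Act E W r A' B' a) (c d : F) :
    A' (c + d) = A' c + A' d := by
  have h1 := h.D_conj C (D_mul C (D_p C c 0) (D_p C d 0))
  have h2 := D_mul C (h.hA c) (h.hA d)
  have h3 : r * E.p c 0 * r⁻¹ * (r * E.p d 0 * r⁻¹) = r * (E.p c 0 * E.p d 0) * r⁻¹ := by group
  rw [h3] at h2
  exact D_inj C h1 h2

theorem Act.B_add {r : G} {A' B' : F → F} {a : F} (h : Act E W r A' B' a) (c d : F) :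
    B' (c + d) = B' c + B' d := by
  apply E.z_inj
  rw [← h.hB, ← E.z_mul, ← E.z_mul, ← h.hB, ← h.hB]
  group

theorem Act.unique {r : G} {A' B' A'' B'' : F → F} {a a' : F} (h : Act E W r A' B' a)
    (h' : Act E W r A'' B'' a') : A' = A'' ∧ B' = B'' ∧ a = a' := by
  refine ⟨funext fun c => D_inj C (h.hA c) (h'.hA c), funext fun b => E.z_inj ?_, ?_⟩
  · rw [← h.hB, ← h'.hB]
  · obtain ⟨u, hu, h1⟩ := h.ha
    obtain ⟨v, hv, h2⟩ := h'.ha
    rw [h1] at h2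
    have h3 := mul_left_cancel h2
    rw [h3] at hu
    exact D_inj C hu hv

theorem Act.mul {r s : G} {A' B' A'' B'' : F → F} {a a' : F} (h : Act E W r A' B' a)
    (h' : Act E W s A'' B'' a') : Act E W (r * s) (A' ∘ A'') (B' ∘ B'') (a + A' a') := by
  refine ⟨fun c => ?_, fun b => ?_, ?_, fun f hf => ?_⟩
  · have h1 : r * s * E.p c 0 * (r * s)⁻¹ = r * (s * E.p c 0 * s⁻¹) * r⁻¹ := by group
    rw [h1]
    exact h.D_conj C (h'.hA c)
  · have h1 : r * s * E.p 0 b * (r * s)⁻¹ = r * (s * E.p 0 b * s⁻¹) * r⁻¹ := by group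
    rw [h1, h'.hB, h.hB]
    rfl
  · obtain ⟨u, hu, h1⟩ := h.ha
    obtain ⟨v, hv, h2⟩ := h'.ha
    refine ⟨u * (r * v * r⁻¹), D_mul C hu (h.D_conj C hv), ?_⟩
    calc r * s * E.t * (r * s)⁻¹ = r * (s * E.t * s⁻¹) * r⁻¹ := by group
      _ = (r * E.t * r⁻¹) * (r * v * r⁻¹) := by rw [h2]; group
      _ = _ := by rw [h1, mul_assoc]
  · have h1 : r * s * f * (r * s)⁻¹ = r * (s * f * s⁻¹) * r⁻¹ := by group
    rw [h1]
    exact h.hW _ (h'.hW f hf)

theorem act_one : Act E W 1 id id 0 := by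
  refine ⟨fun c => ?_, fun b => ?_, ⟨1, D_W C (one_mem _), ?_⟩, fun f hf => ?_⟩
  · rw [one_mul, inv_one, mul_one]; exact D_p C c 0
  · rw [one_mul, inv_one, mul_one]; rfl
  · group
  · rw [one_mul, inv_one, mul_one]; exact hf

/-- the form -/
theorem Act.bt {r : G} {A' B' : F → F} {a : F} (h : Act E W r A' B' a) (c d : F) :
    bt 1 (A' c) (A' d) = B' (bt 1 c d) := by
  apply E.z_inj
  have h1 := D_comm C (h.hA c) (h.hA d)
  have h2 : (r * E.p c 0 * r⁻¹) * (r * E.p d 0 * r⁻¹) =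
      E.p 0 (B' (FormAlg.bt 1 c d)) * ((r * E.p d 0 * r⁻¹) * (r * E.p c 0 * r⁻¹)) := by
    rw [← h.hB]
    calc (r * E.p c 0 * r⁻¹) * (r * E.p d 0 * r⁻¹) = r * (E.p c 0 * E.p d 0) * r⁻¹ := by group
      _ = _ := by rw [E.p_comm c 0 d 0]; group
  rw [h1] at h2
  exact mul_right_cancel h2

/-- the norm relation -/
theorem Act.norm {r : G} {A' B' : F → F} {a : F} (h : Act E W r A' B' a) (c : F) :
    B' (c ^ (1 + 2 ^ (1 + 1))) = (A' c) ^ (1 + 2 ^ (1 + 1)) + FormAlg.bt 1 a (A' c) := by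
  obtain ⟨u, ⟨g, hg, hu⟩, h1⟩ := h.ha
  obtain ⟨f, hf, hx⟩ := h.hA c
  -- `r t r⁻¹ = t u` commutes with `x = r p r⁻¹`
  have hcomm : (E.t * u) * (r * E.p c 0 * r⁻¹) = (r * E.p c 0 * r⁻¹) * (E.t * u) := by
    rw [← h1]
    calc r * E.t * r⁻¹ * (r * E.p c 0 * r⁻¹) = r * (E.t * E.p c 0) * r⁻¹ := by group
      _ = r * (E.p c 0 * E.t) * r⁻¹ := by rw [E.t_p]
      _ = _ := by group
  have hU : D E W u a := ⟨g, hg, hu⟩
  have hff : f * f = E.p 0 (FormAlg.bt 1 a (A' c)) * f ^ 2 ^ k := by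
    -- cancel `t`
    have h2 : u * (r * E.p c 0 * r⁻¹) = (E.t * (r * E.p c 0 * r⁻¹) * E.t) * u := by
      have h3 : E.t * ((E.t * u) * (r * E.p c 0 * r⁻¹)) = u * (r * E.p c 0 * r⁻¹) := by
        have : E.t * ((E.t * u) * (r * E.p c 0 * r⁻¹)) = (E.t * E.t) * (u * (r * E.p c 0 * r⁻¹)) := by
          simp only [mul_assoc]
        rw [this, E.t_sq, one_mul]
      rw [← h3, hcomm]; group
    rw [t_conj C hf hx, D_comm C hU (h.hA c), hx] at h2
    -- `p 0 (bt) * (p (A c) 0 * f * u) = p (A c) 0 * (f^(2^k) * f⁻¹) * u`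
    have h3 : E.p 0 (FormAlg.bt 1 a (A' c)) * (E.p (A' c) 0 * f) =
        E.p (A' c) 0 * (f ^ 2 ^ k * f⁻¹) := by
      apply mul_right_cancel (b := u)
      rw [← h2, mul_assoc]
    have h4 : E.p 0 (FormAlg.bt 1 a (A' c)) * f = f ^ 2 ^ k * f⁻¹ := by
      apply mul_left_cancel (a := E.p (A' c) 0)
      rw [← h3, ← mul_assoc, ← mul_assoc, E.z_comm]
    have h5 : f ^ 2 ^ k = E.p 0 (FormAlg.bt 1 a (A' c)) * f * f := by rw [h4]; group
    rw [h5, ← mul_assoc, ← mul_assoc, E.z_self, one_mul]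
  obtain ⟨b, hb⟩ := z_of_pow C hf
  have h2 : f ^ 2 ^ k = 1 := by
    apply pow_two_k C
    rw [hff, hb, E.z_mul, E.z_self]
  rw [h2, mul_one] at hff
  apply E.z_inj
  rw [← h.hB, ← E.p_sq c 0]
  calc r * (E.p c 0 * E.p c 0) * r⁻¹ = (r * E.p c 0 * r⁻¹) * (r * E.p c 0 * r⁻¹) := by group
    _ = E.p (A' c) 0 * (f * E.p (A' c) 0) * f := by rw [hx]; group
    _ = (E.p (A' c) 0 * E.p (A' c) 0) * (f * f) := by rw [C.W_p f hf]; group
    _ = _ := by rw [E.p_sq, hff, E.z_mul]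

end

end Cfsg.Agent.StdSz.ExoticAct
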