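import Mathlib
import Cfsg.Agent.StdSz.EquivMaps

/-!
# The exotic configuration for `Sz(8)`: the field with 8 elements
-/

set_option autoImplicit false
set_option linter.unusedSectionVars false

namespace Cfsg.Agent.StdSz.ExoticEight

open Subgroup

variable {F : Type*} [Field F] [Fintype F] [CharP F 2]

theorem two0 : (2 : F) = 0 := by
  have := CharP.cast_eq_zero F 2
  simpa using this

theorem aa (x : F) : x + x = 0 := CharTwo.add_self_eq_zero x

theorem pow8 (hF : Fintype.card F = 8) (x : F) : x ^ 8 = x := by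
  rw [← hF]; exact FiniteField.pow_card x

theorem pow7 (hF : Fintype.card F = 8) {x : F} (hx : x ≠ 0) : x ^ 7 = 1 := by
  have h := pow8 hF x
  have h1 : x * (x ^ 7 - 1) = 0 := by linear_combination h
  rcases mul_eq_zero.mp h1 with h2 | h2
  · exact absurd h2 hx
  · exact sub_eq_zero.mp h2

/-- no primitive cube roots of unity -/
theorem no_cube (hF : Fintype.card F = 8) (x : F) : x ^ 2 + x + 1 ≠ 0 := by
  intro h
  have hx : x ≠ 0 := by
    rintro rfl
    simp at h
  have h3 : x ^ 3 = 1 := by linear_combination (x - 1) * h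
  have h7 := pow7 hF hx
  have h1 : x = 1 := by
    have : x ^ 7 = x := by
      calc x ^ 7 = x ^ 3 * x ^ 3 * x := by ring
        _ = x := by rw [h3]; ring
    rw [← this]; exact h7
  rw [h1] at h
  have : (1 : F) = 0 := by linear_combination h - two0 (F := F)
  exact one_ne_zero this

theorem sq_eq (x : F) (h : x ^ 2 = x) : x = 0 ∨ x = 1 := by
  have : x * (x - 1) = 0 := by linear_combination h
  rcases mul_eq_zero.mp this with h1 | h1
  · exact Or.inl h1
  · exact Or.inr (sub_eq_zero.mp h1)

/-- every element is a combination of `1, e, e²`, `e ∉ {0,1}` -/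
theorem eight_mem (hF : Fintype.card F = 8) (H : AddSubgroup F) {e : F} (h0 : e ≠ 0) (h1 : e ≠ 1)
    (hH1 : (1 : F) ∈ H) (hHe : e ∈ H) (hHe2 : e ^ 2 ∈ H) (x : F) : x ∈ H := by
  classical
  have hne : ∀ a b : F, a = b → a + b = 0 := fun a b h => by rw [h]; exact aa b
  have hq := no_cube hF e
  let s : Finset F := {0, 1, e, e + 1, e ^ 2, e ^ 2 + 1, e ^ 2 + e, e ^ 2 + e + 1}
  have hs : s.card = 8 := by
    have k1 : e + 1 ≠ 0 := fun h => h1 (by
      linear_combination h - two0 (F := F))
    have k2 : e ^ 2 + e ≠ 0 := fun h => by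
      rcases sq_eq e (by linear_combination h - e * two0 (F := F)) with h | h
      · exact h0 h
      · exact h1 h
    have k3 : e ^ 2 ≠ 0 := pow_ne_zero _ h0
    have k4 : e ^ 2 + 1 ≠ 0 := fun h => by
      apply k1
      have : (e + 1) ^ 2 = 0 := by linear_combination h + e * two0 (F := F)
      exact pow_eq_zero_iff (two_ne_zero) |>.mp this
    have key : ∀ a b : F, a + b ≠ 0 → a ≠ b := fun a b h h' => h (hne a b h')
    have t0 := two0 (F := F)
    rw [Finset.card_insert_of_notMem, Finset.card_insert_of_notMem, Finset.card_insert_of_notMem,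
      Finset.card_insert_of_notMem, Finset.card_insert_of_notMem, Finset.card_insert_of_notMem,
      Finset.card_insert_of_notMem, Finset.card_singleton]
    all_goals simp only [Finset.mem_insert, Finset.mem_singleton, not_or]
    · apply key; intro h; exact one_ne_zero (by linear_combination h - (e ^ 2 + e) * t0)
    · refine ⟨?_, ?_⟩
      · apply key; intro h; exact k1 (by linear_combination h - (e ^ 2) * t0)
      · apply key; intro h; exact h0 (by linear_combination h - (e ^ 2 + 1) * t0)
    · refine ⟨?_, ?_, ?_⟩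
      · apply key; intro h; exact one_ne_zero (by linear_combination h - (e ^ 2) * t0)
      · apply key; intro h; exact h0 (by linear_combination h - (e ^ 2) * t0)
      · apply key; intro h; exact k1 (by linear_combination h - (e ^ 2) * t0)
    · refine ⟨?_, ?_, ?_, ?_⟩
      · apply key; intro h; exact hq (by linear_combination h)
      · apply key; intro h; exact k2 (by linear_combination h - t0)
      · apply key; intro h; exact k4 (by linear_combination h - e * t0)
      · apply key; intro h; exact k3 (by linear_combination h - (e + 1) * t0)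
    · refine ⟨?_, ?_, ?_, ?_, ?_⟩
      · apply key; intro h; exact one_ne_zero (by linear_combination h - e * t0)
      · apply key; intro h; exact k2 (by linear_combination h)
      · apply key; intro h; exact hq (by linear_combination h)
      · apply key; intro h; exact k3 (by linear_combination h - e * t0)
      · apply key; intro h; exact k4 (by linear_combination h - e * t0)
    · refine ⟨?_, ?_, ?_, ?_, ?_, ?_⟩
      · apply key; intro h; exact k1 (by linear_combination h)
      · apply key; intro h; exact h0 (by linear_combination h - t0)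
      · apply key; intro h; exact k4 (by linear_combination h)
      · apply key; intro h; exact k3 (by linear_combination h - t0)
      · apply key; intro h; exact hq (by linear_combination h)
      · apply key; intro h; exact k2 (by linear_combination h - t0)
    · refine ⟨?_, ?_, ?_, ?_, ?_, ?_, ?_⟩
      · exact fun h => one_ne_zero h.symm
      · exact fun h => h0 h.symm
      · exact fun h => k1 h.symm
      · exact fun h => k3 h.symm
      · exact fun h => k4 h.symm
      · exact fun h => k2 h.symm
      · exact fun h => hq h.symm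
  have hu : s = Finset.univ := by
    rw [← Finset.card_eq_iff_eq_univ, hs, hF]
  have hx : x ∈ s := by rw [hu]; exact Finset.mem_univ x
  simp only [s, Finset.mem_insert, Finset.mem_singleton] at hx
  rcases hx with rfl | rfl | rfl | rfl | rfl | rfl | rfl | rfl
  · exact H.zero_mem
  · exact hH1
  · exact hHe
  · exact H.add_mem hHe hH1
  · exact hHe2
  · exact H.add_mem hHe2 hH1
  · exact H.add_mem hHe2 hHe
  · exact H.add_mem (H.add_mem hHe2 hHe) hH1

/-- An additive involution commuting with squaring is the identity. -/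
theorem eq_id_of_comm_sq (hF : Fintype.card F = 8) (B : F → F)
    (hB : ∀ x y, B (x + y) = B x + B y) (hBB : ∀ x, B (B x) = x)
    (hs : ∀ x, B (x ^ 2) = B x ^ 2) (x : F) : B x = x := by
  have hB0 : B 0 = 0 := by
    have := hB 0 0
    rw [add_zero] at this
    simpa using this
  have hB1 : B 1 = 1 := by
    rcases sq_eq (B 1) (by rw [← hs, one_pow]) with h | h
    · exfalso
      have := hBB 1
      rw [h, hB0] at this
      exact one_ne_zero this.symm
    · exact h
  let H : AddSubgroup F :=
    { carrier := {x | B x = x}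
      add_mem' := fun {a b} ha hb => by
        rw [Set.mem_ofPred_eq] at ha hb ⊢
        rw [hB, ha, hb]
      zero_mem' := hB0
      neg_mem' := fun {a} ha => by
        rw [CharTwo.neg_eq]; exact ha }
  have hH : ∀ y, y ∈ H ↔ B y = y := fun _ => Iff.rfl
  -- a fixed element outside `{0,1}`
  have key : ∀ e : F, B e = e → e ≠ 0 → e ≠ 1 → B x = x := by
    intro e he h0 h1
    exact eight_mem hF H h0 h1 hB1 he (by rw [hH, hs, he]) x
  by_contra hx
  have hx0 : x ≠ 0 := by rintro rfl; exact hx hB0
  have hx1 : x ≠ 1 := by rintro rfl; exact hx hB1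
  have hfix : ∀ y, B (y + B y) = y + B y := fun y => by rw [hB, hBB, add_comm]
  have h01 : x + B x = 0 ∨ x + B x = 1 := by
    by_contra hcon
    push Not at hcon
    exact hx (key _ (hfix x) hcon.1 hcon.2)
  rcases h01 with h | h
  · apply hx
    have : B x = -x := (eq_neg_of_add_eq_zero_right h)
    rw [this, CharTwo.neg_eq]
  · have hBx : B x = x + 1 := by linear_combination h - x * two0 (F := F)
    refine hx (key (x + x ^ 2) ?_ ?_ ?_)
    · rw [hB, hs, hBx]
      linear_combination (x + 1) * two0 (F := F)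
    · intro h2
      rcases sq_eq x (by linear_combination h2 - x * two0 (F := F)) with h3 | h3
      · exact hx0 h3
      · exact hx1 h3
    · intro h2
      exact no_cube hF x (by linear_combination h2 + two0 (F := F))

theorem coeff_zero (hF : Fintype.card F = 8) (p1 p2 p3 p4 p5 p6 : F)
    (h : ∀ x : F, p1 * x + p2 * x ^ 2 + p3 * x ^ 3 + p4 * x ^ 4 + p5 * x ^ 5 + p6 * x ^ 6 = 0) :
    p1 = 0 ∧ p2 = 0 ∧ p4 = 0 := by
  let P : Polynomial F := Polynomial.C p1 * Polynomial.X + Polynomial.C p2 * Polynomial.X ^ 2 +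
      Polynomial.C p3 * Polynomial.X ^ 3 + Polynomial.C p4 * Polynomial.X ^ 4 +
      Polynomial.C p5 * Polynomial.X ^ 5 + Polynomial.C p6 * Polynomial.X ^ 6
  have hP : P = 0 := by
    apply Polynomial.eq_zero_of_natDegree_lt_card_of_eval_eq_zero P (f := (id : F → F))
      Function.injective_id
    · intro x
      have := h x
      simpa [P] using this
    · rw [hF]
      have : P.natDegree ≤ 6 := by
        simp only [P]
        compute_degree
      omega
  refine ⟨?_, ?_, ?_⟩
  · have := congrArg (fun p => Polynomial.coeff p 1) hP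
    simpa [P, Polynomial.coeff_X, Polynomial.coeff_C_mul, Polynomial.coeff_X_pow] using this
  · have := congrArg (fun p => Polynomial.coeff p 2) hP
    simpa [P, Polynomial.coeff_X, Polynomial.coeff_C_mul, Polynomial.coeff_X_pow] using this
  · have := congrArg (fun p => Polynomial.coeff p 4) hP
    simpa [P, Polynomial.coeff_X, Polynomial.coeff_C_mul, Polynomial.coeff_X_pow] using this

/-- additive maps preserving the norm `x ^ 5` up to an additive map are semilinear -/
theorem monomial (hF : Fintype.card F = 8) (A B : F → F) (hA : ∀ x y, A (x + y) = A x + A y)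
    (hB : ∀ x y, B (x + y) = B x + B y) (hne : ∃ x, A x ≠ 0)
    (h : ∀ x, (A x) ^ 5 = B (x ^ 5)) :
    ∃ (c : F) (i : ℕ), c ≠ 0 ∧ i < 3 ∧ ∀ x, A x = c * x ^ (2 ^ i) := by
  have hF3 : Fintype.card F = 2 ^ 3 := by rw [hF]; norm_num
  obtain ⟨a, ha⟩ := Cfsg.Agent.StdSz.EquivMaps.exists_coeff hF3 (by norm_num) A hA
  obtain ⟨b, hb⟩ := Cfsg.Agent.StdSz.EquivMaps.exists_coeff hF3 (by norm_num) B hB
  have ha' : ∀ x, A x = a 0 * x + a 1 * x ^ 2 + a 2 * x ^ 4 := by
    intro x
    rw [ha, Fin.sum_univ_three]
    norm_num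
  have hb' : ∀ x, B x = b 0 * x + b 1 * x ^ 2 + b 2 * x ^ 4 := by
    intro x
    rw [hb, Fin.sum_univ_three]
    norm_num
  have t0 := two0 (F := F)
  -- the polynomial
  have hpoly : ∀ x : F, (a 0) ^ 4 * a 2 * x + (a 1) ^ 4 * a 0 * x ^ 2 +
      ((a 1) ^ 5 + (a 2) ^ 4 * a 0 + b 1) * x ^ 3 + (a 2) ^ 4 * a 1 * x ^ 4 +
      ((a 1) ^ 4 * a 2 + (a 0) ^ 5 + b 0) * x ^ 5 +
      ((a 2) ^ 5 + (a 0) ^ 4 * a 1 + b 2) * x ^ 6 = 0 := by
    intro x
    have h8 := pow8 hF x
    have h1 := h x
    have h4 : (A x) ^ 4 = (a 1) ^ 4 * x + (a 2) ^ 4 * x ^ 2 + (a 0) ^ 4 * x ^ 4 := by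
      have e4 : ∀ u v : F, (u + v) ^ 4 = u ^ 4 + v ^ 4 := by
        intro u v
        linear_combination (2 * u ^ 3 * v + 3 * u ^ 2 * v ^ 2 + 2 * u * v ^ 3) * t0
      rw [ha', e4, e4]
      linear_combination ((a 1) ^ 4 + (a 2) ^ 4 * (x ^ 8 + x)) * h8
    have h5 : (A x) ^ 5 = ((a 1) ^ 4 * x + (a 2) ^ 4 * x ^ 2 + (a 0) ^ 4 * x ^ 4) *
        (a 0 * x + a 1 * x ^ 2 + a 2 * x ^ 4) := by
      rw [← h4, ← ha']; ring
    rw [h5, hb'] at h1
    have h10 : (x ^ 5) ^ 2 = x ^ 3 := by
      calc (x ^ 5) ^ 2 = x ^ 8 * x ^ 2 := by ring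
        _ = x ^ 3 := by rw [h8]; ring
    have h20 : (x ^ 5) ^ 4 = x ^ 6 := by
      calc (x ^ 5) ^ 4 = x ^ 8 * x ^ 8 * x ^ 4 := by ring
        _ = x ^ 6 := by rw [h8]; ring
    rw [h10, h20] at h1
    linear_combination h1 - (a 0) ^ 4 * a 2 * h8 + (b 0 * x ^ 5 + b 1 * x ^ 3 + b 2 * x ^ 6) * t0
  obtain ⟨c1, c2, c4⟩ := coeff_zero hF _ _ _ _ _ _ hpoly
  obtain ⟨x₀, hx₀⟩ := hne
  by_cases h0 : a 0 = 0
  · by_cases h1 : a 1 = 0
    · refine ⟨a 2, 2, ?_, by norm_num, fun x => ?_⟩
      · intro h2
        apply hx₀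
        rw [ha', h0, h1, h2]; ring
      · rw [ha', h0, h1]; ring
    · have h2 : a 2 = 0 := by
        rcases mul_eq_zero.mp c4 with h2 | h2
        · exact pow_eq_zero_iff (by norm_num) |>.mp h2
        · exact absurd h2 h1
      refine ⟨a 1, 1, h1, by norm_num, fun x => ?_⟩
      rw [ha', h0, h2]; ring
  · have h1 : a 1 = 0 := by
      rcases mul_eq_zero.mp c2 with h2 | h2
      · exact pow_eq_zero_iff (by norm_num) |>.mp h2
      · exact absurd h2 h0
    have h2 : a 2 = 0 := by
      rcases mul_eq_zero.mp c1 with h2 | h2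
      · exact absurd (pow_eq_zero_iff (by norm_num) |>.mp h2) h0
      · exact h2
    refine ⟨a 0, 0, h0, by norm_num, fun x => ?_⟩
    rw [ha', h1, h2]; ring

end Cfsg.Agent.StdSz.ExoticEight
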