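import Mathlib.GroupTheory.Sylow
import Mathlib.GroupTheory.Nilpotent
import Mathlib.GroupTheory.Perm.Cycle.Type
import Mathlib.Algebra.Group.End
import Mathlib.GroupTheory.Commutator.Basic
import Mathlib.Data.ZMod.Basic
import Mathlib.RingTheory.Int.Basic
import Mathlib.RingTheory.PrincipalIdealDomain
import Mathlib.Tactic.NormNum.Prime
import Mathlib.Tactic.Module
import Mathlib.Tactic.LinearCombination

/-!
# The exotic configuration for `Sz(8)`: action on a 5-group

A lemma on the action of `⟨f, t⟩`, `t f t⁻¹ = f ^ (2 ^ k - 1)`, `f` of order `2 ^ (k + 1) ≥ 8`, on a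
finite 5-group: the fixed points of `t` inverted by `z = f ^ 2 ^ k` cannot be cyclic of order 5.
-/

set_option autoImplicit false

namespace Cfsg.Agent.StdSz.ExoticFive

open Subgroup
open scoped commutatorElement

section Hom

variable {Γ W : Type*} [Group Γ] [Group W]

theorem restr_exists (ρ : Γ →* MulAut W) (N : Subgroup W) (hN : ∀ γ, ∀ w ∈ N, ρ γ w ∈ N) :
    ∃ σ : Γ →* MulAut N, ∀ γ (w : N), ((σ γ w : N) : W) = ρ γ w := by
  refine ⟨{ toFun := fun γ =>
              { toFun := fun w => ⟨ρ γ w, hN γ w w.2⟩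
                invFun := fun w => ⟨ρ γ⁻¹ w, hN γ⁻¹ w w.2⟩
                left_inv := ?_
                right_inv := ?_
                map_mul' := ?_ }
            map_one' := ?_
            map_mul' := ?_ }, ?_⟩
  · intro w
    ext
    simp
  · intro w
    ext
    simp
  · intro a b
    ext
    simp
  · ext w
    simp
  · intro a b
    ext w
    simp
  · intro γ w
    rfl

theorem quot_exists (ρ : Γ →* MulAut W) (N : Subgroup W) [N.Normal]
    (hN : ∀ γ, ∀ w ∈ N, ρ γ w ∈ N) :
    ∃ σ : Γ →* MulAut (W ⧸ N), ∀ γ (w : W), σ γ (w : W ⧸ N) = ((ρ γ w : W) : W ⧸ N) := by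
  have hmap : ∀ γ, N ≤ N.comap (ρ γ).toMonoidHom := fun γ w hw => hN γ w hw
  refine ⟨{ toFun := fun γ =>
              { toFun := QuotientGroup.map N N (ρ γ).toMonoidHom (hmap γ)
                invFun := QuotientGroup.map N N (ρ γ⁻¹).toMonoidHom (hmap γ⁻¹)
                left_inv := ?_
                right_inv := ?_
                map_mul' := ?_ }
            map_one' := ?_
            map_mul' := ?_ }, ?_⟩
  · intro w
    induction w using QuotientGroup.induction_on with
    | H w => simp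
  · intro w
    induction w using QuotientGroup.induction_on with
    | H w => simp
  · intro a b
    exact map_mul _ a b
  · ext w
    induction w using QuotientGroup.induction_on with
    | H w => simp
  · intro a b
    ext w
    induction w using QuotientGroup.induction_on with
    | H w => simp
  · intro γ w
    rfl

/-- A fixed coset of an involutory automorphism modulo an invariant subgroup of odd order
contains a fixed point. -/
theorem exists_fixed_in_coset (τ : MulAut W) (hτ : τ * τ = 1) (N : Subgroup W) [Finite N]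
    (hodd : Odd (Nat.card N)) (hN : ∀ w ∈ N, τ w ∈ N) (w : W) (hw : w⁻¹ * τ w ∈ N) :
    ∃ n ∈ N, τ (w * n) = w * n := by
  have hττ : ∀ x, τ (τ x) = x := by
    intro x
    have := DFunLike.congr_fun hτ x
    simpa using this
  let g : N → N := fun n => ⟨w⁻¹ * τ (w * n), by
    have : w⁻¹ * τ (w * n) = (w⁻¹ * τ w) * τ n := by rw [map_mul]; group
    rw [this]
    exact mul_mem hw (hN n n.2)⟩
  have hg : Function.Involutive g := by
    intro n
    ext
    change w⁻¹ * τ (w * (w⁻¹ * τ (w * n))) = n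
    rw [mul_inv_cancel_left, hττ]
    group
  have := Fintype.ofFinite N
  obtain ⟨n, hn⟩ : ∃ n, g n = n := by
    have h1 : ¬ (2 ∣ Fintype.card N) := by
      rw [← Nat.card_eq_fintype_card]
      exact hodd.not_two_dvd_nat
    have : Fact (Nat.Prime 2) := ⟨Nat.prime_two⟩
    have h2 : (hg.toPerm) ^ 2 ^ 1 = 1 := by
      ext n
      rw [pow_one, pow_two]
      change ((g (g n) : N) : W) = n
      rw [hg n]
    obtain ⟨a, ha⟩ := Equiv.Perm.exists_fixed_point_of_prime h1 h2
    exact ⟨a, ha⟩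
  refine ⟨n, n.2, ?_⟩
  have h3 : w⁻¹ * τ (w * n) = n := congrArg Subtype.val hn
  rw [inv_mul_eq_iff_eq_mul] at h3
  exact h3

end Hom

section Abelian

variable {V : Type*} [AddCommGroup V]

theorem zero_of_coprime_smul (h5 : ∀ v : V, (5 : ℤ) • v = 0) {v : V} {n : ℤ}
    (hn : ¬ (5 : ℤ) ∣ n) (h : n • v = 0) : v = 0 := by
  have hp : Prime (5 : ℤ) := by
    have := Int.prime_iff_natAbs_prime (k := 5)
    exact this.mpr (by norm_num)
  have hcop : IsCoprime (5 : ℤ) n := (Prime.coprime_iff_not_dvd hp).mpr hn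
  obtain ⟨a, b, hab⟩ := hcop
  calc v = (1 : ℤ) • v := (one_smul _ _).symm
    _ = (a * 5 + b * n) • v := by rw [hab]
    _ = 0 := by rw [add_smul, mul_smul, mul_smul, h5, h, smul_zero, smul_zero, add_zero]

theorem five_abelian (h5 : ∀ v : V, (5 : ℤ) • v = 0) (F T W : V →+ V)
    (hWW : ∀ v, W (W v) = -v) (hWT : ∀ v, W (T v) = -T (W v)) (hFW : ∀ v, F (W v) = W (F v))
    (hTT : ∀ v, T (T v) = v) (j : ℕ) (hF : ∀ v, F^[4 * j] v = -v)
    (y : V) (hy : y ≠ 0) (hTy : T y = y)
    (hC : ∀ v, T v = v → ∃ a : ℤ, v = a • y) : False := by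
  have hzs : ∀ (L : V →+ V) (n : ℤ) (v : V), L (n • v) = n • L v := fun L n v => map_zsmul L n v
  -- a nonzero vector with eigenvalue `2`
  obtain ⟨v, hv0, hv⟩ : ∃ v : V, v ≠ 0 ∧ W v = (2 : ℤ) • v := by
    refine ⟨W y + (2 : ℤ) • y, ?_, ?_⟩
    · intro h
      have h1 : W y = (-2 : ℤ) • y := by
        rw [neg_smul]
        exact eq_neg_of_add_eq_zero_left h
      have h2 : W y = (2 : ℤ) • y := by
        calc W y = W (T y) := by rw [hTy]
          _ = - T (W y) := hWT y
          _ = (2 : ℤ) • y := by rw [h1, hzs, hTy, neg_smul, neg_neg]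
      have h3 : (4 : ℤ) • y = 0 := by
        have h4 := h1.symm.trans h2
        calc (4 : ℤ) • y = (2 : ℤ) • y - (-2 : ℤ) • y := by module
          _ = 0 := by rw [h4, sub_self]
      exact hy (zero_of_coprime_smul h5 (by norm_num) h3)
    · rw [map_add, hWW, hzs]
      have h1 := h5 y
      calc -y + (2 : ℤ) • W y = (2 : ℤ) • (W y + (2 : ℤ) • y) - (5 : ℤ) • y := by module
        _ = _ := by rw [h1, sub_zero]
  -- injectivity of `v ↦ v + T v` on the eigenspace
  have hinj : ∀ u : V, W u = (2 : ℤ) • u → u + T u = 0 → u = 0 := by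
    intro u hu hu0
    have h1 : T u = -u := by
      rw [add_comm] at hu0
      exact eq_neg_of_add_eq_zero_left hu0
    have h2 : W (T u) = -((2 : ℤ) • T u) := by rw [hWT, hu, hzs]
    rw [h1, map_neg, hu] at h2
    have h3 : (4 : ℤ) • u = 0 := by
      calc (4 : ℤ) • u = -((2 : ℤ) • -u) - -((2 : ℤ) • u) := by module
        _ = 0 := by rw [← h2, sub_self]
    exact zero_of_coprime_smul h5 (by norm_num) h3
  have hfix : ∀ u : V, T (u + T u) = u + T u := by
    intro u
    rw [map_add, hTT, add_comm]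
  obtain ⟨a, ha⟩ := hC _ (hfix v)
  obtain ⟨b, hb⟩ := hC _ (hfix (F v))
  have ha5 : ¬ (5 : ℤ) ∣ a := by
    rintro ⟨c, rfl⟩
    rw [mul_smul, h5] at ha
    exact hv0 (hinj v hv ha)
  have hp : Prime (5 : ℤ) := (Int.prime_iff_natAbs_prime (k := 5)).mpr (by norm_num)
  obtain ⟨r, s, hrs⟩ := (Prime.coprime_iff_not_dvd hp).mpr ha5
  -- `F v` is a multiple of `v`
  have hFv : F v = (b * s) • v := by
    have hWF : W (F v) = (2 : ℤ) • F v := by rw [← hFW, hv, hzs]
    have h1 : F v - (b * s) • v = 0 := by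
      apply hinj
      · rw [map_sub, hWF, hzs, hv]
        module
      · rw [map_sub, hzs]
        have h2 : F v - (b * s) • v + (T (F v) - (b * s) • T v)
            = (F v + T (F v)) - (b * s) • (v + T v) := by module
        rw [h2, hb, ha]
        have h3 : b • y - (b * s) • a • y = (b * r) • ((5 : ℤ) • y) := by
          have h4 : b - b * s * a = b * r * 5 := by linear_combination (-b) * hrs
          calc b • y - (b * s) • a • y = (b - b * s * a) • y := by module
            _ = (b * r * 5) • y := by rw [h4]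
            _ = _ := by rw [mul_smul]
        rw [h3, h5, smul_zero]
    exact sub_eq_zero.mp h1
  have hFn : ∀ n : ℕ, F^[n] v = ((b * s) ^ n) • v := by
    intro n
    induction n with
    | zero => simp
    | succ n ih => rw [Function.iterate_succ_apply', ih, hzs, hFv, pow_succ, mul_smul ((b * s) ^ n)]
  have h1 := hF v
  rw [hFn] at h1
  have h2 : ((b * s) ^ (4 * j) + 1) • v = 0 := by
    rw [add_smul, h1, one_smul, neg_add_cancel]
  refine hv0 (zero_of_coprime_smul h5 ?_ h2)
  generalize b * s = c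
  intro hdvd
  have h3 : (((c ^ (4 * j) + 1 : ℤ)) : ZMod 5) = 0 := (ZMod.intCast_zmod_eq_zero_iff_dvd _ 5).mpr hdvd
  push_cast at h3
  generalize (c : ZMod 5) = d at h3
  rw [pow_mul] at h3
  have h40 : ∀ d : ZMod 5, d ^ 4 = 0 ∨ d ^ 4 = 1 := by decide
  rcases h40 d with h4 | h4
  · rw [h4] at h3
    rcases Nat.eq_zero_or_pos j with hj | hj
    · rw [hj, pow_zero] at h3
      exact absurd h3 (by decide)
    · rw [zero_pow hj.ne'] at h3
      exact absurd h3 (by decide)
  · rw [h4, one_pow] at h3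
    exact absurd h3 (by decide)

end Abelian

section Main

variable {Γ : Type*} [Group Γ]

/-- Abelian exponent 5 case, multiplicative version. -/
theorem five_comm {W : Type*} [Group W] (hcomm : ∀ a b : W, a * b = b * a)
    (h5 : ∀ w : W, w ^ 5 = 1) (ρ : Γ →* MulAut W) (f t : Γ) (k : ℕ) (hk : 2 ≤ k)
    (htt : t * t = 1) (hft : t * f * t⁻¹ = f ^ 2 ^ k * f⁻¹) (hff : f ^ 2 ^ k * f ^ 2 ^ k = 1)
    (hz : ∀ w : W, ρ (f ^ 2 ^ k) w = w⁻¹) (y : W) (hy : y ≠ 1) (hty : ρ t y = y)
    (hC : ∀ w : W, ρ t w = w → w ∈ zpowers y) : False := by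
  let _ : CommGroup W := { ‹Group W› with mul_comm := hcomm }
  obtain ⟨l, rfl⟩ : ∃ l, k = l + 2 := ⟨k - 2, by omega⟩
  set w₀ : Γ := f ^ 2 ^ (l + 1) with hw₀
  have hw2 : w₀ * w₀ = f ^ 2 ^ (l + 2) := by
    rw [hw₀, ← pow_add]
    congr 1
    rw [pow_succ 2 (l + 1)]
    ring
  have htw : t * w₀ * t⁻¹ = w₀⁻¹ := by
    have h1 : t * w₀ * t⁻¹ = (t * f * t⁻¹) ^ 2 ^ (l + 1) := by rw [hw₀, conj_pow]
    have h2 : Commute (f ^ 2 ^ (l + 2)) f⁻¹ := ((Commute.refl f).pow_left _).inv_right
    rw [h1, hft, h2.mul_pow, inv_pow, ← hw₀]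
    have h3 : (f ^ 2 ^ (l + 2)) ^ 2 ^ (l + 1) = 1 := by
      rw [pow_succ 2 l, mul_comm, pow_mul, pow_two, hff, one_pow]
    rw [h3, one_mul]
  have hwt : w₀ * t = t * (f ^ 2 ^ (l + 2) * w₀) := by
    have h1 : w₀ = t * w₀⁻¹ * t⁻¹ := by
      have h2 : t⁻¹ = t := inv_eq_of_mul_eq_one_left htt
      have h3 : t * w₀⁻¹ * t⁻¹ = (t * w₀ * t⁻¹)⁻¹ := by group
      rw [h3, htw, inv_inv]
    have h4 : w₀⁻¹ = f ^ 2 ^ (l + 2) * w₀ := by
      have h5 : f ^ 2 ^ (l + 2) * w₀ * w₀ = 1 := by rw [mul_assoc, hw2, hff]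
      exact (inv_eq_of_mul_eq_one_left h5)
    rw [← h4]
    calc w₀ * t = (t * w₀⁻¹ * t⁻¹) * t := by rw [← h1]
      _ = t * w₀⁻¹ := by group
  let A : Γ → (Additive W →+ Additive W) := fun γ => MonoidHom.toAdditive (ρ γ).toMonoidHom
  have hA : ∀ γ (v : Additive W), A γ v = Additive.ofMul (ρ γ v.toMul) := fun _ _ => rfl
  have hAm : ∀ γ δ (v : Additive W), A (γ * δ) v = A γ (A δ v) := by
    intro γ δ v
    simp only [hA, map_mul, MulAut.mul_apply, toMul_ofMul]
  have hAz : ∀ v : Additive W, A (f ^ 2 ^ (l + 2)) v = -v := by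
    intro v
    rw [hA, hz]
    rfl
  have hAn : ∀ (n : ℕ) (v : Additive W), (A f)^[n] v = A (f ^ n) v := by
    intro n v
    induction n with
    | zero => simp [hA]
    | succ n ih => rw [Function.iterate_succ_apply', ih, ← hAm, pow_succ']
  refine five_abelian (V := Additive W) (fun v => ?_) (A f) (A t) (A w₀) (fun v => ?_)
    (fun v => ?_) (fun v => ?_) (fun v => ?_) (2 ^ l) (fun v => ?_) (Additive.ofMul y)
    (fun h => hy (Additive.ofMul.injective h)) ?_ (fun v hv => ?_)
  · have := h5 v.toMul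
    have h1 : (5 : ℤ) • v = (5 : ℕ) • v := by norm_cast
    rw [h1]
    exact Additive.toMul.injective this
  · rw [← hAm, hw2, hAz]
  · rw [← hAm, hwt, hAm, hAm, hAz, map_neg]
  · rw [← hAm, ← hAm]
    congr 1
    rw [hw₀]
    exact congrArg A ((Commute.refl f).pow_right _)
  · rw [← hAm, htt]
    simp [hA]
  · rw [hAn, ← hAz]
    congr 2
    rw [pow_succ 2, pow_succ 2]
    ring_nf
  · rw [hA]
    exact congrArg Additive.ofMul hty
  · have h1 : ρ t v.toMul = v.toMul := by
      have := congrArg Additive.toMul hv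
      exact this
    obtain ⟨n, hn⟩ := mem_zpowers_iff.mp (hC _ h1)
    refine ⟨n, ?_⟩
    apply Additive.toMul.injective
    exact hn.symm


theorem five_false_aux (f t : Γ) (k : ℕ) (hk : 2 ≤ k)
    (hcen : ∀ γ : Γ, γ * f ^ 2 ^ k = f ^ 2 ^ k * γ)
    (htt : t * t = 1) (hft : t * f * t⁻¹ = f ^ 2 ^ k * f⁻¹) (hff : f ^ 2 ^ k * f ^ 2 ^ k = 1)
    (n : ℕ) : ∀ (W : Type*) [Group W] [Finite W] (_ : Nat.card W = n) (_ : IsPGroup 5 W)
    (ρ : Γ →* MulAut W) (y : W) (_ : y ≠ 1) (_ : ρ t y = y) (_ : ρ (f ^ 2 ^ k) y = y⁻¹)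
    (_ : ∀ w : W, ρ t w = w → ρ (f ^ 2 ^ k) w * w⁻¹ ∈ zpowers y), False := by
  induction n using Nat.strong_induction_on with
  | _ n ih =>
  intro W _ _ hcard hW ρ y hy hty hzy hC
  have hp5 : Fact (Nat.Prime 5) := ⟨by norm_num⟩
  have hodd : ∀ w : W, w * w = 1 → w = 1 := by
    intro w hw
    obtain ⟨m, hm⟩ := hW w
    have h1 : Nat.Coprime 2 (5 ^ m) := Nat.Coprime.pow_right m (by norm_num)
    have h2 : w ^ Nat.gcd 2 (5 ^ m) = 1 := by
      rw [← orderOf_dvd_iff_pow_eq_one]
      exact Nat.dvd_gcd (orderOf_dvd_of_pow_eq_one (by rw [pow_two]; exact hw))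
        (orderOf_dvd_of_pow_eq_one hm)
    rw [h1.gcd_eq_one, pow_one] at h2
    exact h2
  have hoddN : ∀ N : Subgroup W, Odd (Nat.card N) := by
    intro N
    obtain ⟨m, hm⟩ := (IsPGroup.iff_card.mp (hW.to_subgroup N))
    rw [hm]
    exact Odd.pow (by decide)
  -- reduction to the irreducible case
  have hirr : ∀ N : Subgroup W, N.Normal → (∀ γ, ∀ w ∈ N, ρ γ w ∈ N) → N = ⊥ ∨ N = ⊤ := by
    intro N hNn hN
    by_contra hcon
    push Not at hcon
    obtain ⟨hbot, htop⟩ := hcon
    by_cases hyN : y ∈ N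
    · obtain ⟨σ, hσ⟩ := restr_exists ρ N hN
      refine ih (Nat.card N) ?_ N rfl (hW.to_subgroup N) σ ⟨y, hyN⟩ ?_ ?_ ?_ ?_
      · rw [← hcard]
        exact lt_of_le_of_ne (Nat.le_of_dvd Nat.card_pos (Subgroup.card_subgroup_dvd_card N))
          (fun h => htop (Subgroup.eq_top_of_card_eq N h))
      · intro h
        exact hy (congrArg Subtype.val h)
      · ext
        rw [hσ]
        exact hty
      · ext
        rw [hσ]
        exact hzy
      · intro w hw
        have h1 : ρ t (w : W) = w := by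
          rw [← hσ, hw]
        obtain ⟨m, hm⟩ := mem_zpowers_iff.mp (hC w h1)
        refine mem_zpowers_iff.mpr ⟨m, ?_⟩
        ext
        rw [Subgroup.coe_mul, hσ, Subgroup.coe_inv, ← hm]
        rfl
    · obtain ⟨σ, hσ⟩ := quot_exists ρ N hN
      refine ih (Nat.card (W ⧸ N)) ?_ (W ⧸ N) rfl (hW.to_quotient N) σ (y : W ⧸ N) ?_ ?_ ?_ ?_
      · have h1 := Subgroup.card_eq_card_quotient_mul_card_subgroup N
        rw [← hcard, h1]
        have h2 : 1 < Nat.card N := by
          rw [Finite.one_lt_card_iff_nontrivial]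
          exact (Subgroup.nontrivial_iff_ne_bot N).mpr hbot
        have h3 : 0 < Nat.card (W ⧸ N) := Nat.card_pos
        nlinarith
      · rw [Ne, QuotientGroup.eq_one_iff]
        exact hyN
      · rw [hσ, hty]
      · rw [hσ, hzy]
        rfl
      · intro w
        induction w using QuotientGroup.induction_on with
        | H w =>
        intro hw
        rw [hσ] at hw
        have h1 : w⁻¹ * ρ t w ∈ N := by
          rw [← QuotientGroup.eq]
          exact hw.symm
        have h2 : ρ t * ρ t = 1 := by rw [← map_mul, htt, map_one]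
        obtain ⟨m, hm, hmw⟩ := exists_fixed_in_coset (ρ t) h2 N (hoddN N) (fun w hw => hN t w hw)
          w h1
        obtain ⟨j, hj⟩ := mem_zpowers_iff.mp (hC _ hmw)
        have h3 : ((w * m : W) : W ⧸ N) = (w : W ⧸ N) := by
          rw [QuotientGroup.mk_mul, (QuotientGroup.eq_one_iff m).mpr hm, mul_one]
        refine mem_zpowers_iff.mpr ⟨j, ?_⟩
        have h4 := congrArg (fun x : W => (x : W ⧸ N)) hj
        simp only [QuotientGroup.mk_mul, QuotientGroup.mk_inv, QuotientGroup.mk_zpow] at h4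
        rw [← hσ, ← QuotientGroup.mk_mul, h3] at h4
        exact h4
  have hnt : Nontrivial W := ⟨y, 1, hy⟩
  -- `W` is abelian
  have hnil : Group.IsNilpotent W := hW.isNilpotent
  have hcomm : ∀ a b : W, a * b = b * a := by
    have h1 : commutator W < ⊤ := Group.IsSolvable.commutator_lt_top_of_nontrivial W
    rcases hirr (commutator W) inferInstance (fun γ w hw => by
      have h2 : (commutator W).map (ρ γ).toMonoidHom ≤ commutator W :=
        Subgroup.characteristic_iff_map_le.mp inferInstance (ρ γ)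
      exact h2 (Subgroup.mem_map_of_mem _ hw)) with h | h
    · intro a b
      have h2 : ⁅a, b⁆ ∈ commutator W :=
        Subgroup.commutator_mem_commutator (Subgroup.mem_top a) (Subgroup.mem_top b)
      rw [h, Subgroup.mem_bot, commutatorElement_eq_one_iff_mul_comm] at h2
      exact h2
    · exact absurd h h1.ne
  -- exponent 5
  have h5 : ∀ w : W, w ^ 5 = 1 := by
    let N : Subgroup W :=
      { carrier := {w | w ^ 5 = 1}
        mul_mem' := fun {a b} ha hb => by
          have : (a * b) ^ 5 = a ^ 5 * b ^ 5 := (show Commute a b from hcomm a b).mul_pow 5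
          rw [Set.mem_ofPred_eq, this, ha, hb, one_mul]
        one_mem' := one_pow 5
        inv_mem' := fun {a} ha => by
          rw [Set.mem_ofPred_eq, inv_pow, ha, inv_one] }
    have hNmem : ∀ w, w ∈ N ↔ w ^ 5 = 1 := fun _ => Iff.rfl
    have hNn : N.Normal := ⟨fun a ha g => by rwa [hcomm g a, mul_inv_cancel_right]⟩
    rcases hirr N hNn (fun γ w hw => by rw [hNmem] at hw ⊢; rw [← map_pow, hw, map_one]) with h | h
    · exfalso
      have h1 : 5 ∣ Nat.card W := by
        obtain ⟨m, hm⟩ := IsPGroup.iff_card.mp hW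
        have h2 : 1 < Nat.card W := Finite.one_lt_card_iff_nontrivial.mpr hnt
        rcases Nat.eq_zero_or_pos m with h3 | h3
        · rw [hm, h3, pow_zero] at h2
          exact absurd h2 (lt_irrefl _)
        · rw [hm]
          exact dvd_pow_self 5 h3.ne'
      obtain ⟨x, hx⟩ := exists_prime_orderOf_dvd_card' 5 h1
      have h2 : x ∈ N := by
        rw [hNmem, ← hx]
        exact pow_orderOf_eq_one x
      rw [h, Subgroup.mem_bot] at h2
      rw [h2, orderOf_one] at hx
      exact absurd hx (by norm_num)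
    · intro w
      have : w ∈ N := by rw [h]; exact Subgroup.mem_top w
      exact this
  -- `z` inverts `W`
  have hz : ∀ w : W, ρ (f ^ 2 ^ k) w = w⁻¹ := by
    let N : Subgroup W :=
      { carrier := {w | ρ (f ^ 2 ^ k) w = w}
        mul_mem' := fun {a b} ha hb => by
          rw [Set.mem_ofPred_eq] at ha hb ⊢
          rw [map_mul, ha, hb]
        one_mem' := map_one _
        inv_mem' := fun {a} ha => by
          rw [Set.mem_ofPred_eq] at ha ⊢
          rw [map_inv, ha] }
    have hNmem : ∀ w, w ∈ N ↔ ρ (f ^ 2 ^ k) w = w := fun _ => Iff.rfl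
    have hNn : N.Normal := ⟨fun a ha g => by rwa [hcomm g a, mul_inv_cancel_right]⟩
    rcases hirr N hNn (fun γ w hw => by
      rw [hNmem] at hw ⊢
      rw [← MulAut.mul_apply, ← map_mul, ← hcen γ, map_mul, MulAut.mul_apply, hw]) with h | h
    · intro w
      have h1 : w * ρ (f ^ 2 ^ k) w ∈ N := by
        rw [hNmem, map_mul, ← MulAut.mul_apply, ← map_mul, hff, map_one, MulAut.one_apply]
        exact hcomm _ _
      rw [h, Subgroup.mem_bot] at h1
      exact eq_inv_of_mul_eq_one_right h1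
    · exfalso
      have h1 : y ∈ N := by rw [h]; exact Subgroup.mem_top y
      rw [hNmem, hzy] at h1
      apply hy
      apply hodd
      calc y * y = y * y⁻¹ := by rw [h1]
        _ = 1 := mul_inv_cancel y
  refine five_comm hcomm h5 ρ f t k hk htt hft hff hz y hy hty (fun w hw => ?_)
  have h1 := hC w hw
  rw [hz] at h1
  have h2 : w = (w⁻¹ * w⁻¹) ^ 2 := by
    have h3 : (w⁻¹ * w⁻¹) ^ 2 * w ^ 5 = w := by group
    rw [h5, mul_one] at h3
    exact h3.symm
  rw [h2]
  exact pow_mem h1 2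

end Main

end Cfsg.Agent.StdSz.ExoticFive
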