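import Cfsg.Agent.StdSz.ExoticEight

/-!
# The exotic configuration for `Sz(8)`: a group with two actions on the field with 8 elements
-/

set_option autoImplicit false
set_option linter.unusedSectionVars false

namespace Cfsg.Agent.StdSz.ExoticPerm

open Subgroup Cfsg.Agent.StdSz.ExoticEight

variable {F : Type*} [Field F] [Fintype F] [CharP F 2]

/-- A group acting faithfully on `F` in two ways. -/
structure Two (X : Type*) [Group X] (F : Type*) [Field F] (P B : X →* Equiv.Perm F) : Prop where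
  P_inj : Function.Injective P
  B_inj : Function.Injective B
  B_add : ∀ x c d, B x (c + d) = B x c + B x d
  torus : ∀ l : Fˣ, ∃ h, (∀ c, P h c = l * c) ∧ ∀ b, B h b = (l : F) ^ 5 * b
  mono : ∀ x, P x 0 = 0 → ∃ (μ : F) (i : ℕ), μ ≠ 0 ∧ i < 3 ∧ (∀ c, P x c = μ * c ^ (2 ^ i)) ∧
    ∀ b, B x b = μ ^ 5 * b ^ (2 ^ i)
  mv : ∃ x, P x 0 ≠ 0

section

variable {X : Type*} [Group X] [Finite X] {P B : X →* Equiv.Perm F} (T : Two X F P B)
include T

theorem mv_one : ∃ x, P x 0 = 1 := by
  obtain ⟨x, hx⟩ := T.mv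
  obtain ⟨h, hP, -⟩ := T.torus (Units.mk0 _ hx)⁻¹
  refine ⟨h * x, ?_⟩
  rw [map_mul, Equiv.Perm.mul_apply, hP]
  rw [Units.val_inv_eq_inv_val, Units.val_mk0]
  exact inv_mul_cancel₀ hx

/-- The stabilizer of `0` does not consist of scalars only. -/
theorem not_scalar (hF : Fintype.card F = 8)
    (hno : ∀ x, P x 0 = 0 → ∃ μ : Fˣ, ∀ c, P x c = μ * c) : False := by
  classical
  have h7f : Fact (Nat.Prime 7) := ⟨by norm_num⟩
  have h2f : Fact (Nat.Prime 2) := ⟨Nat.prime_two⟩
  let _ : MulAction X F := MulAction.compHom F P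
  have hsm : ∀ (x : X) (c : F), x • c = P x c := fun _ _ => rfl
  let H : Subgroup X := MulAction.stabilizer X (0 : F)
  have hH : ∀ x, x ∈ H ↔ P x 0 = 0 := fun x => by
    rw [MulAction.mem_stabilizer_iff, hsm]
  -- card of `H`
  have hcardH : Nat.card H = 7 := by
    have hmem : ∀ x : H, ∃ μ : Fˣ, ∀ c, P (x : X) c = μ * c := fun x => hno x ((hH x).mp x.2)
    choose f hf using hmem
    have hbij : Function.Bijective f := by
      constructor
      · intro x y hxy
        apply Subtype.ext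
        apply T.P_inj
        ext c
        rw [hf, hf, hxy]
      · intro l
        obtain ⟨h, hP, -⟩ := T.torus l
        refine ⟨⟨h, (hH h).mpr (by rw [hP, mul_zero])⟩, ?_⟩
        have h1 := hf ⟨h, (hH h).mpr (by rw [hP, mul_zero])⟩ 1
        rw [mul_one] at h1
        apply Units.ext
        rw [← h1]
        change P h 1 = l
        rw [hP, mul_one]
    rw [Nat.card_congr (Equiv.ofBijective f hbij), Nat.card_eq_fintype_card, Fintype.card_units, hF]
  -- index of `H`
  have hindex : H.index = 8 := by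
    have htr : MulAction.orbit X (0 : F) = Set.univ := by
      rw [Set.eq_univ_iff_forall]
      intro c
      by_cases hc : c = 0
      · rw [hc]; exact MulAction.mem_orbit_self _
      · obtain ⟨x, hx⟩ := mv_one T
        obtain ⟨h, hP, -⟩ := T.torus (Units.mk0 c hc)
        refine ⟨h * x, ?_⟩
        change P (h * x) 0 = c
        rw [map_mul, Equiv.Perm.mul_apply, hx, hP, Units.val_mk0, mul_one]
    have h1 := MulAction.index_stabilizer X (0 : F)
    change H.index = _ at h1
    rw [h1, htr, Set.ncard_univ, Nat.card_eq_fintype_card, hF]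
  have hcardX : Nat.card X = 56 := by
    rw [← Subgroup.card_mul_index H, hcardH, hindex]
  have hH7 : IsPGroup 7 H := IsPGroup.of_card (n := 1) (by rw [hcardH, pow_one])
  let Q : Sylow 7 X := hH7.toSylow (by rw [hindex]; norm_num)
  have hQ : (Q : Subgroup X) = H := rfl
  -- commutativity of `H`
  have hcomm : ∀ x ∈ H, ∀ y ∈ H, x * y = y * x := by
    intro x hx y hy
    obtain ⟨μ, hμ⟩ := hno x ((hH x).mp hx)
    obtain ⟨ν, hν⟩ := hno y ((hH y).mp hy)
    apply T.P_inj
    ext c
    rw [map_mul, map_mul, Equiv.Perm.mul_apply, Equiv.Perm.mul_apply, hμ, hν, hν, hμ]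
    ring
  -- a nontrivial scalar
  obtain ⟨l, hl⟩ : ∃ l : Fˣ, l ≠ 1 := by
    by_contra hcon
    push Not at hcon
    have : Nat.card Fˣ ≤ 1 := Finite.card_le_one_iff_subsingleton.mpr ⟨fun a b => by
      rw [hcon a, hcon b]⟩
    rw [Nat.card_eq_fintype_card, Fintype.card_units, hF] at this
    omega
  have hnorm : normalizer ((Q : Subgroup X) : Set X) ≤ centralizer ((Q : Subgroup X) : Set X) := by
    rw [hQ]
    intro n hn
    have hnH : n ∈ H := by
      rw [hH]
      obtain ⟨h, hP, -⟩ := T.torus l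
      have hhH : h ∈ H := (hH h).mpr (by rw [hP, mul_zero])
      have h1 : n⁻¹ * h * n⁻¹⁻¹ ∈ H := (mem_normalizer_iff.mp (inv_mem hn) h).mp hhH
      rw [inv_inv, hH] at h1
      have h2 : P h (P n 0) = P n 0 := by
        calc P h (P n 0) = P (n * (n⁻¹ * h * n)) 0 := by
              rw [← Equiv.Perm.mul_apply, ← map_mul]; congr 2; group
          _ = P n 0 := by rw [map_mul, Equiv.Perm.mul_apply, h1]
      rw [hP] at h2
      have h3 : ((l : F) - 1) * P n 0 = 0 := by linear_combination h2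
      rcases mul_eq_zero.mp h3 with h4 | h4
      · exact absurd (Units.ext (sub_eq_zero.mp h4)) hl
      · exact h4
    rw [mem_centralizer_iff]
    intro x hx
    exact hcomm x hx n hnH
  let V : Subgroup X := (MonoidHom.transferSylow Q hnorm).ker
  have hV : IsComplement' V (Q : Subgroup X) := MonoidHom.ker_transferSylow_isComplement' Q hnorm
  have hcardV : Nat.card V = 8 := by
    have h1 := hV.card_mul_card
    rw [hQ, hcardH, hcardX] at h1
    omega
  have hVn : V.Normal := MonoidHom.normal_ker _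
  have hV2 : IsPGroup 2 V := IsPGroup.of_card (n := 3) (by rw [hcardV]; norm_num)
  -- fixed points of `V` on `F` via `B`
  let _ : MulAction V F := MulAction.compHom F (B.comp V.subtype)
  have hsm' : ∀ (v : V) (c : F), v • c = B (v : X) c := fun _ _ => rfl
  have hB0 : ∀ x, B x 0 = 0 := by
    intro x
    have := T.B_add x 0 0
    rw [add_zero] at this
    simpa using this
  obtain ⟨c, hc, hc0⟩ := hV2.exists_fixed_point_of_prime_dvd_card_of_fixed_point F
    (by rw [Nat.card_eq_fintype_card, hF]; norm_num) (a := (0 : F))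
    (fun v => by rw [hsm', hB0])
  have hc0' : c ≠ 0 := fun h => hc0 h.symm
  have hall : ∀ v ∈ V, v = 1 := by
    intro v hv
    apply T.B_inj
    rw [map_one]
    ext d
    rw [Equiv.Perm.one_apply]
    by_cases hd : d = 0
    · rw [hd, hB0]
    · -- `d = l ^ 5 * c`
      obtain ⟨l, hl⟩ : ∃ l : Fˣ, (l : F) ^ 5 * c = d := by
        refine ⟨(Units.mk0 d hd * (Units.mk0 c hc0')⁻¹) ^ 3, ?_⟩
        have h7 : (d * c⁻¹) ^ 7 = 1 := pow7 hF (mul_ne_zero hd (inv_ne_zero hc0'))
        rw [Units.val_pow_eq_pow_val, Units.val_mul, Units.val_inv_eq_inv_val, Units.val_mk0,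
          Units.val_mk0]
        calc ((d * c⁻¹) ^ 3) ^ 5 * c = (d * c⁻¹) ^ 7 * (d * c⁻¹) ^ 7 * (d * c⁻¹) * c := by ring
          _ = d * (c⁻¹ * c) := by rw [h7]; ring
          _ = d := by rw [inv_mul_cancel₀ hc0', mul_one]
      obtain ⟨h, -, hB⟩ := T.torus l
      have h1 : (h⁻¹ * v * h⁻¹⁻¹) ∈ V := hVn.conj_mem v hv h⁻¹
      rw [inv_inv] at h1
      have h2 : B (h⁻¹ * v * h) c = c := hc ⟨_, h1⟩
      calc B v d = B v (B h c) := by rw [hB, hl]
        _ = B (h * (h⁻¹ * v * h)) c := by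
            rw [← Equiv.Perm.mul_apply, ← map_mul]; congr 2; group
        _ = d := by rw [map_mul, Equiv.Perm.mul_apply, h2, hB, hl]
  have : Nat.card V = 1 := by
    rw [Subgroup.card_eq_one, Subgroup.eq_bot_iff_forall]
    exact hall
  omega

/-- the Frobenius is in the image -/
theorem exists_frob (hF : Fintype.card F = 8) :
    ∃ x, (∀ c, P x c = c ^ 2) ∧ ∀ b, B x b = b ^ 2 := by
  by_contra hcon
  apply not_scalar T hF
  intro x hx
  obtain ⟨μ, i, hμ, hi, hP, hB⟩ := T.mono x hx
  obtain ⟨h, hPh, hBh⟩ := T.torus (Units.mk0 μ hμ)⁻¹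
  have hPx : ∀ c, P (h * x) c = c ^ (2 ^ i) := by
    intro c
    rw [map_mul, Equiv.Perm.mul_apply, hP, hPh, Units.val_inv_eq_inv_val, Units.val_mk0,
      ← mul_assoc, inv_mul_cancel₀ hμ, one_mul]
  have hBx : ∀ c, B (h * x) c = c ^ (2 ^ i) := by
    intro c
    rw [map_mul, Equiv.Perm.mul_apply, hB, hBh, Units.val_inv_eq_inv_val, Units.val_mk0,
      ← mul_assoc, ← mul_pow, inv_mul_cancel₀ hμ, one_pow, one_mul]
  interval_cases i
  · exact ⟨Units.mk0 μ hμ, fun c => by rw [hP, Units.val_mk0]; ring⟩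
  · exact absurd ⟨h * x, hPx, hBx⟩ hcon
  · exfalso
    apply hcon
    refine ⟨(h * x) * (h * x), fun c => ?_, fun c => ?_⟩
    · rw [map_mul, Equiv.Perm.mul_apply, hPx, hPx]
      have := pow8 hF c
      calc (c ^ 2 ^ 2) ^ 2 ^ 2 = (c ^ 8) ^ 2 := by ring
        _ = c ^ 2 := by rw [this]
    · rw [map_mul, Equiv.Perm.mul_apply, hBx, hBx]
      have := pow8 hF c
      calc (c ^ 2 ^ 2) ^ 2 ^ 2 = (c ^ 8) ^ 2 := by ring
        _ = c ^ 2 := by rw [this]

/-- an element swapping `0` and `1` and inverting the Frobenius -/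
theorem exists_inv (hF : Fintype.card F = 8) :
    ∃ φ r, (∀ c, P φ c = c ^ 2) ∧ (∀ b, B φ b = b ^ 2) ∧ P r 0 = 1 ∧ r * φ * r⁻¹ * φ = 1 := by
  obtain ⟨φ, hφP, hφB⟩ := exists_frob T hF
  obtain ⟨x, hx⟩ := mv_one T
  have he : P x⁻¹ 0 ≠ 0 := by
    intro h
    have : P x (P x⁻¹ 0) = 0 := by
      rw [← Equiv.Perm.mul_apply, ← map_mul, mul_inv_cancel, map_one, Equiv.Perm.one_apply]
    rw [h, hx] at this
    exact one_ne_zero this
  obtain ⟨h, hPh, -⟩ := T.torus (Units.mk0 _ he)
  -- the swapping element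
  set r := x * h with hr
  have hr0 : P r 0 = 1 := by
    rw [hr, map_mul, Equiv.Perm.mul_apply, hPh, mul_zero, hx]
  have hr1 : P r 1 = 0 := by
    rw [hr, map_mul, Equiv.Perm.mul_apply, hPh, mul_one, Units.val_mk0, ← Equiv.Perm.mul_apply,
      ← map_mul, mul_inv_cancel, map_one, Equiv.Perm.one_apply]
  have hinv : ∀ a b, P r a = b → P r⁻¹ b = a := by
    intro a b hab
    rw [← hab, ← Equiv.Perm.mul_apply, ← map_mul, inv_mul_cancel, map_one, Equiv.Perm.one_apply]
  have hr0' : P r⁻¹ 0 = 1 := hinv _ _ hr1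
  have hr1' : P r⁻¹ 1 = 0 := hinv _ _ hr0
  have hφ3 : φ * φ * φ = 1 := by
    apply T.P_inj
    ext c
    rw [map_mul, map_mul, Equiv.Perm.mul_apply, Equiv.Perm.mul_apply, hφP, hφP, hφP, map_one,
      Equiv.Perm.one_apply]
    have := pow8 hF c
    calc ((c ^ 2) ^ 2) ^ 2 = c ^ 8 := by ring
      _ = c := this
  refine ⟨φ, r, hφP, hφB, hr0, ?_⟩
  have hfix01 : ∀ y, P y 0 = 0 → P y 1 = 1 → y = 1 ∨ y = φ ∨ y = φ * φ := by
    intro y h0 h1
    obtain ⟨μ, i, hμ, hi, hP, -⟩ := T.mono y h0
    have hμ1 : μ = 1 := by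
      have := hP 1
      rw [h1, one_pow, mul_one] at this
      exact this.symm
    have hP' : ∀ c, P y c = c ^ (2 ^ i) := fun c => by rw [hP, hμ1, one_mul]
    interval_cases i
    · left
      apply T.P_inj
      ext c
      rw [hP', map_one, Equiv.Perm.one_apply]; ring
    · right; left
      apply T.P_inj
      ext c
      rw [hP', hφP]; ring
    · right; right
      apply T.P_inj
      ext c
      rw [hP', map_mul, Equiv.Perm.mul_apply, hφP, hφP]; ring
  have hφ0 : P φ 0 = 0 := by rw [hφP]; ring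
  have hφ1 : P φ 1 = 1 := by rw [hφP]; ring
  rcases hfix01 (r * φ * r⁻¹)
    (by rw [map_mul, map_mul, Equiv.Perm.mul_apply, Equiv.Perm.mul_apply, hr0', hφ1, hr1])
    (by rw [map_mul, map_mul, Equiv.Perm.mul_apply, Equiv.Perm.mul_apply, hr1', hφ0, hr0])
    with h1 | h1 | h1
  · exfalso
    have hφe : φ = 1 := by
      have : φ = r⁻¹ * (r * φ * r⁻¹) * r := by group
      rw [this, h1]; group
    -- `c ^ 2 = c`
    have h2 : ∀ c : F, c = 0 ∨ c = 1 := by
      intro c
      apply sq_eq
      rw [← hφP, hφe, map_one, Equiv.Perm.one_apply]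
    have h3 : Fintype.card F ≤ 2 := by
      classical
      have : (Finset.univ : Finset F) ⊆ {0, 1} := by
        intro y _
        rw [Finset.mem_insert, Finset.mem_singleton]
        exact h2 y
      calc Fintype.card F = (Finset.univ : Finset F).card := rfl
        _ ≤ ({0, 1} : Finset F).card := Finset.card_le_card this
        _ ≤ 2 := Finset.card_le_two
    omega
  · exfalso
    -- `r` commutes with `φ`
    have hcomm : r * φ = φ * r := by
      rw [mul_inv_eq_iff_eq_mul] at h1
      exact h1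
    have hr2 : r * r = 1 ∨ r * r = φ ∨ r * r = φ * φ := by
      apply hfix01
      · rw [map_mul, Equiv.Perm.mul_apply, hr0, hr1]
      · rw [map_mul, Equiv.Perm.mul_apply, hr1, hr0]
    set s := r * r * r with hs
    have hc : Commute r φ := hcomm
    have hss : s * s = 1 := by
      have h2 : s * s = (r * r) * (r * r) * (r * r) := by rw [hs]; group
      rw [h2]
      rcases hr2 with h3 | h3 | h3
      · rw [h3]; group
      · rw [h3]; exact hφ3
      · rw [h3]
        calc φ * φ * (φ * φ) * (φ * φ) = (φ * φ * φ) * (φ * φ * φ) := by group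
          _ = 1 := by rw [hφ3, one_mul]
    have hsφ : s * φ = φ * s := ((hc.mul_left hc).mul_left hc)
    have hs1 : s = 1 := by
      apply T.B_inj
      rw [map_one]
      ext c
      rw [Equiv.Perm.one_apply]
      apply eq_id_of_comm_sq hF (fun c => B s c) (T.B_add s)
      · intro y
        show B s (B s y) = y
        rw [← Equiv.Perm.mul_apply, ← map_mul, hss, map_one, Equiv.Perm.one_apply]
      · intro y
        show B s (y ^ 2) = B s y ^ 2
        rw [← hφB, ← hφB, ← Equiv.Perm.mul_apply, ← Equiv.Perm.mul_apply, ← map_mul, ← map_mul, hsφ]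
    have hs0 : P s 0 = 1 := by
      rw [hs, map_mul, map_mul, Equiv.Perm.mul_apply, Equiv.Perm.mul_apply, hr0, hr1, hr0]
    rw [hs1, map_one, Equiv.Perm.one_apply] at hs0
    exact zero_ne_one hs0
  · rw [h1]; exact hφ3

end

end Cfsg.Agent.StdSz.ExoticPerm
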