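import Cfsg.Agent.StdSz.ExoticAct
import Cfsg.Agent.StdSz.ExoticPerm

/-!
# The exotic configuration for `Sz(8)`: an element inducing the field automorphism, and an element
inverting it
-/

set_option autoImplicit false
set_option linter.unusedSectionVars false

namespace Cfsg.Agent.StdSz.ExoticHom

open Subgroup Cfsg.Agent.StdSz.Env Cfsg.Agent.StdSz.FormAlg Cfsg.Agent.StdSz.ExoticData
open Cfsg.Agent.StdSz.ExoticAct Cfsg.Agent.StdSz.ExoticPerm Cfsg.Agent.StdSz.ExoticEight

variable {G : Type*} [Group G] {F : Type*} [Field F] [Fintype F] [CharP F 2]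

section

variable {E : Env G F 1} {A W S : Subgroup G} {k : ℕ} (C : Cfg E A W S k)

noncomputable def cA (r : normalizer (S : Set G)) : F → F := (exists_act C r.2).choose
noncomputable def cB (r : normalizer (S : Set G)) : F → F :=
  (exists_act C r.2).choose_spec.choose
noncomputable def ca (r : normalizer (S : Set G)) : F :=
  (exists_act C r.2).choose_spec.choose_spec.choose

theorem spec (r : normalizer (S : Set G)) : Act E W (r : G) (cA C r) (cB C r) (ca C r) :=
  (exists_act C r.2).choose_spec.choose_spec.choose_spec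

theorem eq_of_act {r : normalizer (S : Set G)} {A' B' : F → F} {a : F}
    (h : Act E W (r : G) A' B' a) : cA C r = A' ∧ cB C r = B' ∧ ca C r = a :=
  (spec C r).unique C h

theorem mul_spec (r s : normalizer (S : Set G)) : cA C (r * s) = cA C r ∘ cA C s ∧
    cB C (r * s) = cB C r ∘ cB C s ∧ ca C (r * s) = ca C r + cA C r (ca C s) :=
  eq_of_act C ((spec C r).mul C (spec C s))

theorem one_spec : cA C (1 : normalizer (S : Set G)) = id ∧
    cB C (1 : normalizer (S : Set G)) = id ∧ ca C (1 : normalizer (S : Set G)) = 0 :=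
  eq_of_act C (act_one C)

/-- affine action -/
@[reducible] noncomputable def actP : MulAction (normalizer (S : Set G)) F where
  smul r c := cA C r c + ca C r
  one_smul c := by
    change cA C 1 c + ca C 1 = c
    rw [(one_spec C).1, (one_spec C).2.2, add_zero]; rfl
  mul_smul r s c := by
    change cA C (r * s) c + ca C (r * s) = cA C r (cA C s c + ca C s) + ca C r
    rw [(mul_spec C r s).1, (mul_spec C r s).2.2, (spec C r).A_add C, Function.comp_apply]
    ring

/-- action on `Z` -/
@[reducible] noncomputable def actB : MulAction (normalizer (S : Set G)) F where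
  smul r c := cB C r c
  one_smul c := by
    change cB C 1 c = c
    rw [(one_spec C).2.1]; rfl
  mul_smul r s c := by
    change cB C (r * s) c = cB C r (cB C s c)
    rw [(mul_spec C r s).2.1]; rfl

noncomputable def PH : normalizer (S : Set G) →* Equiv.Perm F :=
  @MulAction.toPermHom (normalizer (S : Set G)) F _ (actP C)

noncomputable def BH : normalizer (S : Set G) →* Equiv.Perm F :=
  @MulAction.toPermHom (normalizer (S : Set G)) F _ (actB C)

theorem PH_apply (r : normalizer (S : Set G)) (c : F) : PH C r c = cA C r c + ca C r := rfl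

theorem BH_apply (r : normalizer (S : Set G)) (c : F) : BH C r c = cB C r c := rfl

theorem A_zero (r : normalizer (S : Set G)) : cA C r 0 = 0 := by
  have := (spec C r).A_add C 0 0
  rw [add_zero] at this
  simpa using this

theorem PH_zero (r : normalizer (S : Set G)) : PH C r 0 = ca C r := by
  rw [PH_apply, A_zero, zero_add]

theorem A_surj (r : normalizer (S : Set G)) : Function.Surjective (cA C r) := by
  intro x
  refine ⟨cA C r⁻¹ x, ?_⟩
  have := (mul_spec C r r⁻¹).1
  rw [mul_inv_cancel, (one_spec C).1] at this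
  exact (congrFun this x).symm

theorem A_inj (r : normalizer (S : Set G)) : Function.Injective (cA C r) := by
  have h := (mul_spec C r⁻¹ r).1
  rw [inv_mul_cancel, (one_spec C).1] at h
  intro x y hxy
  have hx := congrFun h x
  have hy := congrFun h y
  simp only [Function.comp_apply, id_eq] at hx hy
  rw [hx, hy, hxy]

theorem card_eight (E : Env G F 1) : Fintype.card F = 8 := by rw [E.hF]; norm_num

theorem exp_five : 1 + 2 ^ (1 + 1) = 5 := by norm_num

theorem exists_fifth (E : Env G F 1) (b : F) : ∃ c : F, c ^ (1 + 2 ^ (1 + 1)) = b :=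
  ⟨b ^ (2 ^ (1 + 1) - 1), Cfsg.Agent.StdSz.SzMaps.norm_surj E.hF b⟩

include C in
/-- trivial action on `Z` implies trivial action on the classes -/
theorem act_id_of_B {r : normalizer (S : Set G)} (h : ∀ b, cB C r b = b) :
    (∀ c, cA C r c = c) ∧ ca C r = 0 := by
  have hA : ∀ c, cA C r c = c := by
    intro c
    refine Cfsg.Agent.StdSz.Hyperplane.eq_id_of_right E.hF (cA C r) (A_surj C r) (fun x hx => ?_)
      (A_zero C r) (fun x y => ?_) c
    · apply A_inj C r
      rw [hx, A_zero]
    · rw [(spec C r).bt C, h]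
  refine ⟨hA, ?_⟩
  apply bt_eq_zero C
  intro c
  have h1 := (spec C r).norm C c
  rw [h, hA] at h1
  exact (left_eq_add.mp h1)

include C in
theorem act_id_of_P {r : normalizer (S : Set G)} (h : ∀ c, PH C r c = c) :
    (∀ c, cA C r c = c) ∧ ca C r = 0 ∧ ∀ b, cB C r b = b := by
  have ha : ca C r = 0 := by rw [← PH_zero, h]
  have hA : ∀ c, cA C r c = c := by
    intro c
    have := h c
    rw [PH_apply, ha, add_zero] at this
    exact this
  refine ⟨hA, ha, fun b => ?_⟩
  obtain ⟨c, rfl⟩ := exists_fifth E b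
  rw [(spec C r).norm C, hA, ha, bt_zero_left, add_zero]

theorem ker_eq : (PH C).ker ≤ (BH C).ker := by
  intro r hr
  rw [MonoidHom.mem_ker] at hr ⊢
  ext b
  rw [BH_apply, (act_id_of_P C (r := r) (fun c => by rw [hr]; rfl)).2.2]
  rfl

theorem mem_normalizer_of_finite [Finite G] {T : Subgroup G} {g : G} (h : ∀ x ∈ T, g * x * g⁻¹ ∈ T) :
    g ∈ normalizer (T : Set G) := by
  have hn : ∀ n : ℕ, ∀ x ∈ T, g ^ n * x * (g ^ n)⁻¹ ∈ T := by
    intro n
    induction n with
    | zero => intro x hx; simpa using hx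
    | succ n ih =>
      intro x hx
      have h1 := h _ (ih x hx)
      have h2 : g ^ (n + 1) * x * (g ^ (n + 1))⁻¹ = g * (g ^ n * x * (g ^ n)⁻¹) * g⁻¹ := by
        rw [pow_succ']; group
      rwa [h2]
  rw [mem_normalizer_iff]
  intro x
  refine ⟨h x, fun hx => ?_⟩
  have h1 := hn (orderOf g - 1) _ hx
  have h2 : g ^ (orderOf g - 1) = g⁻¹ := by
    rw [eq_comm, inv_eq_iff_mul_eq_one, ← pow_succ', Nat.sub_add_cancel (orderOf_pos g),
      pow_orderOf_eq_one]
  rw [h2] at h1
  have h3 : g⁻¹ * (g * x * g⁻¹) * g⁻¹⁻¹ = x := by group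
  rwa [h3] at h1

include C in
theorem torus_act [Finite G] (l : Fˣ) : ∃ g : normalizer (S : Set G), (g : G) * E.t = E.t * g ∧
    (∀ c, PH C g c = l * c) ∧ ∀ b, BH C g b = (l : F) ^ 5 * b := by
  obtain ⟨g, hgt, hg, hgW⟩ := C.torus l
  have hact : Act E W g (fun c => l * c) (fun b => (l : F) ^ (1 + 2 ^ (1 + 1)) * b) 0 := by
    refine ⟨fun c => ?_, fun b => ?_, ⟨1, D_W C (one_mem _), ?_⟩, hgW⟩
    · rw [hg]; exact D_p C _ _
    · rw [hg, mul_zero]
    · rw [hgt, mul_inv_cancel_right, mul_one]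
  have hD : ∀ x a, D E W x a → ∃ b, D E W (g * x * g⁻¹) b := fun x a hx => ⟨_, hact.D_conj C hx⟩
  have hgS : g ∈ normalizer (S : Set G) := by
    apply mem_normalizer_of_finite
    intro x hx
    rw [mem_S_iff C] at hx ⊢
    rcases hx with ⟨a, hx⟩ | ⟨a, u, hu, rfl⟩
    · exact Or.inl (hD x a hx)
    · obtain ⟨b, hb⟩ := hD u a hu
      refine Or.inr ⟨b, _, hb, ?_⟩
      calc g * (E.t * u) * g⁻¹ = (g * E.t * g⁻¹) * (g * u * g⁻¹) := by group
        _ = _ := by rw [hgt, mul_inv_cancel_right]
  obtain ⟨h1, h2, h3⟩ := eq_of_act C (r := ⟨g, hgS⟩) hact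
  refine ⟨⟨g, hgS⟩, hgt, fun c => ?_, fun b => ?_⟩
  · rw [PH_apply, h1, h3, add_zero]
  · rw [BH_apply, h2]
    change (l : F) ^ (1 + 2 ^ (1 + 1)) * b = _
    rw [exp_five]

include C in
theorem mono_act {r : normalizer (S : Set G)} (h : ca C r = 0) :
    ∃ (μ : F) (i : ℕ), μ ≠ 0 ∧ i < 3 ∧ (∀ c, cA C r c = μ * c ^ (2 ^ i)) ∧
      ∀ b, cB C r b = μ ^ 5 * b ^ (2 ^ i) := by
  have hn : ∀ c, (cA C r c) ^ 5 = cB C r (c ^ 5) := by
    intro c
    have := (spec C r).norm C c
    rw [h, bt_zero_left, add_zero, exp_five] at this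
    exact this.symm
  obtain ⟨μ, i, hμ, hi, hA⟩ := monomial (card_eight E) (cA C r) (cB C r) ((spec C r).A_add C)
    ((spec C r).B_add C) ⟨1, fun h1 => one_ne_zero (A_inj C r (h1.trans (A_zero C r).symm))⟩ hn
  refine ⟨μ, i, hμ, hi, hA, fun b => ?_⟩
  obtain ⟨c, hc⟩ := exists_fifth E b
  rw [exp_five] at hc
  rw [← hc, ← hn, hA]
  ring

theorem two [Finite G] {r : G} (X : Exo E A W S k r) :
    Two (normalizer (S : Set G) ⧸ (PH C).ker) F (QuotientGroup.kerLift (PH C))
      (QuotientGroup.lift (PH C).ker (BH C) (ker_eq C)) := by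
  refine ⟨QuotientGroup.kerLift_injective _, ?_, ?_, ?_, ?_, ?_⟩
  · rw [injective_iff_map_eq_one]
    intro x
    induction x using QuotientGroup.induction_on with
    | H x =>
    intro hx
    rw [QuotientGroup.lift_mk] at hx
    rw [QuotientGroup.eq_one_iff, MonoidHom.mem_ker]
    have h1 := act_id_of_B C (r := x) (fun b => by rw [← BH_apply, hx]; rfl)
    ext c
    rw [PH_apply, h1.1, h1.2, add_zero]
    rfl
  · intro x c d
    induction x using QuotientGroup.induction_on with
    | H x =>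
    rw [QuotientGroup.lift_mk]
    exact (spec C x).B_add C c d
  · intro l
    obtain ⟨g, -, h1, h2⟩ := torus_act C l
    exact ⟨(g : normalizer (S : Set G) ⧸ (PH C).ker), h1, h2⟩
  · intro x hx
    induction x using QuotientGroup.induction_on with
    | H x =>
    have hx' : PH C x 0 = 0 := hx
    rw [PH_zero] at hx'
    obtain ⟨μ, i, hμ, hi, h1, h2⟩ := mono_act C hx'
    refine ⟨μ, i, hμ, hi, fun c => ?_, h2⟩
    change PH C x c = _
    rw [PH_apply, hx', add_zero, h1]
  · refine ⟨((⟨r, X.r_mem⟩ : normalizer (S : Set G)) : normalizer (S : Set G) ⧸ (PH C).ker), ?_⟩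
    intro h
    have h' : PH C ⟨r, X.r_mem⟩ 0 = 0 := h
    rw [PH_zero] at h'
    obtain ⟨u, hu, h1⟩ := (spec C ⟨r, X.r_mem⟩).ha
    rw [h'] at hu
    exact X.r_t ⟨u, D_zero C hu, h1⟩

/-- MAIN OUTPUT: elements `φ`, `s` of `N(S)`. -/
theorem exists_pair [Finite G] {r : G} (X : Exo E A W S k r) :
    ∃ φ s : normalizer (S : Set G), (∀ c, PH C φ c = c ^ 2) ∧ (∀ b, BH C φ b = b ^ 2) ∧
      PH C s 0 = 1 ∧ PH C (s * φ * s⁻¹ * φ) = 1 := by
  obtain ⟨φ, s, h1, h2, h3, h4⟩ := exists_inv (two C X) (card_eight E)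
  induction φ using QuotientGroup.induction_on with
  | H φ =>
  induction s using QuotientGroup.induction_on with
  | H s =>
  have h4' : s * φ * s⁻¹ * φ ∈ (PH C).ker := by
    rw [← QuotientGroup.eq_one_iff]
    exact h4
  exact ⟨φ, s, h1, h2, h3, h4'⟩

end

end Cfsg.Agent.StdSz.ExoticHom
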