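import Cfsg.Agent.StdSz.ExoticHom

/-!
# The exotic configuration for `Sz(8)`: the centralizer in `A` of a field automorphism
-/

set_option autoImplicit false
set_option linter.unusedSectionVars false

namespace Cfsg.Agent.StdSz.ExoticStd

open Subgroup Cfsg.Agent.StdSz.Env Cfsg.Agent.StdSz.FormAlg Cfsg.Agent.StdSz.ExoticData
open Cfsg.Agent.StdSz.ExoticHom Cfsg.Agent.StdSz.ExoticEight

/-- A map whose `3 ^ j`-th iterate is the identity has a fixed point on a set of order prime to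
3. -/
theorem fix_of_iterate {α : Type*} [Finite α] (T : α → α) (j : ℕ) (hT : ∀ x, T^[3 ^ j] x = x)
    (h3 : ¬ 3 ∣ Nat.card α) : ∃ x, T x = x := by
  classical
  have := Fintype.ofFinite α
  have h3f : Fact (Nat.Prime 3) := ⟨Nat.prime_three⟩
  have hinj : Function.Injective T := by
    intro x y hxy
    rw [← hT x, ← hT y]
    obtain ⟨n, hn⟩ : ∃ n, 3 ^ j = n + 1 := ⟨3 ^ j - 1, by
      have : 0 < 3 ^ j := by positivity
      omega⟩
    rw [hn, Function.iterate_succ_apply, Function.iterate_succ_apply, hxy]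
  let σ : Equiv.Perm α := Equiv.ofBijective T (Finite.injective_iff_bijective.mp hinj)
  have hσ : ∀ n : ℕ, ∀ x, (σ ^ n) x = T^[n] x := by
    intro n
    induction n with
    | zero => intro x; rfl
    | succ n ih =>
      intro x
      rw [pow_succ', Equiv.Perm.mul_apply, ih, Function.iterate_succ_apply']
      rfl
  obtain ⟨x, hx⟩ := Equiv.Perm.exists_fixed_point_of_prime (p := 3) (n := j)
    (by rw [← Nat.card_eq_fintype_card]; exact h3) (σ := σ) (by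
      ext x
      rw [hσ, hT]; rfl)
  exact ⟨x, hx⟩

variable {G : Type*} [Group G] {F : Type*} [Field F] [Fintype F] [CharP F 2]

/-- the subgroup `P` -/
def Pq (E : Env G F 1) : Subgroup G where
  carrier := {x | ∃ a b, x = E.p a b}
  mul_mem' := by
    rintro x y ⟨a, b, rfl⟩ ⟨c, d, rfl⟩
    exact ⟨_, _, E.p_mul _ _ _ _⟩
  one_mem' := ⟨0, 0, E.p_zero.symm⟩
  inv_mem' := by
    rintro x ⟨a, b, rfl⟩
    exact ⟨_, _, E.p_inv _ _⟩

theorem mem_Pq {E : Env G F 1} {x : G} : x ∈ Pq E ↔ ∃ a b, x = E.p a b := Iff.rfl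

theorem p_mem_Pq {E : Env G F 1} (a b : F) : E.p a b ∈ Pq E := ⟨a, b, rfl⟩

theorem Pq_four {E : Env G F 1} {x : G} (hx : x ∈ Pq E) : x ^ 2 ^ 2 = 1 := by
  obtain ⟨a, b, rfl⟩ := hx
  have h : E.p a b ^ 2 ^ 2 = (E.p a b * E.p a b) * (E.p a b * E.p a b) := by
    rw [← pow_two, ← pow_two, ← pow_mul]
    norm_num
  rw [h, E.p_sq, E.z_self]

theorem card_Pq (E : Env G F 1) : Nat.card (Pq E) = 64 := by
  let f : F × F → Pq E := fun x => ⟨E.p x.1 x.2, p_mem_Pq _ _⟩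
  have hf : Function.Bijective f := by
    constructor
    · rintro ⟨a, b⟩ ⟨c, d⟩ h
      obtain ⟨h1, h2⟩ := E.p_inj _ _ _ _ (congrArg Subtype.val h)
      simp only at h1 h2
      rw [h1, h2]
    · rintro ⟨x, a, b, rfl⟩
      exact ⟨(a, b), rfl⟩
  rw [← Nat.card_congr (Equiv.ofBijective f hf), Nat.card_prod, Nat.card_eq_fintype_card,
    card_eight E]

variable [Finite G] {E : Env G F 1} {A : Subgroup G}

theorem NP_iff {g : G} : (∀ a b, ∃ c d, g * E.p a b * g⁻¹ = E.p c d) ↔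
    g ∈ normalizer (Pq E : Set G) := by
  constructor
  · intro h
    apply mem_normalizer_of_finite
    rintro x ⟨a, b, rfl⟩
    exact h a b
  · intro h a b
    exact (mem_normalizer_iff.mp h _).mp (p_mem_Pq a b)

section

variable (H : Std E A)
include H

theorem Pq_le : Pq E ≤ A := by
  rintro x ⟨a, b, rfl⟩
  exact H.p_mem a b

theorem ti' {g x : G} (hg : g ∈ A) (hx : x ∈ Pq E) (hx1 : x ≠ 1) (h : g * x * g⁻¹ ∈ Pq E) :
    g ∈ normalizer (Pq E : Set G) := by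
  obtain ⟨a, b, rfl⟩ := hx
  obtain ⟨c, d, h⟩ := h
  exact NP_iff.mp (H.ti g hg a b c d h hx1)

theorem bru' {g g' : G} (hg : g ∈ A) (hg' : g' ∈ A) (h : g ∉ normalizer (Pq E : Set G))
    (h' : g' ∉ normalizer (Pq E : Set G)) :
    ∃ u ∈ Pq E, ∃ n ∈ A, n ∈ normalizer (Pq E : Set G) ∧ g' = u * g * n := by
  obtain ⟨a, b, n, hn, hn', h1⟩ := H.bru g hg g' hg' (fun h0 => h (NP_iff.mp h0))
    (fun h0 => h' (NP_iff.mp h0))
  exact ⟨_, p_mem_Pq a b, n, hn, NP_iff.mp hn', h1⟩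

theorem two_mem {n : G} (hn : n ∈ A) (hnN : n ∈ normalizer (Pq E : Set G)) {j : ℕ}
    (h : n ^ 2 ^ j = 1) : n ∈ Pq E := by
  obtain ⟨l, hl, hl1⟩ := H.nor n hn (NP_iff.mpr hnN)
  apply hl1
  have hi : ∀ i : ℕ, ∃ e, n ^ i * E.p 1 0 * (n ^ i)⁻¹ = E.p ((l : F) ^ i) e := by
    intro i
    induction i with
    | zero => exact ⟨0, by simp⟩
    | succ i ih =>
      obtain ⟨e, he⟩ := ih
      obtain ⟨e', he'⟩ := hl ((l : F) ^ i) e
      refine ⟨e', ?_⟩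
      have h2 : n ^ (i + 1) * E.p 1 0 * (n ^ (i + 1))⁻¹ = n * (n ^ i * E.p 1 0 * (n ^ i)⁻¹) * n⁻¹ := by
        rw [pow_succ']; group
      rw [h2, he, he', pow_succ']
  obtain ⟨e, he⟩ := hi (2 ^ j)
  rw [h, one_mul, inv_one, mul_one] at he
  have h1 : (l : F) ^ 2 ^ j = 1 := (E.p_inj _ _ _ _ he).1.symm
  have h7 : (l : F) ^ 7 = 1 := pow7 (card_eight E) l.ne_zero
  have hcop : Nat.Coprime (2 ^ j) 7 := Nat.Coprime.pow_left _ (by norm_num)
  have h2 : (l : F) ^ Nat.gcd (2 ^ j) 7 = 1 := by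
    rw [← orderOf_dvd_iff_pow_eq_one]
    exact Nat.dvd_gcd (orderOf_dvd_of_pow_eq_one h1) (orderOf_dvd_of_pow_eq_one h7)
  rw [hcop.gcd_eq_one, pow_one] at h2
  exact Units.ext h2

theorem sep {g x : G} (hg : g ∈ A) (hgN : g ∉ normalizer (Pq E : Set G)) (hx : x ∈ Pq E)
    (h : g * x * g⁻¹ ∈ normalizer (Pq E : Set G)) : x = 1 := by
  by_contra hx1
  apply hgN
  apply ti' H hg hx hx1
  apply two_mem H (mul_mem (mul_mem hg (Pq_le H hx)) (inv_mem hg)) h (j := 2)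
  rw [conj_pow, Pq_four hx]; group

theorem sep' {g x : G} (hg : g ∈ A) (hgN : g ∉ normalizer (Pq E : Set G)) (hx : x ∈ Pq E)
    (h : g⁻¹ * x * g ∈ normalizer (Pq E : Set G)) : x = 1 := by
  apply sep H (inv_mem hg) (fun h1 => hgN (by simpa using inv_mem h1)) hx
  rw [inv_inv]; exact h

end

/-- a field automorphism -/
structure Phi (E : Env G F 1) (φ : G) (j : ℕ) : Prop where
  comm : φ * E.t = E.t * φ
  hp : ∀ c d, ∃ e, φ * E.p c d * φ⁻¹ = E.p (c ^ 2) e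
  hz : ∀ b, φ * E.p 0 b * φ⁻¹ = E.p 0 (b ^ 2)
  pow : φ ^ 3 ^ j = 1

section

variable (H : Std E A) {φ : G} {j : ℕ} (Q : Phi E φ j)
include H Q

theorem φ_mem : φ ∈ normalizer (Pq E : Set G) := by
  rw [← NP_iff]
  intro a b
  obtain ⟨e, he⟩ := Q.hp a b
  exact ⟨_, _, he⟩

theorem φA {x : G} (hx : x ∈ A) : φ * x * φ⁻¹ ∈ A := H.conj_mem φ Q.comm x hx

theorem φP {x : G} (hx : x ∈ Pq E) : φ * x * φ⁻¹ ∈ Pq E :=
  (mem_normalizer_iff.mp (φ_mem H Q) x).mp hx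

theorem φN {x : G} (hx : x ∈ normalizer (Pq E : Set G)) :
    φ * x * φ⁻¹ ∈ normalizer (Pq E : Set G) :=
  mul_mem (mul_mem (φ_mem H Q) hx) (inv_mem (φ_mem H Q))

theorem exists_x : ∃ d, φ * E.p 1 d * φ⁻¹ = E.p 1 d := by
  have h1 : ∀ d, ∃ e, φ * E.p 1 d * φ⁻¹ = E.p 1 e := by
    intro d
    obtain ⟨e, he⟩ := Q.hp 1 d
    rw [one_pow] at he
    exact ⟨e, he⟩
  choose T hT using h1
  have hn : ∀ n : ℕ, ∀ d, φ ^ n * E.p 1 d * (φ ^ n)⁻¹ = E.p 1 (T^[n] d) := by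
    intro n
    induction n with
    | zero => intro d; simp
    | succ n ih =>
      intro d
      have h2 : φ ^ (n + 1) * E.p 1 d * (φ ^ (n + 1))⁻¹ =
          φ * (φ ^ n * E.p 1 d * (φ ^ n)⁻¹) * φ⁻¹ := by
        rw [pow_succ']; group
      rw [h2, ih, hT, Function.iterate_succ_apply']
  obtain ⟨d, hd⟩ := fix_of_iterate T j (fun d => by
    have := hn (3 ^ j) d
    rw [Q.pow, one_mul, inv_one, mul_one] at this
    exact (E.p_inj _ _ _ _ this).2.symm) (by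
      rw [Nat.card_eq_fintype_card, card_eight E]; norm_num)
  exact ⟨d, by rw [hT, hd]⟩

/-- a second fixed point -/
theorem exists_second : ∃ g ∈ A, g ∉ normalizer (Pq E : Set G) ∧ ∃ n ∈ A,
    n ∈ normalizer (Pq E : Set G) ∧ φ * g * φ⁻¹ = g * n := by
  obtain ⟨g, hg, hgN⟩ := H.ex
  rw [NP_iff] at hgN
  have hφg : φ * g * φ⁻¹ ∉ normalizer (Pq E : Set G) := by
    intro h
    apply hgN
    have : g = φ⁻¹ * (φ * g * φ⁻¹) * φ := by group
    rw [this]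
    exact mul_mem (mul_mem (inv_mem (φ_mem H Q)) h) (φ_mem H Q)
  obtain ⟨u₀, hu₀, n₀, hn₀, hn₀N, h0⟩ := bru' H hg (φA H Q hg) hgN hφg
  let T : Pq E → Pq E := fun u => ⟨φ * u * φ⁻¹ * u₀, mul_mem (φP H Q u.2) hu₀⟩
  have hT : ∀ n : ℕ, ∀ u : Pq E, ∃ m ∈ A, m ∈ normalizer (Pq E : Set G) ∧
      ((T^[n] u : Pq E) : G) * g = φ ^ n * (u * g) * (φ ^ n)⁻¹ * m := by
    intro n
    induction n with
    | zero => intro u; exact ⟨1, one_mem _, one_mem _, by simp⟩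
    | succ n ih =>
      intro u
      obtain ⟨m, hm, hmN, h1⟩ := ih u
      refine ⟨φ * m * φ⁻¹ * n₀⁻¹, mul_mem (φA H Q hm) (inv_mem hn₀),
        mul_mem (φN H Q hmN) (inv_mem hn₀N), ?_⟩
      rw [Function.iterate_succ_apply']
      change φ * ((T^[n] u : Pq E) : G) * φ⁻¹ * u₀ * g = _
      have h2 : u₀ * g = φ * g * φ⁻¹ * n₀⁻¹ := by rw [h0]; group
      calc φ * ((T^[n] u : Pq E) : G) * φ⁻¹ * u₀ * g
          = φ * ((T^[n] u : Pq E) : G) * φ⁻¹ * (u₀ * g) := by group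
        _ = φ * (((T^[n] u : Pq E) : G) * g) * φ⁻¹ * n₀⁻¹ := by rw [h2]; group
        _ = _ := by rw [h1, pow_succ']; group
  obtain ⟨u, hu⟩ := fix_of_iterate T j (fun u => by
    obtain ⟨m, hm, hmN, h1⟩ := hT (3 ^ j) u
    rw [Q.pow, one_mul, inv_one, mul_one] at h1
    apply Subtype.ext
    have h2 : (u : G)⁻¹ * ((T^[3 ^ j] u : Pq E) : G) = 1 := by
      apply sep' H hg hgN (mul_mem (inv_mem u.2) (T^[3 ^ j] u).2)
      have : g⁻¹ * ((u : G)⁻¹ * ((T^[3 ^ j] u : Pq E) : G)) * g = m := by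
        calc g⁻¹ * ((u : G)⁻¹ * ((T^[3 ^ j] u : Pq E) : G)) * g
            = g⁻¹ * (u : G)⁻¹ * (((T^[3 ^ j] u : Pq E) : G) * g) := by group
          _ = m := by rw [h1]; group
      rw [this]; exact hmN
    exact (inv_mul_eq_one.mp h2).symm) (by rw [card_Pq]; norm_num)
  refine ⟨u * g, mul_mem (Pq_le H u.2) hg, ?_, n₀, hn₀, hn₀N, ?_⟩
  · intro h
    apply hgN
    have : g = (u : G)⁻¹ * (u * g) := by group
    rw [this]
    exact mul_mem (inv_mem (le_normalizer u.2)) h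
  · have h1 : φ * (u : G) * φ⁻¹ * u₀ = u := congrArg Subtype.val hu
    calc φ * (u * g) * φ⁻¹ = (φ * (u : G) * φ⁻¹) * (φ * g * φ⁻¹) := by group
      _ = (φ * (u : G) * φ⁻¹ * u₀) * g * n₀ := by rw [h0]; group
      _ = _ := by rw [h1]

theorem z_ne : E.p 0 1 ≠ 1 := fun h => one_ne_zero (E.z_eq_one h)

theorem z_fix : φ * E.p 0 1 * φ⁻¹ = E.p 0 1 := by rw [Q.hz, one_pow]

/-- an element of `C_A(φ)` not normalizing `P` -/
theorem exists_v : ∃ v ∈ A, v ∉ normalizer (Pq E : Set G) ∧ φ * v * φ⁻¹ = v := by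
  obtain ⟨g, hg, hgN, n₀, hn₀, hn₀N, h0⟩ := exists_second H Q
  have hg' : g⁻¹ ∉ normalizer (Pq E : Set G) := fun h => hgN (by simpa using inv_mem h)
  have hz1 : E.p 0 1 ∈ Pq E := p_mem_Pq 0 1
  have hzg : g⁻¹ * (E.p 0 1 * g) ∉ normalizer (Pq E : Set G) := by
    intro h
    rw [← mul_assoc] at h
    exact z_ne H Q (sep' H hg hgN hz1 h)
  obtain ⟨u, hu, n, hn, hnN, h1⟩ := bru' H (inv_mem hg)
    (mul_mem (inv_mem hg) (mul_mem (H.p_mem 0 1) hg)) hg' hzg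
  -- `v = g u g⁻¹`, `z g = v n`
  have h2 : E.p 0 1 * g = g * u * g⁻¹ * n := by
    calc E.p 0 1 * g = g * (g⁻¹ * (E.p 0 1 * g)) := by group
      _ = _ := by rw [h1]; group
  refine ⟨g * u * g⁻¹, mul_mem (mul_mem hg (Pq_le H hu)) (inv_mem hg), ?_, ?_⟩
  · intro h
    apply hgN
    have : g = (E.p 0 1)⁻¹ * (g * u * g⁻¹ * n) := by rw [← h2]; group
    rw [this]
    exact mul_mem (inv_mem (le_normalizer hz1)) (mul_mem h hnN)
  · -- `φ v φ⁻¹ = g u' g⁻¹`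
    have hu' : n₀ * (φ * u * φ⁻¹) * n₀⁻¹ ∈ Pq E := (mem_normalizer_iff.mp hn₀N _).mp (φP H Q hu)
    have h3 : φ * (g * u * g⁻¹) * φ⁻¹ = g * (n₀ * (φ * u * φ⁻¹) * n₀⁻¹) * g⁻¹ := by
      calc φ * (g * u * g⁻¹) * φ⁻¹ = (φ * g * φ⁻¹) * (φ * u * φ⁻¹) * (φ * g * φ⁻¹)⁻¹ := by group
        _ = _ := by rw [h0]; group
    -- `φ(v) φ(n) = z g n₀ = v n n₀`
    have h4 : (φ * (g * u * g⁻¹) * φ⁻¹) * (φ * n * φ⁻¹) = g * u * g⁻¹ * n * n₀ := by
      calc (φ * (g * u * g⁻¹) * φ⁻¹) * (φ * n * φ⁻¹) = φ * (g * u * g⁻¹ * n) * φ⁻¹ := by group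
        _ = (φ * E.p 0 1 * φ⁻¹) * (φ * g * φ⁻¹) := by rw [← h2]; group
        _ = E.p 0 1 * g * n₀ := by rw [z_fix H Q, h0]; group
        _ = _ := by rw [h2]
    have h5 : u⁻¹ * (n₀ * (φ * u * φ⁻¹) * n₀⁻¹) = 1 := by
      apply sep H hg hgN (mul_mem (inv_mem hu) hu')
      have : g * (u⁻¹ * (n₀ * (φ * u * φ⁻¹) * n₀⁻¹)) * g⁻¹ = n * n₀ * (φ * n * φ⁻¹)⁻¹ := by
        calc g * (u⁻¹ * (n₀ * (φ * u * φ⁻¹) * n₀⁻¹)) * g⁻¹
            = (g * u * g⁻¹)⁻¹ * (g * (n₀ * (φ * u * φ⁻¹) * n₀⁻¹) * g⁻¹) := by group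
          _ = (g * u * g⁻¹)⁻¹ * (φ * (g * u * g⁻¹) * φ⁻¹) := by rw [h3]
          _ = (g * u * g⁻¹)⁻¹ * ((φ * (g * u * g⁻¹) * φ⁻¹) * (φ * n * φ⁻¹)) * (φ * n * φ⁻¹)⁻¹ := by
              group
          _ = _ := by rw [h4]; group
      rw [this]
      exact mul_mem (mul_mem hnN hn₀N) (inv_mem (φN H Q hnN))
    rw [h3, ← inv_mul_eq_one.mp h5]

end

end Cfsg.Agent.StdSz.ExoticStd
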