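import Cfsg.Agent.StdSz.ExoticY

/-!
# The exotic configuration for `Sz(8)`: the abelian group `W`
-/

set_option autoImplicit false
set_option linter.unusedSectionVars false

namespace Cfsg.Agent.StdSz.ExoticW

open Subgroup Cfsg.Agent.StdSz.Env Cfsg.Agent.StdSz.FormAlg Cfsg.Agent.StdSz.ExoticData
open Cfsg.Agent.StdSz.ExoticAct Cfsg.Agent.StdSz.ExoticHom Cfsg.Agent.StdSz.ExoticEight
open Cfsg.Agent.StdSz.ExoticStd

variable {G : Type*} [Group G] {F : Type*} [Field F] [Fintype F] [CharP F 2] [Finite G]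
variable {E : Env G F 1} {A W S : Subgroup G} {k : ℕ} (C : Cfg E A W S k)
include C

theorem z_pow (b : F) : E.p 0 b ^ 2 ^ k = 1 := by
  obtain ⟨l, hl⟩ : ∃ l, k = l + 1 := ⟨k - 1, by have := C.hk; omega⟩
  rw [hl, pow_succ, mul_comm, pow_mul, pow_two, E.z_self, one_pow]

/-- elements of `W` commuting with `t` are in `Z` -/
theorem W_comm_t {f : G} (hf : f ∈ W) (h : f * E.t = E.t * f) : ∃ b, f = E.p 0 b := by
  have h1 := C.W_t f hf
  rw [← h, mul_inv_cancel_right] at h1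
  have h3 : f * f = f ^ 2 ^ k := by
    nth_rewrite 1 [h1]
    group
  apply C.W_omega f hf
  obtain ⟨b, hb⟩ := z_of_pow C hf
  rw [h3]
  apply pow_two_k C
  rw [h3, hb, E.z_self]

/-- every element `t u`, `u ∈ W`, of order 2 is conjugate to `t` under `W`. -/
theorem conj_t {u : G} (hu : u ∈ W) (hu1 : u ^ 2 ^ k = 1) :
    ∃ w ∈ W, w * E.t * w⁻¹ = E.t * u := by
  let _ : CommGroup W := { (inferInstance : Group W) with
    mul_comm := fun a b => Subtype.ext (C.W_comm a a.2 b b.2) }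
  let e : W →* W :=
    { toFun := fun w => w ^ 2 ^ k * (w⁻¹ * w⁻¹)
      map_one' := by simp
      map_mul' := fun a b => by
        rw [mul_pow, mul_inv]
        ac_rfl }
  let p : W →* W := powMonoidHom (2 ^ k)
  have he : ∀ w : W, e w = w ^ 2 ^ k * (w⁻¹ * w⁻¹) := fun _ => rfl
  have hp : ∀ w : W, p w = w ^ 2 ^ k := fun _ => rfl
  have hexp : ∀ w : W, (w ^ 2 ^ k) ^ 2 ^ k = 1 := by
    intro w
    obtain ⟨b, hb⟩ := z_of_pow C w.2
    ext
    push_cast
    rw [hb]
    exact z_pow C b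
  have hker : e.ker = p.range := by
    ext w
    rw [MonoidHom.mem_ker, MonoidHom.mem_range, he]
    constructor
    · intro h
      have h1 : (w : G) * w = (w : G) ^ 2 ^ k := by
        have := congrArg Subtype.val h
        push_cast at this
        calc (w : G) * w = 1 * ((w : G) * w) := by group
          _ = (w : G) ^ 2 ^ k := by rw [← this]; group
      have h2 : ∃ b, (w : G) = E.p 0 b := by
        apply C.W_omega w w.2
        obtain ⟨b, hb⟩ := z_of_pow C w.2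
        rw [h1]
        apply pow_two_k C
        rw [h1, hb, E.z_self]
      obtain ⟨b, hb⟩ := h2
      obtain ⟨f, hf, hfb⟩ := C.W_pow b
      exact ⟨⟨f, hf⟩, Subtype.ext (by rw [hp]; push_cast; rw [hfb, hb])⟩
    · rintro ⟨f, rfl⟩
      obtain ⟨b, hb⟩ := z_of_pow C f.2
      rw [hp, hexp, one_mul]
      ext
      push_cast
      rw [hb, E.z_inv, E.z_self]
  have hle : e.range ≤ p.ker := by
    rintro _ ⟨w, rfl⟩
    rw [MonoidHom.mem_ker, hp, he, mul_pow, mul_pow, hexp, one_mul, inv_pow, ← mul_inv, ← mul_pow,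
      ← pow_two, ← pow_mul, ← pow_succ', inv_eq_one]
    ext
    push_cast
    exact C.W_exp w w.2
  have hcard : Nat.card e.range = Nat.card p.ker := by
    have h1 := Subgroup.card_eq_card_quotient_mul_card_subgroup e.ker
    have h2 := Subgroup.card_eq_card_quotient_mul_card_subgroup p.ker
    rw [Nat.card_congr (QuotientGroup.quotientKerEquivRange e).toEquiv, hker] at h1
    rw [Nat.card_congr (QuotientGroup.quotientKerEquivRange p).toEquiv] at h2
    have h3 : 0 < Nat.card p.range := Nat.card_pos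
    have h4 : Nat.card e.range * Nat.card p.range = Nat.card p.ker * Nat.card p.range := by
      rw [← h1, h2, mul_comm]
    exact Nat.eq_of_mul_eq_mul_right h3 h4
  have heq : e.range = p.ker := Subgroup.eq_of_le_of_card_ge hle hcard.ge
  have humem : (⟨u, hu⟩ : W) ∈ e.range := by
    rw [heq, MonoidHom.mem_ker, hp]
    ext
    exact hu1
  obtain ⟨w, hw⟩ := humem
  refine ⟨w, w.2, ?_⟩
  have h1 : u = (w : G) ^ 2 ^ k * ((w : G)⁻¹ * (w : G)⁻¹) := (congrArg Subtype.val hw).symm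
  have h2 := C.W_t w w.2
  rw [E.t_inv] at h2
  calc (w : G) * E.t * (w : G)⁻¹ = (E.t * E.t) * (w * E.t * (w : G)⁻¹) := by rw [E.t_sq, one_mul]
    _ = E.t * (E.t * w * E.t) * (w : G)⁻¹ := by group
    _ = E.t * u := by rw [h2, h1]; group

/-- the order of the coset of fixed points -/
theorem conj_fixed {φ : G} {j : ℕ} (Q : Phi E φ j) (hφW : ∀ f ∈ W, φ * f * φ⁻¹ ∈ W) {u : G}
    (hu : u ∈ W) (hu1 : u ^ 2 ^ k = 1) (hφu : φ * u * φ⁻¹ = u) :
    ∃ w ∈ W, φ * w * φ⁻¹ = w ∧ w * E.t * w⁻¹ = E.t * u := by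
  obtain ⟨w₀, hw₀, h0⟩ := conj_t C hu hu1
  let X := {w : G // w ∈ W ∧ w * E.t * w⁻¹ = E.t * u}
  have hφt : φ * E.t * φ⁻¹ = E.t := by rw [Q.comm, mul_inv_cancel_right]
  let T : X → X := fun w => ⟨φ * w.1 * φ⁻¹, hφW _ w.2.1, by
    calc φ * w.1 * φ⁻¹ * E.t * (φ * w.1 * φ⁻¹)⁻¹
        = φ * (w.1 * (φ⁻¹ * E.t * φ) * w.1⁻¹) * φ⁻¹ := by group
      _ = φ * (w.1 * E.t * w.1⁻¹) * φ⁻¹ := by
          have : φ⁻¹ * E.t * φ = E.t := by
            calc φ⁻¹ * E.t * φ = φ⁻¹ * (φ * E.t * φ⁻¹) * φ := by rw [hφt]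
              _ = E.t := by group
          rw [this]
      _ = (φ * E.t * φ⁻¹) * (φ * u * φ⁻¹) := by rw [w.2.2]; group
      _ = E.t * u := by rw [hφt, hφu]⟩
  have hTn : ∀ n : ℕ, ∀ w : X, ((T^[n] w : X) : G) = φ ^ n * w.1 * (φ ^ n)⁻¹ := by
    intro n
    induction n with
    | zero => intro w; simp
    | succ n ih =>
      intro w
      rw [Function.iterate_succ_apply']
      change φ * ((T^[n] w : X) : G) * φ⁻¹ = _
      rw [ih, pow_succ']; group
  have hcard : Nat.card X = 8 := by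
    let g : F → X := fun b => ⟨w₀ * E.p 0 b, mul_mem hw₀ (C.Z_le b), by
      calc w₀ * E.p 0 b * E.t * (w₀ * E.p 0 b)⁻¹ = w₀ * (E.p 0 b * E.t) * (E.p 0 b)⁻¹ * w₀⁻¹ := by
            group
        _ = w₀ * (E.t * E.p 0 b) * (E.p 0 b)⁻¹ * w₀⁻¹ := by rw [E.t_p]
        _ = w₀ * E.t * w₀⁻¹ := by group
        _ = _ := h0⟩
    have hg : Function.Bijective g := by
      constructor
      · intro b b' h
        have h1 : w₀ * E.p 0 b = w₀ * E.p 0 b' := congrArg Subtype.val h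
        exact E.z_inj (mul_left_cancel h1)
      · rintro ⟨w, hw, hwt⟩
        have h1 : (w₀⁻¹ * w) * E.t = E.t * (w₀⁻¹ * w) := by
          rw [← h0] at hwt
          calc (w₀⁻¹ * w) * E.t = w₀⁻¹ * (w * E.t * w⁻¹) * w := by group
            _ = w₀⁻¹ * (w₀ * E.t * w₀⁻¹) * w := by rw [hwt]
            _ = _ := by group
        obtain ⟨b, hb⟩ := W_comm_t C (mul_mem (inv_mem hw₀) hw) h1
        refine ⟨b, Subtype.ext ?_⟩
        change w₀ * E.p 0 b = w
        rw [← hb]; group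
    rw [← Nat.card_congr (Equiv.ofBijective g hg), Nat.card_eq_fintype_card, card_eight E]
  obtain ⟨w, hw⟩ := fix_of_iterate T j (fun w => Subtype.ext (by
    rw [hTn, Q.pow]; group)) (by rw [hcard]; norm_num)
  exact ⟨w.1, w.2.1, congrArg Subtype.val hw, w.2.2⟩

/-- a fixed element `f` of `W` with `f ^ 2 ^ k = z`. -/
theorem exists_f {φ : G} {j : ℕ} (Q : Phi E φ j) (hφW : ∀ f ∈ W, φ * f * φ⁻¹ ∈ W) :
    ∃ f ∈ W, φ * f * φ⁻¹ = f ∧ f ^ 2 ^ k = E.p 0 1 := by
  obtain ⟨f₀, hf₀, h0⟩ := C.W_pow 1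
  let X := {f : G // f ∈ W ∧ f ^ 2 ^ k = E.p 0 1}
  let T : X → X := fun w => ⟨φ * w.1 * φ⁻¹, hφW _ w.2.1, by
    rw [conj_pow, w.2.2, Q.hz, one_pow]⟩
  have hTn : ∀ n : ℕ, ∀ w : X, ((T^[n] w : X) : G) = φ ^ n * w.1 * (φ ^ n)⁻¹ := by
    intro n
    induction n with
    | zero => intro w; simp
    | succ n ih =>
      intro w
      rw [Function.iterate_succ_apply']
      change φ * ((T^[n] w : X) : G) * φ⁻¹ = _
      rw [ih, pow_succ']; group
  have hcard : ¬ 3 ∣ Nat.card X := by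
    -- `X` is a coset of a 2-group
    let M : Subgroup G :=
      { carrier := {f | f ∈ W ∧ f ^ 2 ^ k = 1}
        mul_mem' := fun {a b} ha hb => ⟨mul_mem ha.1 hb.1, by
          rw [(show Commute a b from C.W_comm a ha.1 b hb.1).mul_pow, ha.2, hb.2, one_mul]⟩
        one_mem' := ⟨one_mem _, one_pow _⟩
        inv_mem' := fun {a} ha => ⟨inv_mem ha.1, by rw [inv_pow, ha.2, inv_one]⟩ }
    have hM : IsPGroup 2 M := fun x => ⟨k, Subtype.ext x.2.2⟩
    let g : M → X := fun m => ⟨f₀ * m, mul_mem hf₀ m.2.1, by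
      rw [(show Commute f₀ (m : G) from C.W_comm f₀ hf₀ m m.2.1).mul_pow, m.2.2, h0, mul_one]⟩
    have hg : Function.Bijective g := by
      constructor
      · intro a b h
        exact Subtype.ext (mul_left_cancel (congrArg Subtype.val h))
      · rintro ⟨w, hw, hw1⟩
        refine ⟨⟨f₀⁻¹ * w, mul_mem (inv_mem hf₀) hw, ?_⟩, Subtype.ext ?_⟩
        · rw [(show Commute f₀⁻¹ w from C.W_comm _ (inv_mem hf₀) w hw).mul_pow, inv_pow, h0, hw1,
            inv_mul_cancel]
        · change f₀ * (f₀⁻¹ * w) = w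
          group
    rw [← Nat.card_congr (Equiv.ofBijective g hg)]
    have h2 : Fact (Nat.Prime 2) := ⟨Nat.prime_two⟩
    obtain ⟨n, hn⟩ := IsPGroup.iff_card.mp hM
    rw [hn]
    intro h
    have := (Nat.Prime.dvd_of_dvd_pow Nat.prime_three h)
    norm_num at this
  obtain ⟨w, hw⟩ := fix_of_iterate T j (fun w => Subtype.ext (by
    rw [hTn, Q.pow]; group)) hcard
  exact ⟨w.1, w.2.1, congrArg Subtype.val hw, w.2.2⟩

/-- the fixed elements of `W` are powers of `f` -/
theorem fixed_W {φ : G} {j : ℕ} (Q : Phi E φ j) {f : G} (hf : f ∈ W) (hfφ : φ * f * φ⁻¹ = f)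
    (hfz : f ^ 2 ^ k = E.p 0 1) (n : ℕ) : ∀ g ∈ W, φ * g * φ⁻¹ = g → g ^ 2 ^ n = 1 →
    g ∈ zpowers f := by
  have hz1 : E.p 0 1 ≠ 1 := fun h => one_ne_zero (E.z_eq_one h)
  induction n with
  | zero =>
    intro g _ _ h
    rw [pow_zero, pow_one] at h
    rw [h]; exact one_mem _
  | succ n ih =>
    intro g hg hgφ h
    have h1 : g * g ∈ zpowers f := by
      apply ih _ (mul_mem hg hg)
      · calc φ * (g * g) * φ⁻¹ = (φ * g * φ⁻¹) * (φ * g * φ⁻¹) := by group
          _ = g * g := by rw [hgφ]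
      · rw [← pow_two, ← pow_mul, ← pow_succ']; exact h
    obtain ⟨m, hm⟩ := mem_zpowers_iff.mp h1
    rcases Int.even_or_odd m with ⟨m', hm'⟩ | ⟨m', hm'⟩
    · have hcomm : Commute g (f ^ (-m')) := (show Commute g f from C.W_comm g hg f hf).zpow_right _
      have h2 : (g * f ^ (-m')) * (g * f ^ (-m')) = 1 := by
        have : (g * f ^ (-m')) * (g * f ^ (-m')) = (g * g) * (f ^ (-m') * f ^ (-m')) := by
          calc (g * f ^ (-m')) * (g * f ^ (-m')) = g * (f ^ (-m') * g) * f ^ (-m') := by group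
            _ = _ := by rw [← hcomm.eq]; group
        rw [this, ← hm, ← zpow_add, ← zpow_add, hm']
        have : m' + m' + (-m' + -m') = 0 := by ring
        rw [this, zpow_zero]
      obtain ⟨b, hb⟩ := C.W_omega _ (mul_mem hg (zpow_mem hf _)) h2
      have h3 : φ * (g * f ^ (-m')) * φ⁻¹ = g * f ^ (-m') := by
        calc φ * (g * f ^ (-m')) * φ⁻¹ = (φ * g * φ⁻¹) * (φ * f ^ (-m') * φ⁻¹) := by group
          _ = _ := by rw [hgφ, ← conj_zpow, hfφ]
      rw [hb, Q.hz] at h3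
      have h4 : g = (g * f ^ (-m')) * f ^ m' := by group
      rw [h4, hb]
      rcases sq_eq b (E.z_inj h3) with h5 | h5
      · rw [h5, E.p_zero, one_mul]; exact zpow_mem (mem_zpowers f) _
      · rw [h5, ← hfz]
        exact mul_mem (pow_mem (mem_zpowers f) _) (zpow_mem (mem_zpowers f) _)
    · exfalso
      apply hz1
      have h2 : (g * g) ^ 2 ^ k = 1 := by
        rw [← pow_two, ← pow_mul, ← pow_succ']; exact C.W_exp g hg
      rw [← hm, ← zpow_natCast, ← zpow_mul, mul_comm, zpow_mul, zpow_natCast, hfz, hm',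
        zpow_add, zpow_mul, zpow_one] at h2
      have h3 : E.p 0 1 ^ (2 : ℤ) = 1 := by
        have : E.p 0 1 ^ (2 : ℤ) = E.p 0 1 * E.p 0 1 := by rw [zpow_two]
        rw [this, E.z_self]
      rw [h3, one_zpow, one_mul] at h2
      exact h2

end Cfsg.Agent.StdSz.ExoticW
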