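import Cfsg.Agent.StdSz.ExoticStd
import Cfsg.Agent.Blocks.SylowIn

/-!
# The exotic configuration for `Sz(8)`: `C_A(φ)` has order 20
-/

set_option autoImplicit false
set_option linter.unusedSectionVars false

namespace Cfsg.Agent.StdSz.ExoticY

open Subgroup Cfsg.Agent.StdSz.Env Cfsg.Agent.StdSz.FormAlg Cfsg.Agent.StdSz.ExoticData
open Cfsg.Agent.StdSz.ExoticHom Cfsg.Agent.StdSz.ExoticEight Cfsg.Agent.StdSz.ExoticStd

/-- groups of order 20 have a unique subgroup of order 5 -/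
theorem mem_zpowers_of_card {K : Type*} [Group K] [Finite K] (hK : Nat.card K = 20) {y w : K}
    (hy : orderOf y = 5) (hw : orderOf w = 5) : w ∈ zpowers y := by
  have h5 : Fact (Nat.Prime 5) := ⟨by norm_num⟩
  have hf : (Nat.card K).factorization 5 = 1 := by
    rw [hK]
    have : (20 : ℕ) = 2 ^ 2 * 5 := by norm_num
    rw [this, Nat.factorization_mul (by norm_num) (by norm_num), Nat.factorization_pow]
    simp [Nat.Prime.factorization (show Nat.Prime 5 by norm_num),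
      Nat.Prime.factorization Nat.prime_two]
  let P : Sylow 5 K := Sylow.ofCard (zpowers y) (by rw [Nat.card_zpowers, hy, hf, pow_one])
  let Q : Sylow 5 K := Sylow.ofCard (zpowers w) (by rw [Nat.card_zpowers, hw, hf, pow_one])
  have hP : (P : Subgroup K) = zpowers y := rfl
  have hQ : (Q : Subgroup K) = zpowers w := rfl
  have h1 : Nat.card (Sylow 5 K) ∣ (P : Subgroup K).index := P.card_dvd_index
  have h2 : (P : Subgroup K).index = 4 := by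
    have := Subgroup.card_mul_index (P : Subgroup K)
    rw [hP, Nat.card_zpowers, hy, hK] at this
    rw [hP]; omega
  have h3 : Nat.card (Sylow 5 K) ≡ 1 [MOD 5] := card_sylow_modEq_one 5 K
  rw [h2] at h1
  have h4 : Nat.card (Sylow 5 K) = 1 := by
    have h5 : Nat.card (Sylow 5 K) ≤ 4 := Nat.le_of_dvd (by norm_num) h1
    have h6 : Nat.card (Sylow 5 K) % 5 = 1 := h3
    omega
  have h5 : P = Q := (Nat.card_eq_one_iff_unique.mp h4).1.elim P Q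
  have h6 : zpowers y = zpowers w := by rw [← hP, ← hQ, h5]
  rw [h6]; exact mem_zpowers w

variable {G : Type*} [Group G] {F : Type*} [Field F] [Fintype F] [CharP F 2]
variable [Finite G] {E : Env G F 1} {A : Subgroup G}

/-- the Sylow 2-subgroups of `A` are conjugate: an element normalizing `A` is a product. -/
theorem exists_conj (H : Std E A) {ρ : G} (hρ : ρ * E.t = E.t * ρ) :
    ∃ g ∈ A, g⁻¹ * ρ ∈ normalizer (Pq E : Set G) := by
  have h2 : Fact (Nat.Prime 2) := ⟨Nat.prime_two⟩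
  have hP2 : IsPGroup 2 (Pq E) := by
    intro x
    exact ⟨2, Subtype.ext (Pq_four x.2)⟩
  have hmax : ∀ R : Subgroup G, R ≤ A → IsPGroup 2 R → Pq E ≤ R → R = Pq E := by
    intro R hRA hR hPR
    apply Cfsg.Agent.Blocks.SylowIn.eq_of_normalizer_inf_le hR hPR
    rintro x ⟨hx, hxR⟩
    obtain ⟨j, hj⟩ := hR ⟨x, hxR⟩
    exact two_mem H (hRA hxR) hx (congrArg Subtype.val hj)
  have hS1 : ∃ S : Sylow 2 A, (S : Subgroup A).map A.subtype = Pq E :=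
    Cfsg.Agent.Blocks.SylowIn.exists_sylow_map_eq_iff.mpr ⟨Pq_le H, hP2, hmax⟩
  have hρ' : ρ⁻¹ * E.t = E.t * ρ⁻¹ := (show Commute ρ E.t from hρ).inv_left
  have hcA : A.map (MulAut.conj ρ).toMonoidHom = A := by
    apply le_antisymm
    · rintro _ ⟨x, hx, rfl⟩
      exact H.conj_mem ρ hρ x hx
    · intro x hx
      refine ⟨ρ⁻¹ * x * ρ⁻¹⁻¹, H.conj_mem _ hρ' x hx, ?_⟩
      change ρ * (ρ⁻¹ * x * ρ⁻¹⁻¹) * ρ⁻¹ = x
      group
  have hS2 : ∃ S : Sylow 2 A, (S : Subgroup A).map A.subtype =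
      (Pq E).map (MulAut.conj ρ).toMonoidHom := by
    rw [Cfsg.Agent.Blocks.SylowIn.exists_sylow_map_eq_iff]
    refine ⟨?_, hP2.map _, ?_⟩
    · calc (Pq E).map (MulAut.conj ρ).toMonoidHom ≤ A.map (MulAut.conj ρ).toMonoidHom :=
            Subgroup.map_mono (Pq_le H)
        _ = A := hcA
    · intro R hRA hR hPR
      have h3 : R.map (MulAut.conj ρ⁻¹).toMonoidHom = Pq E := by
        apply hmax
        · rintro _ ⟨x, hx, rfl⟩
          exact H.conj_mem _ hρ' x (hRA hx)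
        · exact hR.map _
        · intro x hx
          refine ⟨ρ * x * ρ⁻¹, hPR ⟨x, hx, rfl⟩, ?_⟩
          change ρ⁻¹ * (ρ * x * ρ⁻¹) * ρ⁻¹⁻¹ = x
          group
      rw [← h3]
      ext x
      constructor
      · intro hx
        refine ⟨ρ⁻¹ * x * ρ⁻¹⁻¹, ⟨x, hx, rfl⟩, ?_⟩
        change ρ * (ρ⁻¹ * x * ρ⁻¹⁻¹) * ρ⁻¹ = x
        group
      · rintro ⟨_, ⟨x, hx, rfl⟩, rfl⟩
        have : (MulAut.conj ρ).toMonoidHom ((MulAut.conj ρ⁻¹).toMonoidHom x) = x := by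
          change ρ * (ρ⁻¹ * x * ρ⁻¹⁻¹) * ρ⁻¹ = x
          group
        rw [this]; exact hx
  obtain ⟨g, hg, hgP⟩ := Cfsg.Agent.Blocks.SylowIn.exists_conj_of_sylow_map_eq hS1 hS2
  refine ⟨g, hg, mem_normalizer_of_finite ?_⟩
  intro x hx
  have h3 : ρ * x * ρ⁻¹ ∈ (Pq E).map (MulAut.conj g).toMonoidHom := by
    rw [hgP]; exact ⟨x, hx, rfl⟩
  obtain ⟨x', hx', h4⟩ := h3
  change g * x' * g⁻¹ = ρ * x * ρ⁻¹ at h4
  have : g⁻¹ * ρ * x * (g⁻¹ * ρ)⁻¹ = x' := by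
    calc g⁻¹ * ρ * x * (g⁻¹ * ρ)⁻¹ = g⁻¹ * (ρ * x * ρ⁻¹) * g := by group
      _ = x' := by rw [← h4]; group
  rw [this]; exact hx'

section

variable (H : Std E A) {φ : G} {j : ℕ} (Q : Phi E φ j)
include H Q

theorem fixed_Pq {d : F} (hx : φ * E.p 1 d * φ⁻¹ = E.p 1 d) {u : G} (hu : u ∈ Pq E)
    (h : φ * u * φ⁻¹ = u) : u ∈ zpowers (E.p 1 d) := by
  -- elements of `Z`
  have hZ : ∀ b, φ * E.p 0 b * φ⁻¹ = E.p 0 b → E.p 0 b ∈ zpowers (E.p 1 d) := by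
    intro b hb
    rw [Q.hz] at hb
    rcases sq_eq b (E.z_inj hb) with h1 | h1
    · rw [h1, E.p_zero]; exact one_mem _
    · have : E.p 0 b = E.p 1 d * E.p 1 d := by rw [E.p_sq, one_pow, h1]
      rw [this]
      exact mul_mem (mem_zpowers _) (mem_zpowers _)
  obtain ⟨a, b, rfl⟩ := hu
  obtain ⟨e, he⟩ := Q.hp a b
  rw [h] at he
  rcases sq_eq a (E.p_inj _ _ _ _ he).1.symm with h1 | h1
  · rw [h1] at h ⊢
    exact hZ b h
  · rw [h1] at h ⊢
    have h2 : E.p 1 b = E.p 0 (b + d) * E.p 1 d := by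
      rw [E.z_mul_p]
      congr 1
      linear_combination -(d * two0 (F := F))
    have h3 : φ * E.p 0 (b + d) * φ⁻¹ = E.p 0 (b + d) := by
      have h4 : E.p 0 (b + d) = E.p 1 b * (E.p 1 d)⁻¹ := by rw [h2]; group
      calc φ * E.p 0 (b + d) * φ⁻¹ = (φ * E.p 1 b * φ⁻¹) * (φ * E.p 1 d * φ⁻¹)⁻¹ := by
            rw [h4]; group
        _ = _ := by rw [h, hx, h4]
    rw [h2]
    exact mul_mem (hZ _ h3) (mem_zpowers _)

theorem fixed_N {d : F} (hx : φ * E.p 1 d * φ⁻¹ = E.p 1 d) {n : G} (hn : n ∈ A)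
    (hnN : n ∈ normalizer (Pq E : Set G)) (h : φ * n * φ⁻¹ = n) : n ∈ zpowers (E.p 1 d) := by
  obtain ⟨l, hl, hl1⟩ := H.nor n hn (NP_iff.mpr hnN)
  obtain ⟨e, he⟩ := hl 1 d
  have h1 : φ * (n * E.p 1 d * n⁻¹) * φ⁻¹ = n * E.p 1 d * n⁻¹ := by
    calc φ * (n * E.p 1 d * n⁻¹) * φ⁻¹ =
          (φ * n * φ⁻¹) * (φ * E.p 1 d * φ⁻¹) * (φ * n * φ⁻¹)⁻¹ := by group
      _ = _ := by rw [h, hx]
  rw [he, mul_one] at h1
  obtain ⟨e', he'⟩ := Q.hp l e
  rw [he'] at h1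
  rcases sq_eq (l : F) (E.p_inj _ _ _ _ h1).1 with h2 | h2
  · exact absurd h2 l.ne_zero
  · obtain ⟨a, b, hab⟩ := hl1 (Units.ext h2)
    exact fixed_Pq H Q hx ⟨a, b, hab⟩ h

/-- uniqueness in the Bruhat decomposition -/
theorem bru_unique {v : G} (hv : v ∈ A) (hvN : v ∉ normalizer (Pq E : Set G)) {u u' n n' : G}
    (hu : u ∈ Pq E) (hu' : u' ∈ Pq E) (hn : n ∈ normalizer (Pq E : Set G))
    (hn' : n' ∈ normalizer (Pq E : Set G)) (h : u * v * n = u' * v * n') : u = u' ∧ n = n' := by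
  have h1 : v⁻¹ * (u'⁻¹ * u) * v = n' * n⁻¹ := by
    calc v⁻¹ * (u'⁻¹ * u) * v = v⁻¹ * u'⁻¹ * (u * v * n) * n⁻¹ := by group
      _ = n' * n⁻¹ := by rw [h]; group
  have h2 : u'⁻¹ * u = 1 := by
    apply sep' H hv hvN (mul_mem (inv_mem hu') hu)
    rw [h1]
    exact mul_mem hn' (inv_mem hn)
  have h3 : u' = u := inv_mul_eq_one.mp h2
  refine ⟨h3.symm, ?_⟩
  rw [h3] at h
  exact mul_left_cancel h

theorem fixed_big {d : F} (hx : φ * E.p 1 d * φ⁻¹ = E.p 1 d) {v : G} (hv : v ∈ A)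
    (hvN : v ∉ normalizer (Pq E : Set G)) (hvφ : φ * v * φ⁻¹ = v) {g : G} (hg : g ∈ A)
    (hgN : g ∉ normalizer (Pq E : Set G)) (h : φ * g * φ⁻¹ = g) :
    ∃ u ∈ zpowers (E.p 1 d), ∃ n ∈ zpowers (E.p 1 d), g = u * v * n := by
  obtain ⟨u, hu, n, hn, hnN, h1⟩ := bru' H hv hg hvN hgN
  have h2 : (φ * u * φ⁻¹) * v * (φ * n * φ⁻¹) = u * v * n := by
    calc (φ * u * φ⁻¹) * v * (φ * n * φ⁻¹) =
          (φ * u * φ⁻¹) * (φ * v * φ⁻¹) * (φ * n * φ⁻¹) := by rw [hvφ]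
      _ = φ * (u * v * n) * φ⁻¹ := by group
      _ = _ := by rw [← h1, h]
  obtain ⟨h3, h4⟩ := bru_unique H Q hv hvN (φP H Q hu) hu (φN H Q hnN) hnN h2
  exact ⟨u, fixed_Pq H Q hx hu h3, n, fixed_N H Q hx hn hnN h4, h1⟩

theorem order_x (d : F) : orderOf (E.p 1 d) = 4 := by
  have : Fact (Nat.Prime 2) := ⟨Nat.prime_two⟩
  have h := orderOf_eq_prime_pow (p := 2) (n := 1) (x := E.p 1 d) ?_ ?_
  · rw [h]; norm_num
  · rw [pow_one, pow_two, E.p_sq, one_pow]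
    exact z_ne H Q
  · exact Pq_four (p_mem_Pq 1 d)

theorem zpowers_le_N (d : F) {u : G} (hu : u ∈ zpowers (E.p 1 d)) :
    u ∈ Pq E ∧ u ∈ normalizer (Pq E : Set G) := by
  have h1 : u ∈ Pq E := (zpowers_le.mpr (p_mem_Pq 1 d)) hu
  exact ⟨h1, le_normalizer h1⟩

theorem zpowers_fixed {d : F} (hx : φ * E.p 1 d * φ⁻¹ = E.p 1 d) {u : G}
    (hu : u ∈ zpowers (E.p 1 d)) : φ * u * φ⁻¹ = u := by
  obtain ⟨n, rfl⟩ := mem_zpowers_iff.mp hu
  rw [← conj_zpow, hx]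

/-- `C_A(φ)` has order 20. -/
theorem card_Y {d : F} (hx : φ * E.p 1 d * φ⁻¹ = E.p 1 d) :
    Nat.card ↥(A ⊓ centralizer ({φ} : Set G)) = 20 := by
  obtain ⟨v, hv, hvN, hvφ⟩ := exists_v H Q
  have hmem : ∀ g, g ∈ A ⊓ centralizer ({φ} : Set G) ↔ g ∈ A ∧ φ * g * φ⁻¹ = g := by
    intro g
    rw [mem_inf, mem_centralizer_singleton_iff, mul_inv_eq_iff_eq_mul, eq_comm (a := φ * g)]
  let L := zpowers (E.p 1 d)
  have hLA : ∀ u ∈ L, u ∈ A := fun u hu => Pq_le H (zpowers_le_N H Q d hu).1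
  let f : L ⊕ (L × L) → ↥(A ⊓ centralizer ({φ} : Set G)) := fun s =>
    match s with
    | Sum.inl u => ⟨u, (hmem _).mpr ⟨hLA u u.2, zpowers_fixed H Q hx u.2⟩⟩
    | Sum.inr (u, n) => ⟨u * v * n, (hmem _).mpr ⟨mul_mem (mul_mem (hLA u u.2) hv) (hLA n n.2), by
        calc φ * (u * v * n) * φ⁻¹ = (φ * u * φ⁻¹) * (φ * v * φ⁻¹) * (φ * n * φ⁻¹) := by group
          _ = _ := by rw [zpowers_fixed H Q hx u.2, hvφ, zpowers_fixed H Q hx n.2]⟩⟩
  have hf : Function.Bijective f := by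
    constructor
    · rintro (u | ⟨u, n⟩) (u' | ⟨u', n'⟩) h
      · have h1 : ((f (Sum.inl u) : _) : G) = (f (Sum.inl u') : _) := by rw [h]
        exact congrArg Sum.inl (Subtype.ext h1)
      · exfalso
        have h1 : (u : G) = u' * v * n' := congrArg Subtype.val h
        apply hvN
        have h2 : v = (u' : G)⁻¹ * u * (n' : G)⁻¹ := by rw [h1]; group
        rw [h2]
        exact mul_mem (mul_mem (inv_mem (zpowers_le_N H Q d u'.2).2) (zpowers_le_N H Q d u.2).2)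
          (inv_mem (zpowers_le_N H Q d n'.2).2)
      · exfalso
        have h1 : (u : G) * v * n = u' := congrArg Subtype.val h
        apply hvN
        have h2 : v = (u : G)⁻¹ * u' * (n : G)⁻¹ := by rw [← h1]; group
        rw [h2]
        exact mul_mem (mul_mem (inv_mem (zpowers_le_N H Q d u.2).2) (zpowers_le_N H Q d u'.2).2)
          (inv_mem (zpowers_le_N H Q d n.2).2)
      · have h1 : (u : G) * v * n = u' * v * n' := congrArg Subtype.val h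
        obtain ⟨h2, h3⟩ := bru_unique H Q hv hvN (zpowers_le_N H Q d u.2).1
          (zpowers_le_N H Q d u'.2).1 (zpowers_le_N H Q d n.2).2 (zpowers_le_N H Q d n'.2).2 h1
        rw [Subtype.ext h2, Subtype.ext h3]
    · rintro ⟨g, hg⟩
      rw [hmem] at hg
      by_cases hgN : g ∈ normalizer (Pq E : Set G)
      · exact ⟨Sum.inl ⟨g, fixed_N H Q hx hg.1 hgN hg.2⟩, rfl⟩
      · obtain ⟨u, hu, n, hn, h1⟩ := fixed_big H Q hx hv hvN hvφ hg.1 hgN hg.2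
        exact ⟨Sum.inr (⟨u, hu⟩, ⟨n, hn⟩), Subtype.ext h1.symm⟩
  have hL : Nat.card L = 4 := by rw [Nat.card_zpowers, order_x H Q d]
  rw [← Nat.card_congr (Equiv.ofBijective f hf), Nat.card_sum, Nat.card_prod, hL]

/-- transitivity of `C_A(φ)` on the `φ`-invariant conjugates of `P` -/
theorem trans {g : G} (hg : g ∈ A) (h : g⁻¹ * (φ * g * φ⁻¹) ∈ normalizer (Pq E : Set G)) :
    ∃ y ∈ A, φ * y * φ⁻¹ = y ∧ ∃ n ∈ normalizer (Pq E : Set G), g = y * n := by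
  obtain ⟨v, hv, hvN, hvφ⟩ := exists_v H Q
  by_cases hgN : g ∈ normalizer (Pq E : Set G)
  · exact ⟨1, one_mem _, by group, g, hgN, by group⟩
  · obtain ⟨u, hu, n, hn, hnN, h1⟩ := bru' H hv hg hvN hgN
    refine ⟨u * v, mul_mem (Pq_le H hu) hv, ?_, n, hnN, h1⟩
    have h2 : u⁻¹ * (φ * u * φ⁻¹) = 1 := by
      apply sep' H hv hvN (mul_mem (inv_mem hu) (φP H Q hu))
      have : v⁻¹ * (u⁻¹ * (φ * u * φ⁻¹)) * v =
          n * (g⁻¹ * (φ * g * φ⁻¹)) * (φ * n * φ⁻¹)⁻¹ := by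
        rw [h1]
        calc v⁻¹ * (u⁻¹ * (φ * u * φ⁻¹)) * v
            = v⁻¹ * (u⁻¹ * (φ * u * φ⁻¹)) * (φ * v * φ⁻¹) := by rw [hvφ]
          _ = _ := by group
      rw [this]
      exact mul_mem (mul_mem hnN h) (inv_mem (φN H Q hnN))
    calc φ * (u * v) * φ⁻¹ = (φ * u * φ⁻¹) * (φ * v * φ⁻¹) := by group
      _ = _ := by rw [hvφ, ← inv_mul_eq_one.mp h2]

/-- the element of order 5 and its properties -/
theorem exists_y {d : F} (hx : φ * E.p 1 d * φ⁻¹ = E.p 1 d) : ∃ y ∈ A, φ * y * φ⁻¹ = y ∧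
    orderOf y = 5 ∧ E.p 0 1 * y * (E.p 0 1)⁻¹ = y⁻¹ ∧
    (∀ g, g * E.t = E.t * g → φ * g * φ⁻¹ = g → g * y * g⁻¹ ∈ zpowers y) ∧
    ∀ g, g * E.t = E.t * g → φ * g * φ⁻¹ = g →
      E.p 0 1 * g * (E.p 0 1)⁻¹ * g⁻¹ ∈ zpowers y := by
  classical
  have h5 : Fact (Nat.Prime 5) := ⟨by norm_num⟩
  set Y := A ⊓ centralizer ({φ} : Set G) with hY
  have hmem : ∀ g, g ∈ Y ↔ g ∈ A ∧ φ * g * φ⁻¹ = g := by
    intro g
    rw [hY, mem_inf, mem_centralizer_singleton_iff, mul_inv_eq_iff_eq_mul, eq_comm (a := φ * g)]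
  have hcard : Nat.card Y = 20 := card_Y H Q hx
  obtain ⟨y, hy⟩ := exists_prime_orderOf_dvd_card' (G := Y) 5 (by rw [hcard]; norm_num)
  have hyo : orderOf (y : G) = 5 := by rw [← hy]; exact Subgroup.orderOf_coe y
  have hy1 : (y : G) ≠ 1 := by
    intro h
    rw [h, orderOf_one] at hyo
    norm_num at hyo
  have hy5 : (y : G) ^ 5 = 1 := by rw [← hyo]; exact pow_orderOf_eq_one _
  obtain ⟨hyA, hyφ⟩ := (hmem _).mp y.2
  -- uniqueness
  have huniq : ∀ w ∈ Y, orderOf w = 5 → w ∈ zpowers (y : G) := by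
    intro w hw hwo
    have h1 : orderOf (⟨w, hw⟩ : Y) = 5 := by rw [← hwo]; exact (Subgroup.orderOf_coe _).symm
    obtain ⟨n, hn⟩ := mem_zpowers_iff.mp (mem_zpowers_of_card hcard hy h1)
    exact mem_zpowers_iff.mpr ⟨n, congrArg Subtype.val hn⟩
  have hconj : ∀ g, g * E.t = E.t * g → φ * g * φ⁻¹ = g → ∀ w ∈ Y, g * w * g⁻¹ ∈ Y := by
    intro g hgt hgφ w hw
    rw [hmem] at hw ⊢
    refine ⟨H.conj_mem g hgt w hw.1, ?_⟩
    calc φ * (g * w * g⁻¹) * φ⁻¹ = (φ * g * φ⁻¹) * (φ * w * φ⁻¹) * (φ * g * φ⁻¹)⁻¹ := by group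
      _ = _ := by rw [hgφ, hw.2]
  have horder : ∀ g w : G, orderOf (g * w * g⁻¹) = orderOf w := fun g w =>
    orderOf_injective (MulAut.conj g).toMonoidHom (MulAut.conj g).injective w
  have hCy : ∀ g, g * E.t = E.t * g → φ * g * φ⁻¹ = g → g * (y : G) * g⁻¹ ∈ zpowers (y : G) :=
    fun g hgt hgφ => huniq _ (hconj g hgt hgφ y y.2) (by rw [horder, hyo])
  have hzt : E.p 0 1 * E.t = E.t * E.p 0 1 := (E.t_p 0 1).symm
  have hzY : E.p 0 1 ∈ Y := (hmem _).mpr ⟨H.p_mem 0 1, z_fix H Q⟩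
  -- `z` inverts `y`
  have hzy : E.p 0 1 * (y : G) * (E.p 0 1)⁻¹ = (y : G)⁻¹ := by
    have h1 := hCy _ hzt (z_fix H Q)
    obtain ⟨n, hn5, hn⟩ : ∃ n < 5, (y : G) ^ n = E.p 0 1 * (y : G) * (E.p 0 1)⁻¹ := by
      obtain ⟨n, hn, h2⟩ := mem_zpowers_iff_mem_range_orderOf.mp h1 |> Finset.mem_image.mp
      rw [Finset.mem_range, hyo] at hn
      exact ⟨n, hn, h2⟩
    have hzz : E.p 0 1 * E.p 0 1 = 1 := E.z_self 1
    have h3 : (y : G) ^ (n * n) = y := by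
      calc (y : G) ^ (n * n) = ((y : G) ^ n) ^ n := by rw [pow_mul]
        _ = (E.p 0 1 * (y : G) * (E.p 0 1)⁻¹) ^ n := by rw [hn]
        _ = E.p 0 1 * (y : G) ^ n * (E.p 0 1)⁻¹ := conj_pow
        _ = (E.p 0 1 * E.p 0 1) * y * (E.p 0 1 * E.p 0 1)⁻¹ := by rw [hn]; group
        _ = y := by rw [hzz]; group
    have hpow : ∀ a b : ℕ, (y : G) ^ a = (y : G) ^ b → a ≡ b [MOD 5] := by
      intro a b hab
      rw [← hyo]
      exact pow_eq_pow_iff_modEq.mp hab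
    have h4 := hpow (n * n) 1 (by rw [h3, pow_one])
    interval_cases n
    · exact absurd h4 (by decide)
    · exfalso
      -- `y` commutes with `z`
      rw [pow_one] at hn
      have h5 : (y : G) * E.p 0 1 * (y : G)⁻¹ = E.p 0 1 := by
        have h6 : (y : G) * E.p 0 1 = E.p 0 1 * y := by
          rw [eq_mul_inv_iff_mul_eq] at hn
          exact hn
        rw [h6, mul_inv_cancel_right]
      have h6 : (y : G) ∈ normalizer (Pq E : Set G) := by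
        apply ti' H hyA (p_mem_Pq 0 1) (z_ne H Q)
        rw [h5]; exact p_mem_Pq 0 1
      have h7 := fixed_N H Q hx hyA h6 hyφ
      have h8 : (y : G) ^ 2 ^ 2 = 1 := Pq_four (zpowers_le_N H Q d h7).1
      apply hy1
      have h9 : (y : G) = (y : G) ^ 5 * ((y : G) ^ 2 ^ 2)⁻¹ := by group
      rw [h9, hy5, h8]; group
    · exact absurd h4 (by decide)
    · exact absurd h4 (by decide)
    · rw [← hn, eq_comm, inv_eq_iff_mul_eq_one, ← pow_succ']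
      exact hy5
  refine ⟨y, hyA, hyφ, hyo, hzy, hCy, ?_⟩
  intro g hgt hgφ
  -- the quotient `Y / ⟨y⟩`
  let M : Subgroup Y := zpowers y
  have hM : M.Normal := by
    refine ⟨fun m hm k => ?_⟩
    obtain ⟨n, rfl⟩ := mem_zpowers_iff.mp hm
    have h1 : k * y * k⁻¹ ∈ zpowers y := mem_zpowers_of_card hcard hy (by
      rw [← hy]
      exact orderOf_injective (MulAut.conj k).toMonoidHom (MulAut.conj k).injective y)
    rw [← conj_zpow]
    exact zpow_mem h1 n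
  have hMcard : Nat.card (Y ⧸ M) = 4 := by
    have h1 := Subgroup.card_eq_card_quotient_mul_card_subgroup M
    rw [hcard, Nat.card_zpowers, hy] at h1
    omega
  have hxY : E.p 1 d ∈ Y := (hmem _).mpr ⟨H.p_mem 1 d, hx⟩
  have hM5 : ∀ m ∈ M, m * m = 1 → m = 1 := by
    intro m hm hmm
    obtain ⟨n, rfl⟩ := mem_zpowers_iff.mp hm
    have h1 : (y ^ n) ^ 5 = 1 := by
      rw [← zpow_natCast, ← zpow_mul, mul_comm, zpow_mul, zpow_natCast]
      have : y ^ 5 = 1 := by rw [← hy]; exact pow_orderOf_eq_one y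
      rw [this, one_zpow]
    have h2 : y ^ n = (y ^ n) ^ 5 * (((y ^ n) * (y ^ n)) * ((y ^ n) * (y ^ n)))⁻¹ := by group
    rw [h2, h1, hmm]; group
  -- `x̄` has order 4
  have hzx : (⟨E.p 0 1, hzY⟩ : Y) = ⟨E.p 1 d, hxY⟩ * ⟨E.p 1 d, hxY⟩ := by
    ext
    change E.p 0 1 = E.p 1 d * E.p 1 d
    rw [E.p_sq, one_pow]
  have hzM : (⟨E.p 0 1, hzY⟩ : Y) ∉ M := by
    intro h
    have h1 := hM5 _ h (Subtype.ext (E.z_self 1))
    exact z_ne H Q (congrArg Subtype.val h1)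
  have hxo : orderOf (QuotientGroup.mk (s := M) (⟨E.p 1 d, hxY⟩ : Y)) = 4 := by
    have : Fact (Nat.Prime 2) := ⟨Nat.prime_two⟩
    have h := orderOf_eq_prime_pow (p := 2) (n := 1)
      (x := (QuotientGroup.mk (s := M) (⟨E.p 1 d, hxY⟩ : Y))) ?_ ?_
    · rw [h]; norm_num
    · rw [pow_one, pow_two, ← QuotientGroup.mk_mul, ← hzx, QuotientGroup.eq_one_iff]
      exact hzM
    · rw [← QuotientGroup.mk_pow, QuotientGroup.eq_one_iff]
      have : (⟨E.p 1 d, hxY⟩ : Y) ^ 2 ^ (1 + 1) = 1 := Subtype.ext (Pq_four (p_mem_Pq 1 d))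
      rw [this]; exact one_mem _
  have hgen : ∀ q : Y ⧸ M, q ∈ zpowers (QuotientGroup.mk (s := M) (⟨E.p 1 d, hxY⟩ : Y)) := by
    have h1 : zpowers (QuotientGroup.mk (s := M) (⟨E.p 1 d, hxY⟩ : Y)) = ⊤ := by
      apply Subgroup.eq_top_of_card_eq
      rw [Nat.card_zpowers, hxo, hMcard]
    intro q
    rw [h1]; exact mem_top q
  -- the conjugate of `z`
  have hwY : g * E.p 0 1 * g⁻¹ ∈ Y := hconj g hgt hgφ _ hzY
  have hw2 : (⟨g * E.p 0 1 * g⁻¹, hwY⟩ : Y) * ⟨g * E.p 0 1 * g⁻¹, hwY⟩ = 1 := by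
    ext
    change g * E.p 0 1 * g⁻¹ * (g * E.p 0 1 * g⁻¹) = 1
    calc g * E.p 0 1 * g⁻¹ * (g * E.p 0 1 * g⁻¹) = g * (E.p 0 1 * E.p 0 1) * g⁻¹ := by group
      _ = 1 := by rw [E.z_self]; group
  have hwM : (⟨g * E.p 0 1 * g⁻¹, hwY⟩ : Y) ∉ M := by
    intro h
    have h1 := hM5 _ h hw2
    have h2 : g * E.p 0 1 * g⁻¹ = 1 := congrArg Subtype.val h1
    apply z_ne H Q
    have : E.p 0 1 = g⁻¹ * (g * E.p 0 1 * g⁻¹) * g := by group
    rw [this, h2]; group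
  have hkey : (⟨E.p 0 1, hzY⟩ : Y) * (⟨g * E.p 0 1 * g⁻¹, hwY⟩ : Y)⁻¹ ∈ M := by
    rw [← QuotientGroup.eq_one_iff, QuotientGroup.mk_mul, QuotientGroup.mk_inv, mul_inv_eq_one]
    set X := QuotientGroup.mk (s := M) (⟨E.p 1 d, hxY⟩ : Y) with hX
    have hzX : QuotientGroup.mk (s := M) (⟨E.p 0 1, hzY⟩ : Y) = X * X := by
      rw [hX, hzx]; rfl
    obtain ⟨n, hn⟩ := mem_zpowers_iff.mp (hgen (QuotientGroup.mk (⟨g * E.p 0 1 * g⁻¹, hwY⟩ : Y)))
    have h1 : X ^ (2 * n) = 1 := by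
      have h2 : QuotientGroup.mk (s := M) (⟨g * E.p 0 1 * g⁻¹, hwY⟩ : Y) *
          QuotientGroup.mk (s := M) (⟨g * E.p 0 1 * g⁻¹, hwY⟩ : Y) = 1 := by
        rw [← QuotientGroup.mk_mul, hw2]; rfl
      rw [← hn, ← zpow_add] at h2
      rw [two_mul]; exact h2
    have h2 : (4 : ℤ) ∣ 2 * n := by
      have := orderOf_dvd_iff_zpow_eq_one.mpr h1
      rw [hxo] at this
      exact this
    obtain ⟨m, hm⟩ : (2 : ℤ) ∣ n := by omega
    have hX4 : X ^ (4 : ℤ) = 1 := by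
      have := pow_orderOf_eq_one X
      rw [hxo] at this
      exact_mod_cast this
    rcases Int.even_or_odd m with ⟨m', hm'⟩ | ⟨m', hm'⟩
    · exfalso
      apply hwM
      rw [← QuotientGroup.eq_one_iff, ← hn, hm, hm']
      have : 2 * (m' + m') = 4 * m' := by ring
      rw [this, zpow_mul, hX4, one_zpow]
    · rw [hzX, ← hn, hm, hm']
      have : 2 * (2 * m' + 1) = 4 * m' + 2 := by ring
      rw [this, zpow_add, zpow_mul, hX4, one_zpow, one_mul, zpow_two]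
  obtain ⟨n, hn⟩ := mem_zpowers_iff.mp hkey
  refine mem_zpowers_iff.mpr ⟨n, ?_⟩
  have h1 : (y : G) ^ n = E.p 0 1 * (g * E.p 0 1 * g⁻¹)⁻¹ := congrArg Subtype.val hn
  rw [h1]; group

end

end Cfsg.Agent.StdSz.ExoticY
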