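import Cfsg.Agent.StdSz.FormAlg
import Mathlib.LinearAlgebra.Dual.Lemmas

/-!
# Automorphisms of the form on `Q / Z` fix `t`, unless `δ = 0` and `γ ∈ {0, 1}`
-/

set_option autoImplicit false
set_option linter.unusedSectionVars false
set_option linter.style.haveILetI false

namespace Cfsg.Agent.StdSz.FixT

open Cfsg.Agent.StdSz.EquivMaps Cfsg.Agent.StdSz.SzMaps Cfsg.Agent.StdSz.FormAlg

variable {F : Type*} [Field F] [Fintype F] [CharP F 2]

theorem exists_ne_zero_one {m : ℕ} (hm : 1 ≤ m) (hF : Fintype.card F = 2 ^ (2 * m + 1)) (u : F) :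
    ∃ y : F, y ≠ 0 ∧ y ≠ 1 ∧ y ≠ u := by
  classical
  by_contra hcon
  push Not at hcon
  have h1 : (Finset.univ : Finset F) ⊆ {0, 1, u} := by
    intro y _
    simp only [Finset.mem_insert, Finset.mem_singleton]
    by_cases h0 : y = 0
    · exact Or.inl h0
    · by_cases h1 : y = 1
      · exact Or.inr (Or.inl h1)
      · exact Or.inr (Or.inr (hcon y h0 h1))
  have h2 := Finset.card_le_card h1
  have h3 : ({0, 1, u} : Finset F).card ≤ 3 := Finset.card_le_three
  rw [Finset.card_univ, hF] at h2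
  have : 2 ^ 3 ≤ 2 ^ (2 * m + 1) := Nat.pow_le_pow_right (by norm_num) (by omega)
  omega

theorem pow_pow_card {m : ℕ} (hF : Fintype.card F = 2 ^ (2 * m + 1)) (x : F) :
    (x ^ (2 ^ (m + 1))) ^ (2 ^ m) = x := by
  rw [← pow_mul, ← _root_.pow_add]
  have : m + 1 + m = 2 * m + 1 := by ring
  rw [this, ← hF, FiniteField.pow_card]

section Radical

variable {m : ℕ} {δ : F}

theorem radical_zero (hF : Fintype.card F = 2 ^ (2 * m + 1)) (hδ : δ ≠ 0) (φ : F →+ ZMod 2)
    (hφ : φ ≠ 0) (r : V3 F) (h0 : r.1 = 0)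
    (hr : ∀ y : V3 F, y.1 = 0 → φ (B m δ r y) = 0) : r = 0 := by
  obtain ⟨e, a, u⟩ := r
  simp only at h0
  subst h0
  have key : ∀ c : F, c ≠ 0 → (∀ x, φ (δ * (x * c) ^ (2 ^ m)) = 0) → False := by
    intro c hc h
    apply hφ
    ext z
    have h1 := h (((z / δ) ^ (2 ^ (m + 1))) * c⁻¹)
    rw [inv_mul_cancel_right₀ hc, pow_pow_card hF, mul_div_cancel₀ _ hδ] at h1
    simpa using h1
  have ha : a = 0 := by
    by_contra ha
    apply key a ha
    intro x
    have := hr (0, 0, x) rfl
    simpa [B] using this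
  subst ha
  have hu : u = 0 := by
    by_contra hu
    apply key u hu
    intro x
    have := hr (0, x, 0) rfl
    rw [mul_comm x u]
    simpa [B] using this
  subst hu
  rfl

theorem exists_radical (hF : Fintype.card F = 2 ^ (2 * m + 1)) (hδ : δ ≠ 0) (φ : F →+ ZMod 2)
    (hφ : φ ≠ 0) : ∃ r : V3 F, r.1 = 1 ∧ ∀ y, φ (B m δ r y) = 0 := by
  letI : Algebra (ZMod 2) F := ZMod.algebra F 2
  -- the linear map from `F × F` to its dual
  let g : F × F → F × F → ZMod 2 := fun x y => φ (B m δ (0, x) (0, y))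
  have gl : ∀ x x' y, g (x + x') y = g x y + g x' y := by
    intro x x' y
    simp only [g]
    have : ((0 : ZMod 2), x + x') = (0, x) + (0, x') := by simp
    rw [this, B_add_left, map_add]
  have gr : ∀ x y y', g x (y + y') = g x y + g x y' := by
    intro x y y'
    simp only [g]
    have : ((0 : ZMod 2), y + y') = (0, y) + (0, y') := by simp
    rw [this, B_add_right, map_add]
  let L1 : F × F → Module.Dual (ZMod 2) (F × F) := fun x =>
    (AddMonoidHom.mk' (fun y => g x y) (gr x)).toZModLinearMap 2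
  have hL1 : ∀ x y, L1 x y = g x y := fun x y => rfl
  let L : (F × F) →ₗ[ZMod 2] Module.Dual (ZMod 2) (F × F) :=
    (AddMonoidHom.mk' L1 (fun x x' => by
      ext y
      · simp [hL1, gl]
      · simp [hL1, gl])).toZModLinearMap 2
  have hL : ∀ x y, L x y = g x y := fun x y => rfl
  have hinj : Function.Injective L := by
    rw [← LinearMap.ker_eq_bot, LinearMap.ker_eq_bot']
    intro x hx
    have h1 : ((0 : ZMod 2), x) = (0 : V3 F) := by
      apply radical_zero hF hδ φ hφ _ rfl
      intro y hy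
      obtain ⟨e, y⟩ := y
      simp only at hy
      subst hy
      have := congrArg (fun l => l y) hx
      exact this
    exact congrArg Prod.snd h1
  have hsurj : Function.Surjective L := by
    rw [← LinearMap.injective_iff_surjective_of_finrank_eq_finrank]
    · exact hinj
    · exact (Subspace.dual_finrank_eq).symm
  -- functional of `t`
  obtain ⟨x, hx⟩ := hsurj ((AddMonoidHom.mk' (fun y : F × F => φ (B m δ tt (0, y)))
    (fun y y' => by
      have : ((0 : ZMod 2), y + y') = (0, y) + (0, y') := by simp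
      rw [this, B_add_right, map_add])).toZModLinearMap 2)
  have hx' : ∀ y : F × F, φ (B m δ (0, x) (0, y)) = φ (B m δ tt (0, y)) := by
    intro y
    have := congrArg (fun l => l y) hx
    exact this
  refine ⟨tt + (0, x), ?_, ?_⟩
  · simp [tt]
  · have e2 : ∀ z : ZMod 2, z + z = 0 := by decide
    have h1 : ∀ y : F × F, φ (B m δ (tt + (0, x)) (0, y)) = 0 := by
      intro y
      rw [B_add_left, map_add, hx' y, e2]
    have h2 : φ (B m δ (tt + (0, x)) tt) = 0 := by
      rw [B_add_left, map_add, B_self, map_zero, zero_add, B_comm, ← hx' x, B_self, map_zero]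
    intro y
    obtain ⟨e, y⟩ := y
    rcases zmod_cases e with rfl | rfl
    · exact h1 y
    · have : ((1 : ZMod 2), y) = tt + (0, y) := by
        unfold tt
        ext <;> simp
      rw [this, B_add_right, map_add, h1, h2, add_zero]

theorem fix_of_delta (hm : 1 ≤ m) (hF : Fintype.card F = 2 ^ (2 * m + 1)) (hδ : δ ≠ 0)
    (s : V3 F ≃+ V3 F) (sZ : F ≃+ F) (hB : ∀ x y, B m δ (s x) (s y) = sZ (B m δ x y)) :
    s tt = tt := by
  classical
  haveI : Finite (F →+ ZMod 2) :=
    Finite.of_injective (fun f : F →+ ZMod 2 => (f : F → ZMod 2)) DFunLike.coe_injective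
  haveI : Fintype (F →+ ZMod 2) := Fintype.ofFinite _
  have hex : ∀ φ : F →+ ZMod 2, ∃ r : V3 F, φ ≠ 0 → (r.1 = 1 ∧ ∀ y, φ (B m δ r y) = 0) := by
    intro φ
    by_cases hφ : φ = 0
    · exact ⟨0, fun h => absurd hφ h⟩
    · obtain ⟨r, hr⟩ := exists_radical hF hδ φ hφ
      exact ⟨r, fun _ => hr⟩
  choose rad hrad using hex
  have huniq : ∀ φ : F →+ ZMod 2, φ ≠ 0 → ∀ r : V3 F, r ≠ 0 → (∀ y, φ (B m δ r y) = 0) →
      r = rad φ := by
    intro φ hφ r hr0 hr
    have e2 : ∀ z : ZMod 2, z + z = 0 := by decide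
    rcases zmod_cases r.1 with h1 | h1
    · exact absurd (radical_zero hF hδ φ hφ r h1 (fun y _ => hr y)) hr0
    · have h2 : r + rad φ = 0 := by
        apply radical_zero hF hδ φ hφ
        · rw [Prod.fst_add, h1, (hrad φ hφ).1]; decide
        · intro y _
          rw [B_add_left, map_add, hr y, (hrad φ hφ).2 y, add_zero]
      have h3 : rad φ + rad φ = 0 := by
        ext
        · simp [e2]
        · simp [FormAlg.add_self]
        · simp [FormAlg.add_self]
      have := h2.trans h3.symm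
      exact add_right_cancel this
  let T : V3 F := ∑ φ : {φ : F →+ ZMod 2 // φ ≠ 0}, rad φ.1
  -- invariance
  have hinv : ∀ (s : V3 F ≃+ V3 F) (sZ : F ≃+ F),
      (∀ x y, B m δ (s x) (s y) = sZ (B m δ x y)) → s T = T := by
    intro s sZ hB
    have hne : ∀ φ : F →+ ZMod 2, φ ≠ 0 → φ.comp (sZ.symm : F →+ F) ≠ 0 := by
      intro φ hφ h
      apply hφ
      ext x
      have := congrArg (fun f : F →+ ZMod 2 => f (sZ x)) h
      simpa using this
    have hmap : ∀ φ : F →+ ZMod 2, φ ≠ 0 → s (rad φ) = rad (φ.comp (sZ.symm : F →+ F)) := by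
      intro φ hφ
      apply huniq _ (hne φ hφ)
      · intro h
        have h1 : rad φ = 0 := by
          have := congrArg s.symm h
          simpa using this
        have h2 := (hrad φ hφ).1
        rw [h1] at h2
        have h3 : (0 : ZMod 2) = 1 := h2
        exact absurd h3 (by decide)
      · intro y
        obtain ⟨y', rfl⟩ := s.surjective y
        rw [hB]
        have := (hrad φ hφ).2 y'
        simpa using this
    have hinj : ∀ φ ψ : F →+ ZMod 2, φ.comp (sZ.symm : F →+ F) = ψ.comp (sZ.symm : F →+ F) →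
        φ = ψ := by
      intro φ ψ h
      ext x
      have := congrArg (fun f : F →+ ZMod 2 => f (sZ x)) h
      simpa using this
    let E : {φ : F →+ ZMod 2 // φ ≠ 0} → {φ : F →+ ZMod 2 // φ ≠ 0} :=
      fun φ => ⟨φ.1.comp (sZ.symm : F →+ F), hne φ.1 φ.2⟩
    have hE : Function.Bijective E := by
      apply Finite.injective_iff_bijective.mp
      intro φ ψ h
      exact Subtype.ext (hinj _ _ (congrArg Subtype.val h))
    simp only [T]
    rw [map_sum]
    rw [← hE.sum_comp (fun φ : {φ : F →+ ZMod 2 // φ ≠ 0} => rad φ.1)]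
    exact Finset.sum_congr rfl fun φ _ => hmap φ.1 φ.2
  -- the torus
  have hT1 : T.1 = 1 := by
    simp only [T]
    rw [Prod.fst_sum]
    have h1 : ∀ φ : {φ : F →+ ZMod 2 // φ ≠ 0}, (rad φ.1).1 = 1 := fun φ => (hrad φ.1 φ.2).1
    rw [Finset.sum_congr rfl (fun φ _ => h1 φ)]
    rw [Finset.sum_const, Finset.card_univ, nsmul_eq_mul, mul_one]
    -- the number of non-zero functionals is odd
    have h2 : Fintype.card {φ : F →+ ZMod 2 // φ ≠ 0} + 1 = Fintype.card (F →+ ZMod 2) := by
      rw [Fintype.card_subtype_compl (fun φ : F →+ ZMod 2 => φ = 0)]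
      have : Fintype.card {φ : F →+ ZMod 2 // φ = 0} = 1 := Fintype.card_unique
      rw [this]
      have : 0 < Fintype.card (F →+ ZMod 2) := Fintype.card_pos
      omega
    have h3 : 2 ∣ Fintype.card (F →+ ZMod 2) := by
      letI : Algebra (ZMod 2) F := ZMod.algebra F 2
      have h4 : ∃ φ : F →+ ZMod 2, φ ≠ 0 := by
        by_contra hcon
        push Not at hcon
        have : (1 : F) = 0 := by
          rw [← Module.forall_dual_apply_eq_zero_iff (ZMod 2) (1 : F)]
          intro φ
          have := hcon (φ : F →ₗ[ZMod 2] ZMod 2).toAddMonoidHom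
          exact congrArg (fun f : F →+ ZMod 2 => f 1) this
        exact one_ne_zero this
      obtain ⟨φ, hφ⟩ := h4
      have h5 : addOrderOf φ = 2 := by
        apply addOrderOf_eq_prime
        · ext x
          have e2 : ∀ z : ZMod 2, 2 • z = 0 := by decide
          simp [e2]
        · exact hφ
      have h6 : addOrderOf φ ∣ Fintype.card (F →+ ZMod 2) := addOrderOf_dvd_card
      rwa [h5] at h6
    have h4 : ((Fintype.card {φ : F →+ ZMod 2 // φ ≠ 0} : ℕ) : ZMod 2) + 1 = 0 := by
      have := (ZMod.natCast_eq_zero_iff (Fintype.card (F →+ ZMod 2)) 2).mpr h3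
      rw [← h2] at this
      push_cast at this
      exact this
    have h5 : ∀ z : ZMod 2, z + 1 = 0 → z = 1 := by decide
    exact h5 _ h4
  obtain ⟨l, hl0, hl1, -⟩ := exists_ne_zero_one (F := F) hm hF 0
  have hln : l ^ (1 + 2 ^ (m + 1)) ≠ 1 := by
    intro h
    apply hl1
    apply norm_inj hF
    rw [h, one_pow]
  have hln0 : l ^ (1 + 2 ^ (m + 1)) ≠ 0 := pow_ne_zero _ hl0
  let sl : V3 F ≃+ V3 F := AddEquiv.prodCongr (AddEquiv.refl _)
    (AddEquiv.prodCongr (AddAut.mulLeft (Units.mk0 l hl0))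
      (AddAut.mulLeft (Units.mk0 _ hln0)))
  have hsl : ∀ x : V3 F, sl x = (x.1, l * x.2.1, l ^ (1 + 2 ^ (m + 1)) * x.2.2) := fun x => rfl
  have hTl : sl T = T := by
    apply hinv sl (AddAut.mulLeft (Units.mk0 _ hln0))
    intro x y
    show B m δ (sl x) (sl y) = l ^ (1 + 2 ^ (m + 1)) * B m δ x y
    rw [hsl, hsl]
    have e1 : ∀ z : F, (l ^ (1 + 2 ^ (m + 1)) * l * z) ^ (2 ^ m) =
        l ^ (1 + 2 ^ (m + 1)) * z ^ (2 ^ m) := by
      intro z
      rw [mul_pow]
      congr 1
      have : (l ^ (1 + 2 ^ (m + 1)) * l) = l ^ (2 ^ (m + 1)) * l ^ 2 := by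
        rw [_root_.pow_add]; ring
      rw [this, mul_pow, pow_pow_card hF, ← pow_mul, ← pow_succ' 2 m, _root_.pow_add l 1, pow_one]
    unfold B bt
    simp only
    have e2 : ∀ a u : F, δ * (l ^ (1 + 2 ^ (m + 1)) * u * (l * a)) ^ (2 ^ m) =
        l ^ (1 + 2 ^ (m + 1)) * (δ * (u * a) ^ (2 ^ m)) := by
      intro a u
      have := e1 (u * a)
      have h' : l ^ (1 + 2 ^ (m + 1)) * u * (l * a) = l ^ (1 + 2 ^ (m + 1)) * l * (u * a) := by
        ring
      rw [h', this]; ring
    rw [e2, e2, mul_pow, mul_pow]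
    rw [_root_.pow_add l 1, pow_one]
    ring
  have hTt : T = tt := by
    rw [hsl] at hTl
    have h1 : l * T.2.1 = T.2.1 := congrArg (fun x : V3 F => x.2.1) hTl
    have h2 : l ^ (1 + 2 ^ (m + 1)) * T.2.2 = T.2.2 := congrArg (fun x : V3 F => x.2.2) hTl
    have h3 : T.2.1 = 0 := by
      by_contra h
      exact hl1 (mul_right_cancel₀ h (h1.trans (one_mul _).symm))
    have h4 : T.2.2 = 0 := by
      by_contra h
      exact hln (mul_right_cancel₀ h (h2.trans (one_mul _).symm))
    exact Prod.ext hT1 (Prod.ext h3 h4)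
  rw [← hTt]
  exact hinv s sZ hB

end Radical

section Gamma

variable {m : ℕ}

theorem B_zero (x y : V3 F) :
    B m 0 x y = cc x.1 * y.2.2 + cc y.1 * x.2.2 + bt m x.2.1 y.2.1 := by
  unfold B; ring

theorem Sq_zero (γ : F) (x : V3 F) :
    Sq m γ 0 x = cc x.1 * x.2.2 + x.2.1 ^ (1 + 2 ^ (m + 1)) + γ * x.2.2 := by
  unfold Sq; ring

/-- an automorphism of the form with `δ = 0` preserves `V = {e = 0}`. -/
theorem fst_eq_zero (hm : 1 ≤ m) (hF : Fintype.card F = 2 ^ (2 * m + 1))
    (s : V3 F ≃+ V3 F) (sZ : F ≃+ F) (hB : ∀ x y, B m 0 (s x) (s y) = sZ (B m 0 x y))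
    {x : V3 F} (hx : x.1 = 0) : (s x).1 = 0 := by
  have key : ∀ x : V3 F, (s x).1 ≠ 0 → ∀ z : F, ∃ w, B m 0 x w = z := by
    intro x hx z
    have h1 : (s x).1 = 1 := (zmod_cases _).resolve_left hx
    refine ⟨s.symm (0, 0, sZ z), ?_⟩
    apply sZ.injective
    rw [← hB, AddEquiv.apply_symm_apply, B_zero, h1]
    simp
  have hA : ∀ a : F, (s (0, a, 0)).1 = 0 := by
    intro a
    by_contra h
    rcases eq_or_ne a 0 with rfl | ha
    · obtain ⟨w, hw⟩ := key _ h 1
      rw [B_zero] at hw
      simp at hw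
    · obtain ⟨w, hw⟩ := key _ h (a ^ (1 + 2 ^ (m + 1)) * 1)
      rw [B_zero] at hw
      simp only [cc_zero, zero_mul, mul_zero, zero_add, add_zero] at hw
      have := (mem_range_bt ha 1).mp ⟨_, hw⟩
      obtain ⟨y, hy⟩ := mem_KK.mp this
      exact one_not_mem hF y hy
  have hU : ∀ u : F, (s (0, 0, u)).1 = 0 := by
    intro u
    by_contra h
    obtain ⟨y, hy0, -, hyu⟩ := exists_ne_zero_one (F := F) hm hF u
    obtain ⟨w, hw⟩ := key _ h y
    rw [B_zero] at hw
    simp only [cc_zero, zero_mul, zero_add, bt_zero_left, add_zero] at hw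
    rcases zmod_cases w.1 with h1 | h1
    · rw [h1, cc_zero, zero_mul] at hw
      exact hy0 hw.symm
    · rw [h1, cc_one, one_mul] at hw
      exact hyu hw.symm
  obtain ⟨e, a, u⟩ := x
  simp only at hx
  subst hx
  have : ((0 : ZMod 2), a, u) = (0, a, 0) + (0, 0, u) := by simp
  rw [this, map_add, Prod.fst_add, hA, hU, add_zero]

theorem fst_tt (hm : 1 ≤ m) (hF : Fintype.card F = 2 ^ (2 * m + 1))
    (s : V3 F ≃+ V3 F) (sZ : F ≃+ F) (hB : ∀ x y, B m 0 (s x) (s y) = sZ (B m 0 x y)) :
    (s tt).1 = 1 := by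
  rcases zmod_cases (s tt).1 with h | h
  · exfalso
    have hall : ∀ x : V3 F, (s x).1 = 0 := by
      intro x
      obtain ⟨e, x⟩ := x
      rcases zmod_cases e with rfl | rfl
      · exact fst_eq_zero hm hF s sZ hB rfl
      · have : ((1 : ZMod 2), x) = tt + (0, x) := by unfold tt; ext <;> simp
        rw [this, map_add, Prod.fst_add, h, fst_eq_zero hm hF s sZ hB rfl, add_zero]
    have := hall (s.symm (1, 0, 0))
    rw [AddEquiv.apply_symm_apply] at this
    have h3 : (1 : ZMod 2) = 0 := this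
    exact absurd h3 (by decide)
  · exact h

/-- and it preserves `W = {e = 0, a = 0}` where it acts as on `Z`. -/
theorem map_W (hm : 1 ≤ m) (hF : Fintype.card F = 2 ^ (2 * m + 1))
    (s : V3 F ≃+ V3 F) (sZ : F ≃+ F) (hB : ∀ x y, B m 0 (s x) (s y) = sZ (B m 0 x y)) (u : F) :
    s (0, 0, u) = (0, 0, sZ u) := by
  have h0 : (s (0, 0, u)).1 = 0 := fst_eq_zero hm hF s sZ hB rfl
  have hsurj : ∀ y : V3 F, y.1 = 0 → ∃ x : V3 F, x.1 = 0 ∧ s x = y := by
    intro y hy
    refine ⟨s.symm y, ?_, s.apply_symm_apply y⟩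
    rcases zmod_cases (s.symm y).1 with h | h
    · exact h
    · exfalso
      have e : s.symm y = tt + (0, (s.symm y).2) := by
        unfold tt
        ext
        · simp [h]
        · simp
        · simp
      have h1 := congrArg s e
      rw [AddEquiv.apply_symm_apply, map_add] at h1
      have h2 := congrArg Prod.fst h1
      rw [Prod.fst_add, fst_tt hm hF s sZ hB, fst_eq_zero hm hF s sZ hB rfl, hy] at h2
      exact absurd h2 (by decide)
  have ha : (s (0, 0, u)).2.1 = 0 := by
    by_contra ha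
    obtain ⟨y, hy0, hy1, -⟩ := exists_ne_zero_one (F := F) hm hF 0
    obtain ⟨x, hx0, hx⟩ := hsurj (0, (s (0, 0, u)).2.1 * y, 0) rfl
    have h1 := hB (0, 0, u) x
    rw [hx, B_zero, B_zero, h0, hx0] at h1
    simp only [cc_zero, zero_mul, mul_zero, zero_add, bt_zero_left, add_zero, map_zero] at h1
    rw [bt_mul] at h1
    rcases mul_eq_zero.mp h1 with h2 | h2
    · exact ha (pow_eq_zero_iff (by positivity) |>.mp h2)
    · have h3 : y ^ (2 ^ (m + 1)) = y := by
        have := congrArg (fun z => z + y) h2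
        rw [add_assoc, FormAlg.add_self, add_zero, zero_add] at this
        exact this
      rcases eq_of_th_eq hF h3 with h | h
      · exact hy0 h
      · exact hy1 h
  have h1 := hB tt (0, 0, u)
  rw [B_tt] at h1
  have h2 : B m 0 (s tt) (s (0, 0, u)) = (s (0, 0, u)).2.2 := by
    rw [B_zero, h0, ha, fst_tt hm hF s sZ hB]
    simp
  rw [h2] at h1
  exact Prod.ext h0 (Prod.ext ha h1)

theorem fix_of_gamma (hm : 1 ≤ m) (hF : Fintype.card F = 2 ^ (2 * m + 1)) {γ : F}
    (hγ0 : γ ≠ 0) (hγ1 : γ ≠ 1)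
    (s : V3 F ≃+ V3 F) (sZ : F ≃+ F) (hB : ∀ x y, B m 0 (s x) (s y) = sZ (B m 0 x y))
    (hS : ∀ x, Sq m γ 0 (s x) = sZ (Sq m γ 0 x)) : s tt = tt := by
  have h1 := fst_tt hm hF s sZ hB
  set w := (s tt).2.1 with hw
  set r := (s tt).2.2 with hr
  have hst : s tt = (1, w, r) := Prod.ext h1 rfl
  have hW := map_W hm hF s sZ hB
  have h5 : ∀ u, sZ (γ * u) = γ * sZ u := by
    intro u
    have := hS (0, 0, u)
    rw [hW, Sq_zero, Sq_zero] at this
    simp only [cc_zero, zero_mul, zero_add] at this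
    rw [zero_pow (by positivity), zero_add, zero_add] at this
    exact this.symm
  set Vf : F → F := fun a => (s (0, a, 0)).2.1 with hVf
  have hs0 : ∀ a, (s (0, a, 0)).1 = 0 := fun a => fst_eq_zero hm hF s sZ hB rfl
  have hpsi : ∀ a, (s (0, a, 0)).2.2 = bt m w (Vf a) := by
    intro a
    have := hB tt (0, a, 0)
    rw [B_tt, hst, B_zero, hs0] at this
    simp only [cc_one, one_mul, cc_zero, zero_mul, add_zero, map_zero] at this
    have h2 := congrArg (fun z => z + bt m w (Vf a)) this
    simp only [zero_add] at h2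
    rw [add_assoc] at h2
    have h3 : bt m w (s (0, a, 0)).2.1 = bt m w (Vf a) := rfl
    rw [h3, FormAlg.add_self, add_zero] at h2
    exact h2
  have hsa : ∀ a, s (0, a, 0) = (0, Vf a, bt m w (Vf a)) := fun a =>
    Prod.ext (hs0 a) (Prod.ext rfl (hpsi a))
  have hV : ∀ a b, sZ (bt m a b) = bt m (Vf a) (Vf b) := by
    intro a b
    have := hB (0, a, 0) (0, b, 0)
    rw [hsa, hsa, B_zero, B_zero] at this
    simp only [cc_zero, zero_mul, zero_add] at this
    exact this.symm
  have hN : ∀ a, sZ (a ^ (1 + 2 ^ (m + 1))) = (Vf a) ^ (1 + 2 ^ (m + 1)) + γ * bt m w (Vf a) := by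
    intro a
    have := hS (0, a, 0)
    rw [hsa, Sq_zero, Sq_zero] at this
    simp only [cc_zero, zero_mul, zero_add, mul_zero, add_zero] at this
    exact this.symm
  have hVinj : ∀ a, Vf a = 0 → a = 0 := by
    intro a ha
    have h2 := hsa a
    rw [ha, bt_zero_right] at h2
    have h3 : s (0, a, 0) = 0 := h2
    have h4 : ((0 : ZMod 2), a, (0 : F)) = 0 := by
      have := congrArg s.symm h3
      simpa using this
    exact congrArg (fun x : V3 F => x.2.1) h4
  have hVadd : ∀ a b, Vf (a + b) = Vf a + Vf b := by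
    intro a b
    have : ((0 : ZMod 2), a + b, (0 : F)) = (0, a, 0) + (0, b, 0) := by simp
    simp only [hVf]
    rw [this, map_add]; rfl
  have hVbij : Function.Bijective Vf := by
    apply Finite.injective_iff_bijective.mp
    intro a b hab
    have h2 : Vf (a + b) = 0 := by rw [hVadd, hab, FormAlg.add_self]
    have h3 := hVinj _ h2
    have h4 := congrArg (fun z => z + b) h3
    simp only [zero_add] at h4
    rwa [add_assoc, FormAlg.add_self, add_zero] at h4
  -- the scalar `c`
  set c := γ ^ (2 ^ (m + 1) - 1) with hc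
  have hcn : c ^ (1 + 2 ^ (m + 1)) = γ := norm_surj hF γ
  have hc0 : c ≠ 0 := by
    intro h
    rw [h, zero_pow (by positivity)] at hcn
    exact hγ0 hcn.symm
  have hc1 : c ≠ 1 := by
    intro h
    rw [h, one_pow] at hcn
    exact hγ1 hcn.symm
  have hbtc : ∀ x y : F, bt m (c * x) (c * y) = γ * bt m x y := by
    intro x y
    unfold bt
    rw [mul_pow, mul_pow]
    have : γ = c * c ^ (2 ^ (m + 1)) := by rw [← hcn, _root_.pow_add, pow_one]
    rw [this]; ring
  have hVc : ∀ a, Vf (c * a) = c * Vf a := by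
    intro a
    rcases eq_or_ne a 0 with rfl | ha
    · have : Vf 0 = 0 := by
        have := hVadd 0 0
        rw [add_zero, FormAlg.add_self] at this
        exact this
      rw [mul_zero, this, mul_zero]
    · have hne1 : Vf (c * a) ≠ 0 := fun h => (mul_ne_zero hc0 ha) (hVinj _ h)
      have hne2 : c * Vf a ≠ 0 := mul_ne_zero hc0 (fun h => ha (hVinj _ h))
      apply bt_range_inj hF hne1 hne2
      have e1 : ∀ b, bt m (Vf (c * a)) (Vf (c * b)) = bt m (c * Vf a) (c * Vf b) := by
        intro b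
        rw [← hV, hbtc, h5, hV, ← hbtc]
      intro z
      constructor
      · rintro ⟨y, hy⟩
        obtain ⟨y', rfl⟩ := hVbij.2 y
        refine ⟨c * Vf (c⁻¹ * y'), ?_⟩
        rw [← e1, mul_inv_cancel_left₀ hc0]
        exact hy
      · rintro ⟨y, hy⟩
        obtain ⟨y', hy'⟩ := hVbij.2 (c⁻¹ * y)
        refine ⟨Vf (c * y'), ?_⟩
        rw [e1, hy', mul_inv_cancel_left₀ hc0]
        exact hy
  have key : ∀ y, bt m w (c * y) = γ * bt m w y := by
    intro y
    obtain ⟨a, rfl⟩ := hVbij.2 y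
    have e1 := hN (c * a)
    rw [mul_pow, hcn, h5, hN, hVc, mul_pow, hcn] at e1
    have e2 : γ * (γ * bt m w (Vf a)) = γ * bt m w (c * Vf a) := by
      have := congrArg (fun z => γ * Vf a ^ (1 + 2 ^ (m + 1)) + z) e1
      simp only [mul_add, ← add_assoc, FormAlg.add_self, zero_add] at this
      exact this
    exact (mul_left_cancel₀ hγ0 e2).symm
  have hw0 : w = 0 := by
    by_contra hw0
    have hγc : γ = c * c ^ (2 ^ (m + 1)) := by rw [← hcn, _root_.pow_add, pow_one]
    have e : ∀ y : F, w * (c ^ (2 ^ (m + 1)) + γ) * y ^ (2 ^ (m + 1)) =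
        w ^ (2 ^ (m + 1)) * (c + γ) * y := by
      intro y
      have := key y
      unfold bt at this
      rw [mul_pow] at this
      have h2 : w * (c ^ (2 ^ (m + 1)) + γ) * y ^ (2 ^ (m + 1)) +
          w ^ (2 ^ (m + 1)) * (c + γ) * y = 0 := by
        have h3 : w * (c ^ (2 ^ (m + 1)) + γ) * y ^ (2 ^ (m + 1)) +
          w ^ (2 ^ (m + 1)) * (c + γ) * y =
          (w * (c ^ (2 ^ (m + 1)) * y ^ (2 ^ (m + 1))) + w ^ (2 ^ (m + 1)) * (c * y)) +
          γ * (w * y ^ (2 ^ (m + 1)) + w ^ (2 ^ (m + 1)) * y) := by ring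
        rw [h3, this, FormAlg.add_self]
      have h4 := congrArg (fun z => z + w ^ (2 ^ (m + 1)) * (c + γ) * y) h2
      simp only [zero_add] at h4
      rwa [add_assoc, FormAlg.add_self, add_zero] at h4
    have hK : w ^ (2 ^ (m + 1)) * (c + γ) ≠ 0 := by
      apply mul_ne_zero (pow_ne_zero _ hw0)
      rw [hγc]
      have : c + c * c ^ (2 ^ (m + 1)) = c * (1 + c ^ (2 ^ (m + 1))) := by ring
      rw [this]
      apply mul_ne_zero hc0
      intro h
      apply hc1
      have h2 : c ^ (2 ^ (m + 1)) = 1 := by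
        have := congrArg (fun z => 1 + z) h
        simp only [← add_assoc, FormAlg.add_self, zero_add, add_zero] at this
        exact this
      have h3 : (c ^ (2 ^ (m + 1))) ^ (2 ^ m) = 1 := by rw [h2, one_pow]
      rwa [pow_pow_card hF] at h3
    have e1 := e 1
    rw [one_pow, mul_one, mul_one] at e1
    obtain ⟨y, hy0, hy1, -⟩ := exists_ne_zero_one (F := F) hm hF 0
    have e2 := e y
    rw [e1] at e2
    have e3 := mul_left_cancel₀ hK e2
    rcases eq_of_th_eq hF e3 with h | h
    · exact hy0 h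
    · exact hy1 h
  have hr0 : r = 0 := by
    have := hS tt
    rw [hst, hw0, Sq_zero, Sq_zero] at this
    simp only [tt, cc_one, one_mul, mul_zero, add_zero] at this
    rw [zero_pow (by positivity), add_zero, zero_add, map_zero] at this
    have h2 : (1 + γ) * r = 0 := by rw [add_mul, one_mul]; exact this
    rcases mul_eq_zero.mp h2 with h | h
    · exfalso
      apply hγ1
      have := congrArg (fun z => 1 + z) h
      simp only [← add_assoc, FormAlg.add_self, zero_add, add_zero] at this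
      exact this
    · exact h
  rw [hst, hw0, hr0]
  rfl

end Gamma

end Cfsg.Agent.StdSz.FixT
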