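import Cfsg.Agent.StdSz.LevelOneEnd

/-!
# The case `γ = δ = 0`: the action of `S` on `Q / Z`, and `S / V` is elementary abelian

`S` is the next level: `|S : Q| = q`, the conjugates of `t` under `S` are the elements of `Q` with
coordinates `(1, w, w ^ (1 + θ))`.
-/

set_option autoImplicit false
set_option linter.unusedSectionVars false
set_option linter.style.haveILetI false

namespace Cfsg.Agent.StdSz.GammaZeroA

open Cfsg.Agent.StdSz.EquivMaps Cfsg.Agent.StdSz.SzMaps Cfsg.Agent.StdSz.FormAlg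
open Cfsg.Agent.StdSz.FixT Cfsg.Agent.StdSz.LevelOne Cfsg.Agent.StdSz.Coord
open Cfsg.Agent.StdSz.NormQ Cfsg.Agent.StdSz.NextLevel Cfsg.Agent.StdSz.NextExists
open Cfsg.Agent.StdSz.LevelOneEnd

variable {G : Type*} [Group G] [Finite G] {F : Type*} [Field F] [Fintype F] [CharP F 2] {m : ℕ}
variable {P : Pre G F m}

/-- the next level for `γ = 0`. -/
abbrev Nx (P : Pre G F m) := Next P (fun w => ((1, w, w ^ (1 + 2 ^ (m + 1))) : V3 F))

/-- the first parameter of an element of `S`. -/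
noncomputable def wt (P : Pre G F m) (s : G) : F := (crd P (s * P.t * s⁻¹)).2.1

/-- the torus. -/
def C (X : Nx P) (l : Fˣ) (s : G) : G := X.h' l * s * (X.h' l)⁻¹

variable (X : Nx P)

theorem crd_conj_t {s : G} (hs : s ∈ X.S) :
    crd P (s * P.t * s⁻¹) = (1, wt P s, (wt P s) ^ (1 + 2 ^ (m + 1))) := by
  obtain ⟨w, hw⟩ := X.conj s hs
  have : wt P s = w := by unfold wt; rw [hw]
  rw [this, hw]

/-- the action of `S` on `Q / Z`. -/
theorem crd_conj (hd : del P = 0) (hg : gam P = 0) {s : G} (hs : s ∈ X.S) {g : G}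
    (hgQ : g ∈ P.Q) :
    crd P (s * g * s⁻¹) = ((crd P g).1, (crd P g).2.1 + cc (crd P g).1 * wt P s,
      (crd P g).2.2 + bt m (wt P s) (crd P g).2.1 +
        cc (crd P g).1 * (wt P s) ^ (1 + 2 ^ (m + 1))) := by
  have hn : Norm P s := norm_of_fwd P (X.S_Q s hs)
  have hZ : ∀ b, sZ P hn b = b := fun b => P.z_inj (by
    rw [← sZ_spec, X.S_Z s hs, mul_assoc, mul_inv_cancel, mul_one])
  have hB : ∀ x y, B m 0 (sb P hn x) (sb P hn y) = B m 0 x y := by
    intro x y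
    have := sb_B P hn x y
    rwa [hd, hZ] at this
  have hSq : ∀ x, Sq m 0 0 (sb P hn x) = Sq m 0 0 x := by
    intro x
    have := sb_Sq P hn x
    rwa [hd, hg, hZ] at this
  have htt : sb P hn tt = (1, wt P s, (wt P s) ^ (1 + 2 ^ (m + 1))) := by
    rw [sb_tt_eq, crd_conj_t X hs]
  have h0 : ∀ a u, sb P hn (0, a, u) = (0, a, u + bt m (wt P s) a) := by
    intro a u
    have hfst : (sb P hn (0, a, u)).1 = 0 :=
      fst_eq_zero P.hm P.hF (sb P hn) (sZ P hn) (fun x y => by rw [hB, hZ]) rfl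
    obtain ⟨⟨e', a', u'⟩, hv⟩ : ∃ v, sb P hn (0, a, u) = v := ⟨_, rfl⟩
    rw [hv] at hfst
    have he : e' = 0 := hfst
    subst he
    have h2 := hB tt (0, a, u)
    rw [hv, htt, B_zero, B_tt] at h2
    have h3 := hSq (0, a, u)
    rw [hv, Sq_zero, Sq_zero] at h3
    simp only [cc_zero, zero_mul, add_zero, zero_add] at h3
    have ha : a' = a := norm_inj P.hF h3
    subst ha
    simp only [cc_zero, cc_one, zero_mul, add_zero, one_mul] at h2
    rw [hv]
    have hu : u' = u + bt m (wt P s) a' := by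
      rw [← h2, add_assoc, FormAlg.add_self, add_zero]
    rw [hu]
  rw [sb_spec P hn hgQ]
  obtain ⟨⟨e, a, u⟩, hv⟩ : ∃ v, crd P g = v := ⟨_, rfl⟩
  rw [hv]
  rcases zmod_cases e with rfl | rfl
  · rw [h0]
    simp
  · have h1 : ((1, a, u) : V3 F) = tt + (0, a, u) := by
      unfold tt
      ext <;> simp
    rw [h1, map_add, htt, h0]
    simp only [Prod.mk_add_mk, cc_one, one_mul]
    unfold tt
    ext
    · simp
    · simp [add_comm]
    · simp [add_comm, add_left_comm]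

theorem fst_conj (hd : del P = 0) (hg : gam P = 0) {s : G} (hs : s ∈ X.S) {g : G}
    (hgQ : g ∈ P.Q) : (crd P (s * g * s⁻¹)).1 = (crd P g).1 := by
  rw [crd_conj X hd hg hs hgQ]

theorem conj_t_mem {s : G} (hs : s ∈ X.S) : s * P.t * s⁻¹ ∈ P.Q := X.S_Q s hs _ P.Q_t

theorem wt_mul (hd : del P = 0) (hg : gam P = 0) {s r : G} (hs : s ∈ X.S) (hr : r ∈ X.S) :
    wt P (s * r) = wt P s + wt P r := by
  have h1 : s * r * P.t * (s * r)⁻¹ = s * (r * P.t * r⁻¹) * s⁻¹ := by group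
  unfold wt
  rw [h1, crd_conj X hd hg hs (conj_t_mem X hr), crd_conj_t X hr]
  show wt P r + cc 1 * wt P s = _
  rw [cc_one, one_mul, add_comm]
  rfl

theorem wt_of_Q {g : G} (hg : g ∈ P.Q) : wt P g = 0 := by
  unfold wt
  rw [P.u_spec hg, crd_mul P (P.Q_p _ _) P.Q_t, crd_p, crd_t]
  unfold tt
  simp

theorem mem_Q_of_wt {s : G} (hs : s ∈ X.S) (h : wt P s = 0) : s ∈ P.Q := by
  apply X.stab s hs
  rw [crd_conj_t X hs, h, zero_pow (by positivity)]
  rfl

theorem wt_inv (hd : del P = 0) (hg : gam P = 0) {s : G} (hs : s ∈ X.S) :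
    wt P s⁻¹ = wt P s := by
  have h1 := wt_mul X hd hg hs (inv_mem hs)
  rw [mul_inv_cancel, wt_of_Q (one_mem _)] at h1
  have h2 := congrArg (fun z => wt P s + z) h1
  rw [add_zero, ← add_assoc, FormAlg.add_self, zero_add] at h2
  exact h2.symm

theorem C_mem (l : Fˣ) {s : G} (hs : s ∈ X.S) : C X l s ∈ X.S := X.h'_S l s hs

theorem C_mul (l : Fˣ) (s r : G) : C X l (s * r) = C X l s * C X l r := by
  unfold C; group

theorem C_inv (l : Fˣ) (s : G) : C X l s⁻¹ = (C X l s)⁻¹ := by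
  unfold C; group

theorem C_C (l k : Fˣ) {s : G} (hs : s ∈ X.S) : C X l (C X k s) = C X (l * k) s :=
  (X.h'_mul l k s hs).symm

theorem C_Q (l : Fˣ) {g : G} (hg : g ∈ P.Q) : C X l g = cj P l g := X.h'_Q l g hg

theorem C_one {s : G} (hs : s ∈ X.S) : C X 1 s = s := by
  have h1 := C_C X 1 1 hs
  rw [mul_one] at h1
  unfold C at *
  exact mul_left_cancel (mul_right_cancel h1)

theorem wt_C (l : Fˣ) {s : G} (hs : s ∈ X.S) : wt P (C X l s) = l * wt P s := by
  have h1 : C X l s * P.t * (C X l s)⁻¹ = C X l (s * P.t * s⁻¹) := by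
    have h2 : (X.h' l)⁻¹ * P.t * X.h' l = P.t := by
      rw [mul_assoc, ← X.h'_t, inv_mul_cancel_left]
    have h3 : C X l s * P.t * (C X l s)⁻¹ =
        X.h' l * (s * ((X.h' l)⁻¹ * P.t * X.h' l) * s⁻¹) * (X.h' l)⁻¹ := by
      unfold C; group
    rw [h3, h2]
    rfl
  unfold wt
  rw [h1, C_Q X l (conj_t_mem X hs), crd_cj P l (conj_t_mem X hs)]

theorem exists_wt (w : F) : ∃ s ∈ X.S, wt P s = w := by
  obtain ⟨s, hs, h⟩ := X.surj w
  refine ⟨s, hs, ?_⟩
  unfold wt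
  rw [h]

theorem sq_mem (hd : del P = 0) (hg : gam P = 0) {s : G} (hs : s ∈ X.S) : s * s ∈ P.Q :=
  mem_Q_of_wt X (mul_mem hs hs) (by rw [wt_mul X hd hg hs hs, FormAlg.add_self])

theorem comm_mem (hd : del P = 0) (hg : gam P = 0) {s r : G} (hs : s ∈ X.S) (hr : r ∈ X.S) :
    s * r * s⁻¹ * r⁻¹ ∈ P.Q := by
  apply mem_Q_of_wt X (mul_mem (mul_mem (mul_mem hs hr) (inv_mem hs)) (inv_mem hr))
  rw [wt_mul X hd hg (mul_mem (mul_mem hs hr) (inv_mem hs)) (inv_mem hr),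
    wt_mul X hd hg (mul_mem hs hr) (inv_mem hs), wt_mul X hd hg hs hr, wt_inv X hd hg hs,
    wt_inv X hd hg hr]
  have : wt P s + wt P r + wt P s + wt P r = (wt P s + wt P s) + (wt P r + wt P r) := by ring
  rw [this, FormAlg.add_self, FormAlg.add_self, zero_add]

/-! ### `S / V` is elementary abelian -/

theorem zadd_self (e : ZMod 2) : e + e = 0 := by
  revert e; decide

/-- the first coordinate of the square. -/
noncomputable def qq (P : Pre G F m) (s : G) : ZMod 2 := (crd P (s * s)).1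

/-- the first coordinate of the commutator. -/
noncomputable def kk (P : Pre G F m) (s r : G) : ZMod 2 := (crd P (s * r * s⁻¹ * r⁻¹)).1

theorem fst_mul {g k : G} (hg : g ∈ P.Q) (hk : k ∈ P.Q) :
    (crd P (g * k)).1 = (crd P g).1 + (crd P k).1 := by
  rw [crd_mul P hg hk]; rfl

theorem qq_mul (hd : del P = 0) (hg : gam P = 0) {s r : G} (hs : s ∈ X.S) (hr : r ∈ X.S) :
    qq P (s * r) = kk P r s + qq P s + qq P r := by
  unfold qq kk
  have h1 : s * r * (s * r) = (s * (r * s * r⁻¹ * s⁻¹) * s⁻¹) * (s * s) * (r * r) := by group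
  have h2 := comm_mem X hd hg hr hs
  have h3 := X.S_Q s hs _ h2
  rw [h1, fst_mul (mul_mem h3 (sq_mem X hd hg hs)) (sq_mem X hd hg hr),
    fst_mul h3 (sq_mem X hd hg hs), fst_conj X hd hg hs h2]

theorem kk_mul_left (hd : del P = 0) (hg : gam P = 0) {s r x : G} (hs : s ∈ X.S) (hr : r ∈ X.S)
    (hx : x ∈ X.S) : kk P (s * r) x = kk P r x + kk P s x := by
  unfold kk
  have h1 : s * r * x * (s * r)⁻¹ * x⁻¹ =
      (s * (r * x * r⁻¹ * x⁻¹) * s⁻¹) * (s * x * s⁻¹ * x⁻¹) := by group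
  have h2 := comm_mem X hd hg hr hx
  rw [h1, fst_mul (X.S_Q s hs _ h2) (comm_mem X hd hg hs hx), fst_conj X hd hg hs h2]

theorem qq_of_Q {g : G} (hgQ : g ∈ P.Q) : qq P g = 0 := by
  unfold qq
  rw [fst_mul hgQ hgQ, zadd_self]

theorem kk_Q (hd : del P = 0) (hg : gam P = 0) {s g : G} (hs : s ∈ X.S) (hgQ : g ∈ P.Q) :
    kk P s g = 0 := by
  unfold kk
  rw [fst_mul (X.S_Q s hs g hgQ) (inv_mem hgQ), fst_conj X hd hg hs hgQ, crd_inv P hgQ,
    zadd_self]

theorem qq_congr (hd : del P = 0) (hg : gam P = 0) {s r : G} (hs : s ∈ X.S) (hr : r ∈ X.S)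
    (h : wt P s = wt P r) : qq P s = qq P r := by
  have h1 : s * r⁻¹ ∈ P.Q := by
    apply mem_Q_of_wt X (mul_mem hs (inv_mem hr))
    rw [wt_mul X hd hg hs (inv_mem hr), wt_inv X hd hg hr, h, FormAlg.add_self]
  have h2 := qq_mul X hd hg (X.Q_le h1) hr
  rw [inv_mul_cancel_right, kk_Q X hd hg hr h1, qq_of_Q h1, zero_add, zero_add] at h2
  exact h2

theorem qq_C (hd : del P = 0) (hg : gam P = 0) (l : Fˣ) {s : G} (hs : s ∈ X.S) :
    qq P (C X l s) = qq P s := by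
  unfold qq
  rw [← C_mul, C_Q X l (sq_mem X hd hg hs), crd_cj P l (sq_mem X hd hg hs)]

theorem exists_five (P : Pre G F m) : ∃ y z : F, y ≠ 0 ∧ y ≠ 1 ∧ z ≠ 0 ∧ y + z ≠ 0 ∧
    1 + (y + z) ≠ 0 ∧ 1 + z ≠ 0 := by
  classical
  obtain ⟨y, hy0, hy1, -⟩ := exists_ne_zero_one (F := F) P.hm P.hF 0
  have h1 : ∃ z : F, z ∉ ({0, y, 1 + y, 1} : Finset F) := by
    by_contra hcon
    push Not at hcon
    have h2 : Finset.univ ⊆ ({0, y, 1 + y, 1} : Finset F) := fun z _ => hcon z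
    have h3 := Finset.card_le_card h2
    have h4 : ({0, y, 1 + y, 1} : Finset F).card ≤ 4 := Finset.card_le_four
    rw [Finset.card_univ, P.hF] at h3
    have hm := P.hm
    have : 2 ^ 3 ≤ 2 ^ (2 * m + 1) := Nat.pow_le_pow_right (by norm_num) (by omega)
    omega
  obtain ⟨z, hz⟩ := h1
  simp only [Finset.mem_insert, Finset.mem_singleton, not_or] at hz
  have e : ∀ x y : F, x + y = 0 → y = x := by
    intro x y h
    have := congrArg (fun w => x + w) h
    rwa [add_zero, ← add_assoc, FormAlg.add_self, zero_add] at this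
  refine ⟨y, z, hy0, hy1, hz.1, fun h => hz.2.1 (e _ _ h), fun h => hz.2.2.1 ?_,
    fun h => hz.2.2.2 (e _ _ h)⟩
  apply e
  rw [← h]; ring

theorem qq_zero (hd : del P = 0) (hg : gam P = 0) {s : G} (hs : s ∈ X.S) : qq P s = 0 := by
  by_contra hne
  have h1 : qq P s = 1 := (zmod_cases _).resolve_left hne
  have hw : wt P s ≠ 0 := fun h => hne (qq_of_Q (mem_Q_of_wt X hs h))
  have H : ∀ r ∈ X.S, wt P r ≠ 0 → qq P r = 1 := by
    intro r hr hwr
    rw [← h1, ← qq_C X hd hg (Units.mk0 (wt P r / wt P s) (div_ne_zero hwr hw)) hs]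
    apply qq_congr X hd hg hr (C_mem X _ hs)
    rw [wt_C X _ hs, Units.val_mk0, div_mul_cancel₀ _ hw]
  have K : ∀ r ∈ X.S, ∀ x ∈ X.S, wt P r ≠ 0 → wt P x ≠ 0 → wt P x + wt P r ≠ 0 →
      kk P r x = 1 := by
    intro r hr x hx h2 h3 h4
    have h5 := qq_mul X hd hg hx hr
    rw [H r hr h2, H x hx h3, H _ (mul_mem hx hr) (by rwa [wt_mul X hd hg hx hr])] at h5
    rcases zmod_cases (kk P r x) with h | h
    · rw [h] at h5
      exact absurd h5 (by decide)
    · exact h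
  obtain ⟨y, z, hy0, hy1, hz0, hyz, hyz1, hz1⟩ := exists_five P
  obtain ⟨s1, hs1, w1⟩ := exists_wt X (1 : F)
  obtain ⟨s2, hs2, w2⟩ := exists_wt X y
  obtain ⟨s3, hs3, w3⟩ := exists_wt X z
  have h2 := kk_mul_left X hd hg hs2 hs3 hs1
  rw [K s2 hs2 s1 hs1 (by rw [w2]; exact hy0) (by rw [w1]; exact one_ne_zero) (by
      rw [w1, w2]
      intro h
      apply hy1
      have := congrArg (fun w => 1 + w) h
      rwa [add_zero, ← add_assoc, FormAlg.add_self, zero_add] at this),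
    K s3 hs3 s1 hs1 (by rw [w3]; exact hz0) (by rw [w1]; exact one_ne_zero) (by
      rw [w1, w3]; exact hz1),
    K _ (mul_mem hs2 hs3) s1 hs1 (by rw [wt_mul X hd hg hs2 hs3, w2, w3]; exact hyz)
      (by rw [w1]; exact one_ne_zero) (by
      rw [wt_mul X hd hg hs2 hs3, w1, w2, w3]; exact hyz1)] at h2
  exact absurd h2 (by decide)

theorem kk_zero (hd : del P = 0) (hg : gam P = 0) {s r : G} (hs : s ∈ X.S) (hr : r ∈ X.S) :
    kk P s r = 0 := by
  have h1 := qq_mul X hd hg hr hs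
  rw [qq_zero X hd hg hs, qq_zero X hd hg hr, qq_zero X hd hg (mul_mem hr hs), add_zero,
    add_zero] at h1
  exact h1.symm

/-! ### The subgroup `M` -/

/-- `V` as a subgroup of `S`. -/
noncomputable def Vs : Subgroup X.S where
  carrier := {s | (s : G) ∈ P.Q ∧ (crd P (s : G)).1 = 0}
  one_mem' := ⟨one_mem _, by rw [Subgroup.coe_one, crd_one]; rfl⟩
  mul_mem' := by
    rintro a b ⟨ha, ha'⟩ ⟨hb, hb'⟩
    refine ⟨mul_mem ha hb, ?_⟩
    rw [Subgroup.coe_mul, fst_mul ha hb, ha', hb', add_zero]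
  inv_mem' := by
    rintro a ⟨ha, ha'⟩
    refine ⟨inv_mem ha, ?_⟩
    rw [Subgroup.coe_inv, crd_inv P ha, ha']

theorem mem_Vs {s : X.S} : s ∈ Vs X ↔ (s : G) ∈ P.Q ∧ (crd P (s : G)).1 = 0 := Iff.rfl

theorem Vs_normal (hd : del P = 0) (hg : gam P = 0) : (Vs X).Normal := ⟨by
  rintro n ⟨hn, hn'⟩ s
  refine ⟨X.S_Q s s.2 _ hn, ?_⟩
  have := fst_conj X hd hg s.2 hn
  exact this.trans hn'⟩

theorem Vs_comm (hd : del P = 0) (hg : gam P = 0) (s r : X.S) : s * r * s⁻¹ * r⁻¹ ∈ Vs X :=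
  ⟨comm_mem X hd hg s.2 r.2, kk_zero X hd hg s.2 r.2⟩

/-- the torus on `S`. -/
def cS (l : Fˣ) : X.S →* X.S where
  toFun s := ⟨C X l s, C_mem X l s.2⟩
  map_one' := Subtype.ext (by
    show X.h' l * 1 * (X.h' l)⁻¹ = 1
    rw [mul_one, mul_inv_cancel])
  map_mul' s r := Subtype.ext (C_mul X l s r)

theorem cS_coe (l : Fˣ) (s : X.S) : (cS X l s : G) = C X l s := rfl

theorem cS_cS (l k : Fˣ) (s : X.S) : cS X l (cS X k s) = cS X (l * k) s :=
  Subtype.ext (C_C X l k s.2)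

/-- `s ↦ (s ^ 1) (s ^ ω) (s ^ (1 + ω))`. -/
def dl (o o' : Fˣ) (s : X.S) : X.S := cS X 1 s * cS X o s * cS X o' s

theorem dl_cS (o o' k : Fˣ) (s : X.S) : dl X o o' (cS X k s) = cS X k (dl X o o' s) := by
  unfold dl
  rw [map_mul, map_mul, cS_cS, cS_cS, cS_cS, cS_cS, cS_cS, cS_cS, mul_comm 1 k, mul_comm o k,
    mul_comm o' k]

theorem dl_mem (hd : del P = 0) (hg : gam P = 0) {o o' : Fˣ} (ho : (o' : F) = 1 + o)
    (s : X.S) : (dl X o o' s : G) ∈ P.Q := by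
  apply mem_Q_of_wt X (dl X o o' s).2
  show wt P (C X 1 s * C X o s * C X o' s) = 0
  rw [wt_mul X hd hg (mul_mem (C_mem X _ s.2) (C_mem X _ s.2)) (C_mem X _ s.2),
    wt_mul X hd hg (C_mem X _ s.2) (C_mem X _ s.2), wt_C X _ s.2, wt_C X _ s.2, wt_C X _ s.2, ho,
    Units.val_one, ← add_mul, ← add_mul, FormAlg.add_self, zero_mul]

theorem dl_mul (hd : del P = 0) (hg : gam P = 0) (o o' : Fˣ) (s r : X.S) :
    (dl X o o' (s * r))⁻¹ * (dl X o o' s * dl X o o' r) ∈ Vs X := by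
  haveI := Vs_normal X hd hg
  letI cg : CommGroup (X.S ⧸ Vs X) :=
    { (inferInstance : Group (X.S ⧸ Vs X)) with
      mul_comm := by
        intro x y
        obtain ⟨s, rfl⟩ := QuotientGroup.mk_surjective x
        obtain ⟨r, rfl⟩ := QuotientGroup.mk_surjective y
        have h1 : ((s * r * s⁻¹ * r⁻¹ : X.S) : X.S ⧸ Vs X) = 1 :=
          (QuotientGroup.eq_one_iff _).mpr (Vs_comm X hd hg s r)
        rw [QuotientGroup.mk_mul, QuotientGroup.mk_mul, QuotientGroup.mk_mul,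
          QuotientGroup.mk_inv, QuotientGroup.mk_inv, mul_inv_eq_one, mul_inv_eq_iff_eq_mul] at h1
        exact h1 }
  rw [← QuotientGroup.eq]
  unfold dl
  simp only [map_mul, QuotientGroup.mk_mul]
  ac_rfl

theorem cS_fst (hd : del P = 0) (hg : gam P = 0) (l : Fˣ) {g : G} (hgQ : g ∈ P.Q) :
    (crd P (C X l g)).1 = (crd P g).1 := by
  rw [C_Q X l hgQ, crd_cj P l hgQ]

/-- the extension of the first coordinate to `S`. -/
noncomputable def ef (o o' : Fˣ) (s : X.S) : ZMod 2 := (crd P (dl X o o' s : G)).1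

theorem ef_mul (hd : del P = 0) (hg : gam P = 0) {o o' : Fˣ} (ho : (o' : F) = 1 + o)
    (s r : X.S) : ef X o o' (s * r) = ef X o o' s + ef X o o' r := by
  have h1 := (dl_mul X hd hg o o' s r).2
  have a1 := dl_mem X hd hg ho (s * r)
  have a2 := dl_mem X hd hg ho s
  have a3 := dl_mem X hd hg ho r
  have h2 : (crd P ((dl X o o' (s * r) : G)⁻¹ * ((dl X o o' s : G) * (dl X o o' r : G)))).1 = 0 :=
    h1
  rw [fst_mul (inv_mem a1) (mul_mem a2 a3), fst_mul a2 a3, crd_inv P a1] at h2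
  have e : ∀ x y : ZMod 2, x + y = 0 → x = y := by decide
  exact e _ _ h2

theorem ef_Q (hd : del P = 0) (hg : gam P = 0) (o o' : Fˣ) {g : X.S} (hgQ : (g : G) ∈ P.Q) :
    ef X o o' g = (crd P (g : G)).1 := by
  unfold ef
  show (crd P (C X 1 g * C X o g * C X o' g)).1 = _
  have hm : ∀ l : Fˣ, C X l (g : G) ∈ P.Q := fun l => by
    rw [C_Q X l hgQ]; exact cj_mem P l hgQ
  rw [fst_mul (mul_mem (hm _) (hm _)) (hm _), fst_mul (hm _) (hm _), cS_fst X hd hg _ hgQ,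
    cS_fst X hd hg _ hgQ, cS_fst X hd hg _ hgQ, zadd_self, zero_add]

theorem ef_cS (hd : del P = 0) (hg : gam P = 0) {o o' : Fˣ} (ho : (o' : F) = 1 + o) (k : Fˣ)
    (s : X.S) : ef X o o' (cS X k s) = ef X o o' s := by
  unfold ef
  rw [dl_cS]
  exact cS_fst X hd hg k (dl_mem X hd hg ho s)

/-- **the extension of the first coordinate**. -/
theorem exists_ext (hd : del P = 0) (hg : gam P = 0) : ∃ e : X.S → ZMod 2,
    (∀ s r, e (s * r) = e s + e r) ∧ (∀ g : X.S, (g : G) ∈ P.Q → e g = (crd P (g : G)).1) ∧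
    ∀ k s, e (cS X k s) = e s := by
  obtain ⟨y, hy0, hy1, -⟩ := exists_ne_zero_one (F := F) P.hm P.hF 0
  have h1 : 1 + y ≠ 0 := by
    intro h
    apply hy1
    have := congrArg (fun w => 1 + w) h
    rwa [add_zero, ← add_assoc, FormAlg.add_self, zero_add] at this
  exact ⟨ef X (Units.mk0 y hy0) (Units.mk0 (1 + y) h1), ef_mul X hd hg rfl,
    fun g hgQ => ef_Q X hd hg _ _ hgQ, fun k s => ef_cS X hd hg rfl k s⟩

end Cfsg.Agent.StdSz.GammaZeroA
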