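import Cfsg.Agent.StdSz.GammaZeroA

/-!
# The case `γ = δ = 0`: the subgroup `M` of index two has class at most two

`W = {crd = (0, 0, u)}` is central in `M` and all squares of elements of `M` lie in `W`.
-/

set_option autoImplicit false
set_option linter.unusedSectionVars false
set_option linter.style.haveILetI false

namespace Cfsg.Agent.StdSz.GammaZeroB

open Cfsg.Agent.StdSz.EquivMaps Cfsg.Agent.StdSz.SzMaps Cfsg.Agent.StdSz.FormAlg
open Cfsg.Agent.StdSz.FixT Cfsg.Agent.StdSz.LevelOne Cfsg.Agent.StdSz.Coord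
open Cfsg.Agent.StdSz.NormQ Cfsg.Agent.StdSz.NextLevel Cfsg.Agent.StdSz.NextExists
open Cfsg.Agent.StdSz.LevelOneEnd Cfsg.Agent.StdSz.GammaZeroA

variable {G : Type*} [Group G] [Finite G] {F : Type*} [Field F] [Fintype F] [CharP F 2] {m : ℕ}
variable {P : Pre G F m}

/-- an extension of the first coordinate to `S`. -/
structure Ext (X : Nx P) where
  e : G → ZMod 2
  mul : ∀ s ∈ X.S, ∀ r ∈ X.S, e (s * r) = e s + e r
  onQ : ∀ g ∈ P.Q, e g = (crd P g).1
  tor : ∀ l, ∀ s ∈ X.S, e (C X l s) = e s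

theorem exists_Ext (X : Nx P) (hd : del P = 0) (hg : gam P = 0) : Nonempty (Ext X) := by
  classical
  obtain ⟨e, h1, h2, h3⟩ := exists_ext X hd hg
  refine ⟨⟨fun s => if h : s ∈ X.S then e ⟨s, h⟩ else 0, ?_, ?_, ?_⟩⟩
  · intro s hs r hr
    rw [dif_pos (mul_mem hs hr), dif_pos hs, dif_pos hr, ← h1]
    rfl
  · intro g hgQ
    rw [dif_pos (X.Q_le hgQ)]
    exact h2 ⟨g, X.Q_le hgQ⟩ hgQ
  · intro l s hs
    rw [dif_pos (C_mem X l hs), dif_pos hs, ← h3 l ⟨s, hs⟩]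
    rfl

variable {X : Nx P} (E : Ext X)

theorem Ext.one : E.e 1 = 0 := by
  rw [E.onQ _ (one_mem _), crd_one]; rfl

theorem Ext.inv {s : G} (hs : s ∈ X.S) : E.e s⁻¹ = E.e s := by
  have h1 := E.mul s hs s⁻¹ (inv_mem hs)
  rw [mul_inv_cancel, E.one] at h1
  have e : ∀ x y : ZMod 2, 0 = x + y → y = x := by decide
  exact e _ _ h1

theorem Ext.t : E.e P.t = 1 := by
  rw [E.onQ _ P.Q_t, crd_t]; rfl

/-- the subgroup `M`. -/
def M : Subgroup G where
  carrier := {s | s ∈ X.S ∧ E.e s = 0}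
  one_mem' := ⟨one_mem _, E.one⟩
  mul_mem' := by
    rintro a b ⟨ha, ha'⟩ ⟨hb, hb'⟩
    exact ⟨mul_mem ha hb, by rw [E.mul a ha b hb, ha', hb', add_zero]⟩
  inv_mem' := by
    rintro a ⟨ha, ha'⟩
    exact ⟨inv_mem ha, by rw [E.inv ha, ha']⟩

theorem mem_M {s : G} : s ∈ M E ↔ s ∈ X.S ∧ E.e s = 0 := Iff.rfl

theorem M_le : M E ≤ X.S := fun _ h => h.1

theorem t_not_mem : P.t ∉ M E := by
  rintro ⟨-, h⟩
  rw [E.t] at h
  exact absurd h (by decide)

theorem M_index : (M E).relIndex X.S = 2 := by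
  rw [Subgroup.relIndex, Subgroup.index_eq_two_iff]
  refine ⟨⟨P.t, X.Q_le P.Q_t⟩, fun b => ?_⟩
  rw [Subgroup.mem_subgroupOf, Subgroup.mem_subgroupOf, mem_M, mem_M]
  have h1 : E.e ((b : G) * P.t) = E.e b + 1 := by
    rw [E.mul _ b.2 _ (X.Q_le P.Q_t), E.t]
  have h2 : (((b * ⟨P.t, X.Q_le P.Q_t⟩ : X.S) : G)) = (b : G) * P.t := rfl
  rw [h2, h1]
  rcases zmod_cases (E.e b) with h | h
  · right
    refine ⟨⟨b.2, h⟩, ?_⟩
    rintro ⟨-, h3⟩
    rw [h] at h3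
    exact absurd h3 (by decide)
  · left
    refine ⟨⟨mul_mem b.2 (X.Q_le P.Q_t), ?_⟩, ?_⟩
    · rw [h]; decide
    · rintro ⟨-, h3⟩
      rw [h] at h3
      exact absurd h3 (by decide)

theorem C_M (l : Fˣ) {s : G} (hs : s ∈ M E) : C X l s ∈ M E :=
  ⟨C_mem X l hs.1, by rw [E.tor l s hs.1, hs.2]⟩

theorem mem_M_of_Q {g : G} (hgQ : g ∈ P.Q) (h : (crd P g).1 = 0) : g ∈ M E :=
  ⟨X.Q_le hgQ, by rw [E.onQ g hgQ, h]⟩

theorem p_mem (a b : F) : P.p a b ∈ M E := mem_M_of_Q E (P.Q_p a b) (by rw [crd_p])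

theorem exists_M_wt (hd : del P = 0) (hg : gam P = 0) (w : F) : ∃ s ∈ M E, wt P s = w := by
  obtain ⟨s, hs, hw⟩ := exists_wt X w
  rcases zmod_cases (E.e s) with h | h
  · exact ⟨s, ⟨hs, h⟩, hw⟩
  · refine ⟨s * P.t, ⟨mul_mem hs (X.Q_le P.Q_t), ?_⟩, ?_⟩
    · rw [E.mul s hs _ (X.Q_le P.Q_t), h, E.t]; decide
    · rw [wt_mul X hd hg hs (X.Q_le P.Q_t), wt_of_Q P.Q_t, add_zero, hw]

/-! ### The subgroup `W` -/

/-- the subgroup `W`. -/
noncomputable def W (P : Pre G F m) : Subgroup G where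
  carrier := {g | g ∈ P.Q ∧ (crd P g).1 = 0 ∧ (crd P g).2.1 = 0}
  one_mem' := ⟨one_mem _, by rw [crd_one]; rfl, by rw [crd_one]; rfl⟩
  mul_mem' := by
    rintro a b ⟨ha, ha', ha2⟩ ⟨hb, hb', hb2⟩
    refine ⟨mul_mem ha hb, ?_, ?_⟩
    · rw [fst_mul ha hb, ha', hb', add_zero]
    · rw [crd_mul P ha hb]
      show (crd P a).2.1 + (crd P b).2.1 = 0
      rw [ha2, hb2, add_zero]
  inv_mem' := by
    rintro a ⟨ha, ha', ha2⟩
    refine ⟨inv_mem ha, ?_, ?_⟩ <;> rw [crd_inv P ha] <;> assumption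

theorem mem_W {g : G} : g ∈ W P ↔ g ∈ P.Q ∧ (crd P g).1 = 0 ∧ (crd P g).2.1 = 0 := Iff.rfl

theorem W_le_M : W P ≤ M E := fun _ h => mem_M_of_Q E h.1 h.2.1

theorem z_mem_W (b : F) : P.p 0 b ∈ W P := ⟨P.Q_p 0 b, by rw [crd_p], by rw [crd_p]⟩

theorem crd_W {g : G} (h : g ∈ W P) : crd P g = (0, 0, (crd P g).2.2) :=
  Prod.ext h.2.1 (Prod.ext h.2.2 rfl)

theorem el_mem_W (u : F) : el P (0, 0, u) ∈ W P :=
  ⟨el_mem P _, by rw [crd_el], by rw [crd_el]⟩

theorem C_W (l : Fˣ) {g : G} (h : g ∈ W P) : C X l g ∈ W P := by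
  rw [C_Q X l h.1]
  refine ⟨cj_mem P l h.1, ?_, ?_⟩
  · rw [crd_cj P l h.1]; exact h.2.1
  · rw [crd_cj P l h.1]
    show (l : F) * (crd P g).2.1 = 0
    rw [h.2.2, mul_zero]

/-- `W` is elementary abelian. -/
theorem W_sq (hd : del P = 0) (hg : gam P = 0) {g : G} (h : g ∈ W P) : g * g = 1 := by
  rw [mul_self_crd P h.1, crd_W h, hd, hg, Sq_zero]
  simp only [cc_zero, zero_mul, zero_add, add_zero]
  rw [zero_pow (by positivity), P.p_zero]

theorem crd_conj_W (hd : del P = 0) (hg : gam P = 0) {s : G} (hs : s ∈ X.S) {g : G}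
    (h : g ∈ W P) : crd P (s * g * s⁻¹) = crd P g := by
  rw [crd_conj X hd hg hs h.1, h.2.1, h.2.2]
  simp only [cc_zero, zero_mul, add_zero, bt_zero_right]
  rw [crd_W h]

open Classical in
/-- `s g s⁻¹ = p 0 (ka s g) g`. -/
noncomputable def ka (P : Pre G F m) (s g : G) : F :=
  if h : ∃ b, s * g * s⁻¹ = P.p 0 b * g then h.choose else 0

theorem ka_spec (hd : del P = 0) (hg : gam P = 0) {s : G} (hs : s ∈ X.S) {g : G}
    (h : g ∈ W P) : s * g * s⁻¹ = P.p 0 (ka P s g) * g := by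
  have h1 : ∃ b, s * g * s⁻¹ = P.p 0 b * g :=
    exists_z_mul P (X.S_Q s hs g h.1) h.1 (crd_conj_W hd hg hs h)
  unfold ka
  rw [dif_pos h1]
  exact h1.choose_spec

theorem ka_eq (hd : del P = 0) (hg : gam P = 0) {s : G} (hs : s ∈ X.S) {g : G}
    (h : g ∈ W P) {b : F} (hb : s * g * s⁻¹ = P.p 0 b * g) : ka P s g = b := by
  rw [ka_spec hd hg hs h] at hb
  exact P.z_inj (mul_right_cancel hb)

theorem ka_mul_left (hd : del P = 0) (hg : gam P = 0) {s r : G} (hs : s ∈ X.S) (hr : r ∈ X.S)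
    {g : G} (h : g ∈ W P) : ka P (s * r) g = ka P s g + ka P r g := by
  apply ka_eq hd hg (mul_mem hs hr) h
  have h1 : s * r * g * (s * r)⁻¹ = s * (r * g * r⁻¹) * s⁻¹ := by group
  rw [h1, ka_spec hd hg hr h]
  have h2 : s * (P.p 0 (ka P r g) * g) * s⁻¹ = (s * P.p 0 (ka P r g)) * g * s⁻¹ := by group
  rw [h2, X.S_Z s hs]
  have h3 : P.p 0 (ka P r g) * s * g * s⁻¹ = P.p 0 (ka P r g) * (s * g * s⁻¹) := by group
  rw [h3, ka_spec hd hg hs h, ← mul_assoc, P.z_mul, add_comm]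

theorem ka_mul_right (hd : del P = 0) (hg : gam P = 0) {s : G} (hs : s ∈ X.S)
    {g k : G} (h : g ∈ W P) (h' : k ∈ W P) : ka P s (g * k) = ka P s g + ka P s k := by
  apply ka_eq hd hg hs (mul_mem h h')
  have h1 : s * (g * k) * s⁻¹ = (s * g * s⁻¹) * (s * k * s⁻¹) := by group
  rw [h1, ka_spec hd hg hs h, ka_spec hd hg hs h']
  have h2 : P.p 0 (ka P s g) * g * (P.p 0 (ka P s k) * k) =
      P.p 0 (ka P s g) * (g * P.p 0 (ka P s k)) * k := by group
  rw [h2, P.Q_Z g h.1]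
  have h3 : P.p 0 (ka P s g) * (P.p 0 (ka P s k) * g) * k =
      (P.p 0 (ka P s g) * P.p 0 (ka P s k)) * (g * k) := by group
  rw [h3, P.z_mul]

theorem ka_V (X : Nx P) (hd : del P = 0) (hg : gam P = 0) {s : G} (hs : s ∈ P.Q)
    (h0 : (crd P s).1 = 0) {g : G} (h : g ∈ W P) : ka P s g = 0 := by
  apply ka_eq (X := X) hd hg (X.Q_le hs) h
  have h1 := mul_comm_crd P hs h.1
  rw [hd, B_zero, h0, h.2.1, h.2.2] at h1
  simp only [cc_zero, zero_mul, zero_add, bt_zero_right] at h1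
  rw [h1]
  group

theorem ka_z (hd : del P = 0) (hg : gam P = 0) {s : G} (hs : s ∈ X.S) (b : F) :
    ka P s (P.p 0 b) = 0 := by
  apply ka_eq hd hg hs (z_mem_W b)
  rw [X.S_Z s hs, P.p_zero, one_mul, mul_assoc, mul_inv_cancel, mul_one]

theorem ka_C (hd : del P = 0) (hg : gam P = 0) (l : Fˣ) {s : G} (hs : s ∈ X.S)
    {g : G} (h : g ∈ W P) :
    ka P (C X l s) (C X l g) = (l : F) ^ (1 + 2 ^ (m + 1)) * ka P s g := by
  apply ka_eq hd hg (C_mem X l hs) (C_W l h)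
  have h1 : C X l s * C X l g * (C X l s)⁻¹ = C X l (s * g * s⁻¹) := by
    unfold C; group
  rw [h1, ka_spec hd hg hs h, C_mul, C_Q X l (P.Q_p _ _), cj_p, mul_zero]

theorem ka_congr (hd : del P = 0) (hg : gam P = 0) {s r : G} (hs : s ∈ M E) (hr : r ∈ M E)
    (hw : wt P s = wt P r) {g : G} (h : g ∈ W P) : ka P s g = ka P r g := by
  have h1 : s * r⁻¹ ∈ P.Q := by
    apply mem_Q_of_wt X (mul_mem hs.1 (inv_mem hr.1))
    rw [wt_mul X hd hg hs.1 (inv_mem hr.1), wt_inv X hd hg hr.1, hw, FormAlg.add_self]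
  have h2 : (crd P (s * r⁻¹)).1 = 0 := by
    rw [← E.onQ _ h1]
    exact (mul_mem hs (inv_mem hr) : s * r⁻¹ ∈ M E).2
  have h3 := ka_mul_left hd hg (X.Q_le h1) hr.1 h
  rw [inv_mul_cancel_right, ka_V X hd hg h1 h2 h, zero_add] at h3
  exact h3

theorem ka_congr_right (hd : del P = 0) (hg : gam P = 0) {s : G} (hs : s ∈ X.S)
    {g k : G} (h : g ∈ W P) (h' : k ∈ W P) (hc : crd P g = crd P k) : ka P s g = ka P s k := by
  obtain ⟨b, hb⟩ := exists_z_mul P h.1 h'.1 hc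
  rw [hb, ka_mul_right hd hg hs (z_mem_W b) h', ka_z hd hg hs, zero_add]

/-- the commutator of `M` and `W`. -/
theorem exists_pairing (hd : del P = 0) (hg : gam P = 0) : ∃ d : F, ∀ s ∈ M E, ∀ g ∈ W P,
    ka P s g = d * (wt P s * (crd P g).2.2) ^ (2 ^ m) := by
  choose sw hsw hww using exists_M_wt E hd hg
  obtain ⟨d, hd'⟩ := pairing_122 P.hm P.hF (fun w u => ka P (sw w) (el P (0, 0, u)))
    (by
      intro w w' u
      show ka P _ _ = ka P _ _ + ka P _ _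
      rw [← ka_mul_left hd hg (hsw w).1 (hsw w').1 (el_mem_W u)]
      apply ka_congr E hd hg (hsw _) (mul_mem (hsw w) (hsw w')) _ (el_mem_W u)
      rw [hww, wt_mul X hd hg (hsw w).1 (hsw w').1, hww, hww])
    (by
      intro w u u'
      show ka P _ _ = ka P _ _ + ka P _ _
      rw [← ka_mul_right hd hg (hsw w).1 (el_mem_W u) (el_mem_W u')]
      apply ka_congr_right hd hg (hsw w).1 (el_mem_W _) (mul_mem (el_mem_W u) (el_mem_W u'))
      rw [crd_mul P (el_mem P _) (el_mem P _), crd_el, crd_el, crd_el]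
      ext <;> simp)
    (by
      intro l w u hl
      show ka P _ _ = _ * ka P _ _
      have h1 := ka_C hd hg (Units.mk0 l hl) (hsw w).1 (el_mem_W (P := P) u)
      rw [Units.val_mk0] at h1
      rw [← h1]
      have h2 : crd P (el P (0, 0, l ^ (1 + 2 ^ (m + 1)) * u)) =
          crd P (C X (Units.mk0 l hl) (el P (0, 0, u))) := by
        rw [C_Q X _ (el_mem P _), crd_cj P _ (el_mem P _), crd_el, crd_el, Units.val_mk0]
        simp
      rw [ka_congr_right hd hg (hsw _).1 (el_mem_W _) (C_W _ (el_mem_W u)) h2]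
      apply ka_congr E hd hg (hsw _) (C_M E _ (hsw w)) _ (C_W _ (el_mem_W u))
      rw [hww, wt_C X _ (hsw w).1, hww, Units.val_mk0])
  refine ⟨d, fun s hs g h => ?_⟩
  rw [← hd', ka_congr E hd hg hs (hsw (wt P s)) (hww _).symm h]
  apply ka_congr_right hd hg (hsw _).1 h (el_mem_W _)
  rw [crd_el]
  exact crd_W h

theorem bt_ker (P : Pre G F m) {c : F} (hc : c ≠ 0) {a : F} (ha : bt m c a = 0) :
    a = 0 ∨ a = c := by
  have h1 : bt m c (c * (c⁻¹ * a)) = 0 := by rw [mul_inv_cancel_left₀ hc]; exact ha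
  rw [bt_mul] at h1
  rcases mul_eq_zero.mp h1 with h2 | h2
  · exact absurd ((pow_eq_zero_iff (by positivity)).mp h2) hc
  · have h3 : (c⁻¹ * a) ^ (2 ^ (m + 1)) = c⁻¹ * a := by
      have := congrArg (fun z => z + c⁻¹ * a) h2
      rw [add_assoc, FormAlg.add_self, add_zero, zero_add] at this
      exact this
    rcases eq_of_th_eq P.hF h3 with h | h
    · left
      rcases mul_eq_zero.mp h with h | h
      · exact absurd (inv_eq_zero.mp h) hc
      · exact h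
    · right
      have := congrArg (fun z => c * z) h
      simpa [mul_inv_cancel_left₀ hc] using this

/-- if `b = k b ^ (2 ^ m)` for two nonzero values of `b`, they are equal. -/
theorem eq_of_pow (P : Pre G F m) {k b c : F} (hb : b ≠ 0) (hc : c ≠ 0)
    (h1 : b = k * b ^ (2 ^ m)) (h2 : c = k * c ^ (2 ^ m)) : b = c := by
  have hk : k ≠ 0 := by
    rintro rfl
    rw [zero_mul] at h1
    exact hb h1
  set y := b / c with hy
  have hy0 : y ≠ 0 := div_ne_zero hb hc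
  have h3 : y ^ (2 ^ m) = y := by
    rw [hy, div_pow]
    have e1 : b ^ (2 ^ m) = b / k := by
      rw [eq_div_iff hk, mul_comm]; exact h1.symm
    have e2 : c ^ (2 ^ m) = c / k := by
      rw [eq_div_iff hk, mul_comm]; exact h2.symm
    rw [e1, e2, div_div_div_cancel_right₀ hk]
  have h4 : y ^ (2 ^ (2 * m + 1)) = y := by rw [← P.hF, FiniteField.pow_card]
  have h5 : y ^ (2 ^ (2 * m + 1)) = y ^ 2 := by
    have : 2 ^ (2 * m + 1) = 2 ^ m * 2 ^ m * 2 := by ring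
    rw [this, pow_mul, pow_mul, h3, h3]
  rw [h5, pow_two] at h4
  have h6 : y = 1 := mul_left_cancel₀ hy0 (by rw [h4, mul_one])
  rw [hy, div_eq_one_iff_eq hc] at h6
  exact h6

/-- the action of `s ^ 2` on `P`. -/
theorem bt_tau (hd : del P = 0) (hg : gam P = 0) {d : F} (hpair : ∀ s ∈ M E, ∀ g ∈ W P,
    ka P s g = d * (wt P s * (crd P g).2.2) ^ (2 ^ m)) {s : G} (hs : s ∈ M E) (a : F) :
    bt m (crd P (s * s)).2.1 a = d * (wt P s * bt m (wt P s) a) ^ (2 ^ m) := by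
  have hss := sq_mem X hd hg hs.1
  have hx := P.Q_p a 0
  set x := P.p a 0 with hx'
  set g := s * x * s⁻¹ * x⁻¹ with hg'
  have hcx : crd P x = (0, a, 0) := crd_p P a 0
  have hsx := X.S_Q s hs.1 x hx
  have hcg : crd P g = (0, 0, bt m (wt P s) a) := by
    rw [hg', crd_mul P hsx (inv_mem hx), crd_inv P hx, crd_conj X hd hg hs.1 hx, hcx]
    simp only [cc_zero, zero_mul, add_zero, zero_add]
    ext
    · exact zadd_self 0
    · exact FormAlg.add_self a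
    · exact add_zero _
  have hgQ : g ∈ P.Q := mul_mem hsx (inv_mem hx)
  have hgW : g ∈ W P := ⟨hgQ, by rw [hcg], by rw [hcg]⟩
  have h1 := hpair s hs g hgW
  rw [hcg] at h1
  rw [← h1]
  have h2 : s * x * s⁻¹ = g * x := by rw [hg']; group
  have h3 : s * s * x * (s * s)⁻¹ = P.p 0 (ka P s g) * x := by
    have h4 : s * s * x * (s * s)⁻¹ = s * (s * x * s⁻¹) * s⁻¹ := by group
    have h5 : s * (g * x) * s⁻¹ = (s * g * s⁻¹) * (s * x * s⁻¹) := by group
    rw [h4, h2, h5, h2, ka_spec hd hg hs.1 hgW]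
    have h6 : P.p 0 (ka P s g) * g * (g * x) = P.p 0 (ka P s g) * (g * g) * x := by group
    rw [h6, W_sq hd hg hgW, mul_one]
  have h7 := mul_comm_crd P hss hx
  rw [hd, B_zero, hcx] at h7
  have h8 : (crd P (s * s)).1 = 0 := qq_zero X hd hg hs.1
  rw [h8] at h7
  simp only [cc_zero, zero_mul, zero_add] at h7
  have h9 : s * s * x * (s * s)⁻¹ = P.p 0 (bt m (crd P (s * s)).2.1 a) * x := by
    rw [h7]; group
  rw [h3] at h9
  exact (P.z_inj (mul_right_cancel h9)).symm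

theorem tau_cases (hd : del P = 0) (hg : gam P = 0) {s : G} (hs : s ∈ M E)
    (hw : wt P s ≠ 0) : (crd P (s * s)).2.1 = 0 ∨ (crd P (s * s)).2.1 = wt P s := by
  have hss := sq_mem X hd hg hs.1
  have h1 := crd_conj X hd hg hs.1 hss
  have h2 : s * (s * s) * s⁻¹ = s * s := by group
  have h8 : (crd P (s * s)).1 = 0 := qq_zero X hd hg hs.1
  rw [h2, h8] at h1
  have h3 := congrArg (fun z => z.2.2) h1
  simp only [cc_zero, zero_mul, add_zero] at h3
  apply bt_ker P hw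
  exact (left_eq_add.mp h3)

theorem tau_zero (hd : del P = 0) (hg : gam P = 0) {s : G} (hs : s ∈ M E) :
    (crd P (s * s)).2.1 = 0 := by
  obtain ⟨d, hpair⟩ := exists_pairing E hd hg
  by_cases hw : wt P s = 0
  · have hsQ := mem_Q_of_wt X hs.1 hw
    rw [P.sq_spec hsQ, crd_p]
  · rcases tau_cases E hd hg hs hw with h | h
    · exact h
    · exfalso
      obtain ⟨a, ha, -⟩ := P.exists_two_values hw 0
      obtain ⟨b, hb, hba⟩ := P.exists_two_values hw (bt m (wt P s) a)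
      have h1 := bt_tau E hd hg hpair hs a
      have h2 := bt_tau E hd hg hpair hs b
      rw [h, mul_pow, ← mul_assoc] at h1 h2
      exact hba (eq_of_pow P hb ha h2 h1)

theorem ka_zero (hd : del P = 0) (hg : gam P = 0) {s : G} (hs : s ∈ M E) {g : G}
    (h : g ∈ W P) : ka P s g = 0 := by
  obtain ⟨d, hpair⟩ := exists_pairing E hd hg
  obtain ⟨s1, hs1, hw1⟩ := exists_M_wt E hd hg (1 : F)
  have h1 := tau_zero E hd hg hs1
  obtain ⟨a, ha, -⟩ := P.exists_two_values (one_ne_zero (α := F)) 0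
  have h2 := bt_tau E hd hg hpair hs1 a
  rw [h1, bt_zero_left, hw1, one_mul] at h2
  have hd0 : d = 0 := by
    rcases mul_eq_zero.mp h2.symm with h | h
    · exact h
    · exact absurd ((pow_eq_zero_iff (by positivity)).mp h) ha
  rw [hpair s hs g h, hd0, zero_mul]

/-- `W` is central in `M`. -/
theorem W_central (hd : del P = 0) (hg : gam P = 0) {s : G} (hs : s ∈ M E) {g : G}
    (h : g ∈ W P) : s * g = g * s := by
  have h1 := ka_spec hd hg hs.1 h
  rw [ka_zero E hd hg hs h, P.p_zero, one_mul] at h1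
  exact mul_inv_eq_iff_eq_mul.mp h1

/-- squares of `M` lie in `W`. -/
theorem sq_W (hd : del P = 0) (hg : gam P = 0) {s : G} (hs : s ∈ M E) : s * s ∈ W P :=
  ⟨sq_mem X hd hg hs.1, qq_zero X hd hg hs.1, tau_zero E hd hg hs⟩

/-- commutators of `M` lie in `W`. -/
theorem comm_W (hd : del P = 0) (hg : gam P = 0) {s r : G} (hs : s ∈ M E) (hr : r ∈ M E) :
    s * r * s⁻¹ * r⁻¹ ∈ W P := by
  have h1 : s * r * s⁻¹ * r⁻¹ = (s * r) * (s * r) * (r⁻¹ * (s⁻¹ * s⁻¹) * r⁻¹⁻¹) * (r⁻¹ * r⁻¹) := by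
    group
  rw [h1]
  have h2 := sq_W E hd hg (mul_mem hs hr)
  have h3 := sq_W E hd hg (inv_mem hs)
  have h4 := sq_W E hd hg (inv_mem hr)
  have h5 : r⁻¹ * (s⁻¹ * s⁻¹) * r⁻¹⁻¹ = s⁻¹ * s⁻¹ := by
    rw [W_central E hd hg (inv_mem hr) h3, mul_assoc, mul_inv_cancel, mul_one]
  rw [h5]
  exact mul_mem (mul_mem h2 h3) h4

end Cfsg.Agent.StdSz.GammaZeroB
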