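import Cfsg.Agent.StdSz.FormAlg
import Mathlib.Data.ZMod.Basic

/-!
# Automorphisms of the commutator form of the Suzuki 2-group

`F` has `q = 2 ^ (2 * m + 1)` elements, `bt m a b = a * b ^ θ + a ^ θ * b`.  If `m ≥ 2` and `A`, `B`
are additive with `A` injective and `bt (A a) (A b) = B (bt a b)`, then `A a = c * a ^ 2 ^ i`
(linear equivalences of the Gold function are monomial).  In particular such an `A` of 2-power
order is trivial.
-/

set_option autoImplicit false
set_option linter.unusedSectionVars false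
set_option linter.style.haveILetI false

namespace Cfsg.Agent.StdSz.Gold

open Cfsg.Agent.StdSz.EquivMaps Cfsg.Agent.StdSz.SzMaps Cfsg.Agent.StdSz.FormAlg

/-- The combinatorial heart: coefficients indexed by `ZMod n`, `n ≥ 5`. -/
theorem comb {F : Type*} [Field F] {n : ℕ} (hn : 5 ≤ n) (θ : F → F) (θ0 : ∀ x, θ x = 0 ↔ x = 0)
    (c : ZMod n → F)
    (h : ∀ i j : ZMod n, j - i ≠ 1 → j - i ≠ -1 → c i * θ (c (j - 1)) = θ (c (i - 1)) * c j) :
    (∃ i, ∀ j, j ≠ i → c j = 0) ∨ (∃ κ : F, ∀ i, θ (c (i - 1)) = κ * c i) := by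
  haveI : NeZero n := ⟨by omega⟩
  have hk : ∀ k : ℕ, 0 < k → k < 5 → ((k : ℕ) : ZMod n) ≠ 0 := by
    intro k h0 h5 he
    rw [ZMod.natCast_eq_zero_iff] at he
    exact absurd (Nat.le_of_dvd h0 he) (by omega)
  have h1 : (1 : ZMod n) ≠ 0 := by have := hk 1 (by norm_num) (by norm_num); simpa using this
  have h2 : (2 : ZMod n) ≠ 0 := by have := hk 2 (by norm_num) (by norm_num); simpa using this
  have h3 : (3 : ZMod n) ≠ 0 := by have := hk 3 (by norm_num) (by norm_num); simpa using this
  have h4 : (4 : ZMod n) ≠ 0 := by have := hk 4 (by norm_num) (by norm_num); simpa using this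
  by_cases hall : ∀ i, c i ≠ 0
  · right
    set ρ : ZMod n → F := fun i => θ (c (i - 1)) / c i with hρ
    have hr : ∀ i j : ZMod n, j - i ≠ 1 → j - i ≠ -1 → ρ i = ρ j := by
      intro i j e1 e2
      have := h i j e1 e2
      simp only [hρ]
      rw [div_eq_div_iff (hall i) (hall j), ← this, mul_comm]
    have hs : ∀ i : ZMod n, ρ i = ρ (i + 1) := by
      intro i
      have e1 : ρ i = ρ (i + 3) := by
        apply hr
        · intro e
          apply h2
          have : (i + 3 - i : ZMod n) = 3 := by ring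
          rw [this] at e
          calc (2 : ZMod n) = 3 - 1 := by norm_num
            _ = 0 := by rw [e, sub_self]
        · intro e
          apply h4
          have : (i + 3 - i : ZMod n) = 3 := by ring
          rw [this] at e
          calc (4 : ZMod n) = 3 + 1 := by norm_num
            _ = 0 := by rw [e]; ring
      have e2 : ρ (i + 1) = ρ (i + 3) := by
        apply hr
        · intro e
          apply h1
          have : (i + 3 - (i + 1) : ZMod n) = 2 := by ring
          rw [this] at e
          calc (1 : ZMod n) = 2 - 1 := by norm_num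
            _ = 0 := by rw [e, sub_self]
        · intro e
          apply h3
          have : (i + 3 - (i + 1) : ZMod n) = 2 := by ring
          rw [this] at e
          calc (3 : ZMod n) = 2 + 1 := by norm_num
            _ = 0 := by rw [e]; ring
      rw [e1, e2]
    have hn' : ∀ k : ℕ, ρ (k : ZMod n) = ρ 0 := by
      intro k
      induction k with
      | zero => simp
      | succ k ih => rw [Nat.cast_succ, ← hs, ih]
    refine ⟨ρ 0, fun i => ?_⟩
    have : ρ i = ρ 0 := by
      have := hn' i.val
      rwa [ZMod.natCast_zmod_val] at this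
    rw [← this]
    simp only [hρ]
    rw [div_mul_cancel₀ _ (hall i)]
  · left
    push Not at hall
    obtain ⟨z, hz⟩ := hall
    by_cases hnz : ∀ i, c i = 0
    · exact ⟨0, fun j _ => hnz j⟩
    push Not at hnz
    -- find i with c i ≠ 0 and c (i-1) = 0
    have hex : ∃ i, c i ≠ 0 ∧ c (i - 1) = 0 := by
      by_contra hcon
      push Not at hcon
      obtain ⟨i, hi⟩ := hnz
      have hk : ∀ k : ℕ, c (i - k) ≠ 0 := by
        intro k
        induction k with
        | zero => simpa using hi
        | succ k ih =>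
          have := hcon _ ih
          rwa [Nat.cast_succ, ← sub_sub]
      have := hk (i - z).val
      rw [ZMod.natCast_zmod_val, sub_sub_cancel] at this
      exact this hz
    -- key
    have key : ∀ i, c i ≠ 0 → c (i - 1) = 0 → ∀ l, l ≠ i → l ≠ i - 1 → l ≠ i - 2 → c l = 0 := by
      intro i hi hi1 l l0 l1 l2
      have := h i (l + 1) (by
        intro e; apply l0
        have : l = i + (l + 1 - i) - 1 := by ring
        rw [this, e]; ring) (by
        intro e; apply l2
        have : l = i + (l + 1 - i) - 1 := by ring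
        rw [this, e]; ring)
      rw [hi1, (θ0 0).mpr rfl, zero_mul, add_sub_cancel_right] at this
      rcases mul_eq_zero.mp this with h' | h'
      · exact absurd h' hi
      · exact (θ0 _).mp h'
    obtain ⟨i, hi, hi1⟩ := hex
    have hi2 : c (i - 2) = 0 := by
      by_contra hne
      have e3 : c (i - 2 - 1) = 0 := by
        apply key i hi hi1
        · intro e
          apply h3
          have : (3 : ZMod n) = i - (i - 2 - 1) := by ring
          rw [this, e, sub_self]
        · intro e
          apply h2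
          have : (2 : ZMod n) = (i - 1) - (i - 2 - 1) := by ring
          rw [this, e, sub_self]
        · intro e
          apply h1
          have : (1 : ZMod n) = (i - 2) - (i - 2 - 1) := by ring
          rw [this, e, sub_self]
      apply hi
      apply key (i - 2) hne e3
      · intro e
        apply h2
        have : (2 : ZMod n) = i - (i - 2) := by ring
        rw [this, ← e, sub_self]
      · intro e
        apply h3
        have : (3 : ZMod n) = i - (i - 2 - 1) := by ring
        rw [this, ← e, sub_self]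
      · intro e
        apply h4
        have : (4 : ZMod n) = i - (i - 2 - 2) := by ring
        rw [this, ← e, sub_self]
    refine ⟨i, fun j hj => ?_⟩
    by_cases e1 : j = i - 1
    · rw [e1, hi1]
    by_cases e2 : j = i - 2
    · rw [e2, hi2]
    exact key i hi hi1 j hj e1 e2


section Main

variable {F : Type*} [Field F] [Fintype F] [CharP F 2] {m : ℕ}

/-- the `i`-th power of Frobenius, `i` modulo `n`. -/
def pw (m : ℕ) (i : ZMod (2 * m + 1)) (x : F) : F := x ^ (2 ^ i.val)

theorem pow_mod (hF : Fintype.card F = 2 ^ (2 * m + 1)) (k : ℕ) (x : F) :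
    x ^ (2 ^ (k % (2 * m + 1))) = x ^ (2 ^ k) := by
  have h1 : ∀ j : ℕ, x ^ (2 ^ ((2 * m + 1) * j)) = x := by
    intro j
    induction j with
    | zero => simp
    | succ j ih =>
      rw [mul_add, mul_one, _root_.pow_add, pow_mul, ih, ← hF, FiniteField.pow_card]
  conv_rhs => rw [← Nat.div_add_mod k (2 * m + 1), _root_.pow_add, pow_mul, h1]

theorem pw_cast (hF : Fintype.card F = 2 ^ (2 * m + 1)) (k : ℕ) (x : F) :
    pw m (k : ZMod (2 * m + 1)) x = x ^ (2 ^ k) := by
  unfold pw
  rw [ZMod.val_natCast, pow_mod hF]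

theorem pw_pw (hF : Fintype.card F = 2 ^ (2 * m + 1)) (i j : ZMod (2 * m + 1)) (x : F) :
    pw m i (pw m j x) = pw m (i + j) x := by
  have : ((i.val + j.val : ℕ) : ZMod (2 * m + 1)) = i + j := by
    rw [Nat.cast_add, ZMod.natCast_zmod_val, ZMod.natCast_zmod_val]
  rw [← this, pw_cast hF]
  unfold pw
  rw [← pow_mul, ← _root_.pow_add, add_comm]

theorem pw_add (i : ZMod (2 * m + 1)) (x y : F) : pw m i (x + y) = pw m i x + pw m i y :=
  FormAlg.pow_add _ x y

theorem pw_mul (i : ZMod (2 * m + 1)) (x y : F) : pw m i (x * y) = pw m i x * pw m i y :=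
  mul_pow _ _ _

theorem pw_zero (i : ZMod (2 * m + 1)) : pw m i (0 : F) = 0 :=
  zero_pow (by positivity)

theorem pw_eq_zero (i : ZMod (2 * m + 1)) (x : F) : pw m i x = 0 ↔ x = 0 := by
  unfold pw
  exact pow_eq_zero_iff (by positivity)

theorem pw_sum {ι : Type*} (s : Finset ι) (i : ZMod (2 * m + 1)) (f : ι → F) :
    pw m i (∑ k ∈ s, f k) = ∑ k ∈ s, pw m i (f k) := by
  classical
  induction s using Finset.induction_on with
  | empty => simp [pw_zero]
  | insert a s ha ih => rw [Finset.sum_insert ha, Finset.sum_insert ha, pw_add, ih]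

theorem exists_pw (hm : 1 ≤ m) (hF : Fintype.card F = 2 ^ (2 * m + 1)) (A : F → F)
    (hA : ∀ x y, A (x + y) = A x + A y) :
    ∃ a : ZMod (2 * m + 1) → F, ∀ x, A x = ∑ i, a i * pw m i x := by
  obtain ⟨c, hc⟩ := exists_coeff hF (by omega) A hA
  exact ⟨c, hc⟩

theorem pw_unique (hm : 1 ≤ m) (hF : Fintype.card F = 2 ^ (2 * m + 1))
    (c d : ZMod (2 * m + 1) → ZMod (2 * m + 1) → F)
    (h : ∀ x y : F, ∑ i, ∑ j, c i j * (pw m i x * pw m j y) =
      ∑ i, ∑ j, d i j * (pw m i x * pw m j y)) : c = d :=
  coeff₂_unique hF (by omega) c d h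

/-- `h = 1/2`. -/
def hf (m : ℕ) : ZMod (2 * m + 1) := ((m + 1 : ℕ) : ZMod (2 * m + 1))

theorem hf_add (m : ℕ) : hf m + hf m = 1 := by
  unfold hf
  rw [← Nat.cast_add]
  have : m + 1 + (m + 1) = (2 * m + 1) + 1 := by ring
  rw [this, Nat.cast_add, ZMod.natCast_self, zero_add, Nat.cast_one]

theorem theta_eq (hF : Fintype.card F = 2 ^ (2 * m + 1)) (x : F) :
    x ^ (2 ^ (m + 1)) = pw m (hf m) x := (pw_cast hF _ _).symm

theorem bt_eq (hF : Fintype.card F = 2 ^ (2 * m + 1)) (x y : F) :
    bt m x y = x * pw m (hf m) y + pw m (hf m) x * y := by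
  unfold bt
  rw [theta_eq hF, theta_eq hF]

/-- coefficients of the two sides. -/
theorem coeff_relation (hm : 1 ≤ m) (hF : Fintype.card F = 2 ^ (2 * m + 1))
    (a b : ZMod (2 * m + 1) → F)
    (h : ∀ x y : F, bt m (∑ i, a i * pw m i x) (∑ i, a i * pw m i y) =
      ∑ i, b i * pw m i (bt m x y)) (i j : ZMod (2 * m + 1)) (h1 : j - i ≠ hf m)
    (h2 : j - i ≠ - hf m) :
    a i * pw m (hf m) (a (j - hf m)) = pw m (hf m) (a (i - hf m)) * a j := by
  have e0 : ∀ x : F, pw m (hf m) (∑ i, a i * pw m i x) =
      ∑ i, pw m (hf m) (a (i - hf m)) * pw m i x := by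
    intro x
    rw [← Equiv.sum_comp (Equiv.addRight (hf m)) (fun i => pw m (hf m) (a (i - hf m)) * pw m i x),
      pw_sum]
    refine Finset.sum_congr rfl fun i _ => ?_
    rw [pw_mul, pw_pw hF, Equiv.coe_addRight, add_sub_cancel_right, add_comm (hf m) i]
  have e1 : (fun i j => a i * pw m (hf m) (a (j - hf m)) + pw m (hf m) (a (i - hf m)) * a j) =
      fun i j => (if j = i + hf m then b i else 0) + (if i = j + hf m then b j else 0) := by
    apply pw_unique hm hF
    intro x y
    have l1 : ∑ i, ∑ j, (a i * pw m (hf m) (a (j - hf m)) + pw m (hf m) (a (i - hf m)) * a j) *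
        (pw m i x * pw m j y) =
        bt m (∑ i, a i * pw m i x) (∑ i, a i * pw m i y) := by
      rw [bt_eq hF, e0, e0, Finset.sum_mul_sum, Finset.sum_mul_sum, ← Finset.sum_add_distrib]
      refine Finset.sum_congr rfl fun i _ => ?_
      rw [← Finset.sum_add_distrib]
      refine Finset.sum_congr rfl fun j _ => ?_
      ring
    rw [l1, h]
    have l2 : ∀ k : ZMod (2 * m + 1), b k * pw m k (bt m x y) =
        b k * (pw m k x * pw m (k + hf m) y) + b k * (pw m (k + hf m) x * pw m k y) := by
      intro k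
      rw [bt_eq hF, pw_add, pw_mul, pw_mul, pw_pw hF, pw_pw hF]
      ring
    simp_rw [l2, add_mul, Finset.sum_add_distrib]
    congr 1
    · refine Finset.sum_congr rfl fun i _ => ?_
      rw [Finset.sum_eq_single (i + hf m)]
      · rw [if_pos rfl]
      · intro j _ hj
        rw [if_neg hj, zero_mul]
      · intro hh; exact absurd (Finset.mem_univ _) hh
    · rw [Finset.sum_comm]
      refine Finset.sum_congr rfl fun i _ => ?_
      rw [Finset.sum_eq_single (i + hf m)]
      · rw [if_pos rfl]
      · intro j _ hj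
        rw [if_neg hj, zero_mul]
      · intro hh; exact absurd (Finset.mem_univ _) hh
  have e2 := congrFun (congrFun e1 i) j
  rw [if_neg (fun e => h1 (by rw [e]; ring)), if_neg (fun e => h2 (by rw [e]; ring)),
    add_zero] at e2
  exact CharTwo.add_eq_zero.mp e2

/-- **Linear equivalences of the commutator form are monomial** (`m ≥ 2`). -/
theorem monomial (hm : 2 ≤ m) (hF : Fintype.card F = 2 ^ (2 * m + 1)) (A B : F → F)
    (hA : ∀ x y, A (x + y) = A x + A y) (hB : ∀ x y, B (x + y) = B x + B y)
    (hinj : Function.Injective A) (h : ∀ x y, bt m (A x) (A y) = B (bt m x y)) :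
    ∃ (c : F) (i : ZMod (2 * m + 1)), c ≠ 0 ∧ ∀ x, A x = c * pw m i x := by
  obtain ⟨a, ha⟩ := exists_pw (by omega) hF A hA
  obtain ⟨b, hb⟩ := exists_pw (by omega) hF B hB
  have hrel := coeff_relation (by omega) hF a b (fun x y => by rw [← ha, ← ha, ← hb]; exact h x y)
  have hu : ∀ k : ZMod (2 * m + 1), (2 * k) * hf m = k := by
    intro k
    have : 2 * k * hf m = k * (hf m + hf m) := by ring
    rw [this, hf_add, mul_one]
  have hc := comb (n := 2 * m + 1) (by omega) (fun x : F => pw m (hf m) x) (fun x => pw_eq_zero _ x)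
    (fun k => a (k * hf m)) (by
      intro i j h1 h2
      have := hrel (i * hf m) (j * hf m) (by
        intro e
        apply h1
        have e2 : (j - i) * hf m = hf m := by rw [sub_mul]; exact e
        calc j - i = (2 * (j - i)) * hf m := (hu _).symm
          _ = 2 * ((j - i) * hf m) := by ring
          _ = hf m + hf m := by rw [e2]; ring
          _ = 1 := hf_add m) (by
        intro e
        apply h2
        have e2 : (j - i) * hf m = - hf m := by rw [sub_mul]; exact e
        calc j - i = (2 * (j - i)) * hf m := (hu _).symm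
          _ = 2 * ((j - i) * hf m) := by ring
          _ = - (hf m + hf m) := by rw [e2]; ring
          _ = - 1 := by rw [hf_add m])
      simp only [sub_mul, one_mul]
      exact this)
  rcases hc with ⟨i, hi⟩ | ⟨κ, hκ⟩
  · have hz : ∀ j, j ≠ i * hf m → a j = 0 := by
      intro j hj
      have := hi (2 * j) (by
        intro e; apply hj
        rw [← e, hu])
      simpa [hu] using this
    have hA' : ∀ x, A x = a (i * hf m) * pw m (i * hf m) x := by
      intro x
      rw [ha, Finset.sum_eq_single (i * hf m)]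
      · intro j _ hj
        rw [hz j hj, zero_mul]
      · intro hh; exact absurd (Finset.mem_univ _) hh
    refine ⟨a (i * hf m), i * hf m, ?_, hA'⟩
    intro h0
    have : A 1 = A 0 := by rw [hA', hA', h0, zero_mul, zero_mul]
    exact one_ne_zero (hinj this)
  · exfalso
    have hκ' : ∀ i, pw m (hf m) (a (i - hf m)) = κ * a i := by
      intro i
      have := hκ (2 * i)
      simp only [sub_mul, one_mul, hu] at this
      exact this
    have hA' : ∀ x, pw m (hf m) (A x) = κ * A x := by
      intro x
      rw [ha, pw_sum, Finset.mul_sum,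
        ← Equiv.sum_comp (Equiv.addRight (hf m)) (fun i => κ * (a i * pw m i x))]
      refine Finset.sum_congr rfl fun i _ => ?_
      rw [pw_mul, pw_pw hF, Equiv.coe_addRight, ← mul_assoc, ← hκ', add_sub_cancel_right,
        add_comm (hf m) i]
    -- two distinct nonzero elements
    obtain ⟨g, hg⟩ : ∃ g : F, g ≠ 0 ∧ g ≠ 1 := by
      by_contra hcon
      push Not at hcon
      have h1 : (Finset.univ : Finset F) ⊆ ({0, 1} : Set F).toFinite.toFinset := by
        intro y _
        simp only [Set.Finite.mem_toFinset, Set.mem_insert_iff, Set.mem_singleton_iff]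
        by_cases h0 : y = 0
        · exact Or.inl h0
        · exact Or.inr (hcon y h0)
      have h2 := Finset.card_le_card h1
      rw [Finset.card_univ, hF] at h2
      have h3 : ({0, 1} : Set F).toFinite.toFinset.card ≤ 2 := by
        rw [← Set.ncard_eq_toFinset_card]
        exact (Set.ncard_insert_le _ _).trans (by simp)
      have : 2 ^ 3 ≤ 2 ^ (2 * m + 1) := Nat.pow_le_pow_right (by norm_num) (by omega)
      omega
    have hA0 : A 0 = 0 := by
      have := hA 0 0
      rw [add_zero] at this
      simpa using this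
    have hne : ∀ x, x ≠ 0 → A x ≠ 0 := fun x hx h0 => hx (hinj (by rw [h0, hA0]))
    have hg1 := hne g hg.1
    have h1 := hne 1 one_ne_zero
    have hq : (A g / A 1) ^ (2 ^ (m + 1)) = A g / A 1 := by
      rw [theta_eq hF]
      have e : pw m (hf m) (A g / A 1) = pw m (hf m) (A g) / pw m (hf m) (A 1) := div_pow _ _ _
      have hκ0 : κ ≠ 0 := by
        intro h0
        have := hA' 1
        rw [h0, zero_mul, pw_eq_zero] at this
        exact h1 this
      rw [e, hA', hA', mul_div_mul_left _ _ hκ0]
    rcases eq_of_th_eq hF hq with h0 | h0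
    · rw [div_eq_zero_iff] at h0
      rcases h0 with h0 | h0
      · exact hg1 h0
      · exact h1 h0
    · rw [div_eq_one_iff_eq h1] at h0
      exact hg.2 (hinj h0)

/-- A composite of monomial maps: the `k`-th iterate of `x ↦ c * x ^ 2 ^ i`. -/
theorem iterate_monomial (hF : Fintype.card F = 2 ^ (2 * m + 1)) (A : F → F) (c : F)
    (i : ZMod (2 * m + 1)) (hc : c ≠ 0) (hA : ∀ x, A x = c * pw m i x) (k : ℕ) :
    ∃ d : F, d ≠ 0 ∧ ∀ x, A^[k] x = d * pw m (k * i) x := by
  induction k with
  | zero =>
    refine ⟨1, one_ne_zero, fun x => ?_⟩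
    rw [Nat.cast_zero, zero_mul, one_mul]
    simp [pw]
  | succ k ih =>
    obtain ⟨d, hd, h⟩ := ih
    refine ⟨c * pw m i d, mul_ne_zero hc (by rw [Ne, pw_eq_zero]; exact hd), fun x => ?_⟩
    rw [Function.iterate_succ_apply', h, hA, pw_mul, pw_pw hF, mul_assoc]
    congr 3
    push_cast
    ring

/-- A monomial map of 2-power order is the identity. -/
theorem eq_id_of_iterate (hF : Fintype.card F = 2 ^ (2 * m + 1)) (A : F → F) (c : F)
    (i : ZMod (2 * m + 1)) (hc : c ≠ 0) (hA : ∀ x, A x = c * pw m i x) (k : ℕ)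
    (hk : ∀ x, A^[2 ^ k] x = x) (x : F) : A x = x := by
  obtain ⟨d, hd, h⟩ := iterate_monomial hF A c i hc hA (2 * m + 1)
  have hn0 : (((2 * m + 1 : ℕ) : ZMod (2 * m + 1)) * i) = 0 := by
    rw [ZMod.natCast_self, zero_mul]
  have h' : ∀ x, A^[2 * m + 1] x = d * x := by
    intro x
    rw [h, hn0]
    simp [pw]
  have hodd : ∀ x, A^[(2 * m + 1) * (2 ^ (2 * m + 1) - 1)] x = x := by
    intro x
    have e : ∀ j : ℕ, A^[(2 * m + 1) * j] x = d ^ j * x := by
      intro j
      induction j with
      | zero => simp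
      | succ j ih =>
        rw [mul_add, mul_one, add_comm, Function.iterate_add_apply, ih, h', pow_succ]
        ring
    rw [e, ← hF, FiniteField.pow_card_sub_one_eq_one d hd, one_mul]
  have hcop : Nat.Coprime (2 ^ k) ((2 * m + 1) * (2 ^ (2 * m + 1) - 1)) := by
    apply Nat.Coprime.pow_left
    rw [Nat.coprime_two_left]
    apply Odd.mul
    · exact ⟨m, rfl⟩
    · refine ⟨2 ^ (2 * m) - 1, ?_⟩
      have : 2 ^ (2 * m + 1) = 2 * 2 ^ (2 * m) := by rw [pow_succ]; ring
      have h1 : 1 ≤ 2 ^ (2 * m) := Nat.one_le_two_pow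
      omega
  have p1 : Function.IsPeriodicPt A (2 ^ k) x := hk x
  have p2 : Function.IsPeriodicPt A ((2 * m + 1) * (2 ^ (2 * m + 1) - 1)) x := hodd x
  have p3 := p1.gcd p2
  rw [hcop] at p3
  exact p3

/-- **An additive automorphism of 2-power order compatible with `bt` is trivial** (`m ≥ 2`). -/
theorem eq_id (hm : 2 ≤ m) (hF : Fintype.card F = 2 ^ (2 * m + 1)) (A B : F → F)
    (hA : ∀ x y, A (x + y) = A x + A y) (hB : ∀ x y, B (x + y) = B x + B y)
    (h : ∀ x y, bt m (A x) (A y) = B (bt m x y)) (k : ℕ) (hk : ∀ x, A^[2 ^ k] x = x) :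
    (∀ x, A x = x) ∧ ∀ x, B x = x := by
  have hinj : Function.Injective A := by
    have h1 : 2 ^ k = (2 ^ k - 1) + 1 := by
      have : 1 ≤ 2 ^ k := Nat.one_le_two_pow
      omega
    intro x y hxy
    rw [← hk x, ← hk y, h1, Function.iterate_succ_apply, Function.iterate_succ_apply, hxy]
  obtain ⟨c, i, hc, hAc⟩ := monomial hm hF A B hA hB hinj h
  have hid := eq_id_of_iterate hF A c i hc hAc k hk
  refine ⟨hid, fun z => ?_⟩
  obtain ⟨g, hg0, hg1⟩ : ∃ g : F, g ≠ 0 ∧ g ≠ 1 := by
    by_contra hcon
    push Not at hcon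
    have h1 : (Finset.univ : Finset F) ⊆ ({0, 1} : Set F).toFinite.toFinset := by
      intro y _
      simp only [Set.Finite.mem_toFinset, Set.mem_insert_iff, Set.mem_singleton_iff]
      by_cases h0 : y = 0
      · exact Or.inl h0
      · exact Or.inr (hcon y h0)
    have h2 := Finset.card_le_card h1
    rw [Finset.card_univ, hF] at h2
    have h3 : ({0, 1} : Set F).toFinite.toFinset.card ≤ 2 := by
      rw [← Set.ncard_eq_toFinset_card]
      exact (Set.ncard_insert_le _ _).trans (by simp)
    have : 2 ^ 3 ≤ 2 ^ (2 * m + 1) := Nat.pow_le_pow_right (by norm_num) (by omega)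
    omega
  have hk0 : g ^ (2 ^ (m + 1)) + g ≠ 0 := by
    intro h0
    rcases eq_of_th_eq hF (CharTwo.add_eq_zero.mp h0) with h1 | h1
    · exact hg0 h1
    · exact hg1 h1
  obtain ⟨a, ha⟩ : ∃ a : F, a ^ (1 + 2 ^ (m + 1)) = z / (g ^ (2 ^ (m + 1)) + g) :=
    ⟨_, norm_surj hF _⟩
  have hz : bt m a (a * g) = z := by rw [bt_mul, ha, div_mul_cancel₀ _ hk0]
  rw [← hz, ← h, hid, hid]

end Main

end Cfsg.Agent.StdSz.Gold
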