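import Cfsg.Agent.StdSz.FixT

/-!
# The group `Q = S₁` of order `2 q ^ 3` (first step of the growth of a Sylow 2-subgroup)

`Pre` collects what is known about `Q`; we construct coordinates `crd : Q → V3 F`, with kernel
`Z = {p 0 b}`, in which squares and commutators are given by the forms `Sq` and `B`.
-/

set_option autoImplicit false
set_option linter.unusedSectionVars false
set_option linter.style.haveILetI false

namespace Cfsg.Agent.StdSz.LevelOne

open Cfsg.Agent.StdSz.EquivMaps Cfsg.Agent.StdSz.SzMaps Cfsg.Agent.StdSz.FormAlg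
open Cfsg.Agent.StdSz.FixT

/-- the data of the first level. -/
structure Pre (G : Type*) [Group G] (F : Type*) [Field F] [Fintype F] [CharP F 2] (m : ℕ) where
  hm : 1 ≤ m
  hF : Fintype.card F = 2 ^ (2 * m + 1)
  p : F → F → G
  p_mul : ∀ a b c d, p a b * p c d = p (a + c) (b + d + a ^ (2 ^ (m + 1)) * c)
  p_inj : ∀ a b c d, p a b = p c d → a = c ∧ b = d
  h : Fˣ → G
  h_conj : ∀ (l : Fˣ) (a b : F), h l * p a b * (h l)⁻¹ = p (l * a) ((l : F) ^ (1 + 2 ^ (m + 1)) * b)
  t : G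
  t_sq : t * t = 1
  t_p : ∀ a b, t * p a b = p a b * t
  t_h : ∀ l, t * h l = h l * t
  t_not : ∀ a b, p a b ≠ t
  Q : Subgroup G
  Q_two : IsPGroup 2 Q
  Q_p : ∀ a b, p a b ∈ Q
  Q_t : t ∈ Q
  Q_h : ∀ l, ∀ g ∈ Q, h l * g * (h l)⁻¹ ∈ Q
  h_mul : ∀ l l', ∀ g ∈ Q,
    h (l * l') * g * (h (l * l'))⁻¹ = h l * (h l' * g * (h l')⁻¹) * (h l)⁻¹
  Q_conj : ∀ g ∈ Q, ∃ u, g * t * g⁻¹ = p 0 u * t
  Q_surj : ∀ u, ∃ g ∈ Q, g * t * g⁻¹ = p 0 u * t
  Q_Z : ∀ g ∈ Q, ∀ b, g * p 0 b = p 0 b * g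
  Q_T : ∀ g ∈ Q, g * t = t * g → ∃ a b, g = p a b ∨ g = p a b * t
  Q_p_conj : ∀ g ∈ Q, ∀ a b, ∃ c d, g * p a b * g⁻¹ = p c d ∨ g * p a b * g⁻¹ = p c d * t

namespace Pre

variable {G : Type*} [Group G] {F : Type*} [Field F] [Fintype F] [CharP F 2] {m : ℕ}
variable (P : Pre G F m)

theorem p_zero : P.p 0 0 = 1 := by
  have h := P.p_mul 0 0 0 0
  rw [zero_pow (by positivity), zero_mul, add_zero, add_zero] at h
  exact mul_eq_left.mp h

theorem z_mul (b d : F) : P.p 0 b * P.p 0 d = P.p 0 (b + d) := by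
  rw [P.p_mul, mul_zero, add_zero, add_zero]

theorem z_self (b : F) : P.p 0 b * P.p 0 b = 1 := by
  rw [z_mul, FormAlg.add_self, p_zero]

theorem z_inv (b : F) : (P.p 0 b)⁻¹ = P.p 0 b := by
  rw [inv_eq_iff_mul_eq_one, z_self]

theorem z_inj {b d : F} (h : P.p 0 b = P.p 0 d) : b = d := (P.p_inj _ _ _ _ h).2

theorem z_mul_p (a b c : F) : P.p 0 c * P.p a b = P.p a (b + c) := by
  rw [P.p_mul, zero_pow (by positivity), zero_mul, add_zero, zero_add, add_comm]

theorem p_mul_z (a b c : F) : P.p a b * P.p 0 c = P.p a (b + c) := by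
  rw [P.p_mul, mul_zero, add_zero, add_zero]

theorem p_sq (a b : F) : P.p a b * P.p a b = P.p 0 (a ^ (1 + 2 ^ (m + 1))) := by
  rw [P.p_mul, FormAlg.add_self, FormAlg.add_self, zero_add, _root_.pow_add a 1, pow_one,
    mul_comm a]

theorem p_comm (a b c d : F) :
    P.p a b * P.p c d = P.p 0 (bt m a c) * (P.p c d * P.p a b) := by
  rw [P.p_mul, P.p_mul, z_mul_p]
  congr 1
  · rw [add_comm]
  · unfold bt
    have : d + b + c ^ 2 ^ (m + 1) * a + (a * c ^ 2 ^ (m + 1) + a ^ 2 ^ (m + 1) * c) =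
        b + d + a ^ 2 ^ (m + 1) * c + (c ^ 2 ^ (m + 1) * a + c ^ 2 ^ (m + 1) * a) := by ring
    rw [this, FormAlg.add_self, add_zero]

theorem t_inv : P.t⁻¹ = P.t := by
  rw [inv_eq_iff_mul_eq_one, P.t_sq]

theorem pt_ne (a b c d : F) : P.p a b * P.t ≠ P.p c d := by
  intro h
  have h1 : P.t = (P.p a b)⁻¹ * P.p c d := by rw [← h]; group
  have h2 : (P.p a b)⁻¹ = P.p a (b + a ^ (1 + 2 ^ (m + 1))) := by
    rw [inv_eq_iff_mul_eq_one, P.p_mul, FormAlg.add_self]
    have : b + (b + a ^ (1 + 2 ^ (m + 1))) + a ^ 2 ^ (m + 1) * a = 0 := by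
      rw [_root_.pow_add a 1, pow_one, ← add_assoc, FormAlg.add_self, zero_add, mul_comm a,
        FormAlg.add_self]
    rw [this, p_zero]
  rw [h2, P.p_mul] at h1
  exact P.t_not _ _ h1.symm

/-! ### The homomorphism `u` -/

open Classical in
/-- `g t g⁻¹ = p 0 (u g) t`. -/
noncomputable def u (g : G) : F :=
  if h : ∃ u, g * P.t * g⁻¹ = P.p 0 u * P.t then Classical.choose h else 0

theorem u_spec {g : G} (hg : g ∈ P.Q) : g * P.t * g⁻¹ = P.p 0 (P.u g) * P.t := by
  unfold u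
  rw [dif_pos (P.Q_conj g hg)]
  exact Classical.choose_spec (P.Q_conj g hg)

theorem u_eq {g : G} (hg : g ∈ P.Q) {v : F} (h : g * P.t * g⁻¹ = P.p 0 v * P.t) : P.u g = v := by
  have h1 := P.u_spec hg
  rw [h] at h1
  exact (P.z_inj (mul_right_cancel h1)).symm

theorem u_mul {g k : G} (hg : g ∈ P.Q) (hk : k ∈ P.Q) : P.u (g * k) = P.u g + P.u k := by
  apply P.u_eq (mul_mem hg hk)
  have h1 : g * k * P.t * (g * k)⁻¹ = g * (k * P.t * k⁻¹) * g⁻¹ := by group
  rw [h1, P.u_spec hk]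
  have h2 : g * (P.p 0 (P.u k) * P.t) * g⁻¹ = (g * P.p 0 (P.u k)) * P.t * g⁻¹ := by group
  rw [h2, P.Q_Z g hg]
  have h3 : P.p 0 (P.u k) * g * P.t * g⁻¹ = P.p 0 (P.u k) * (g * P.t * g⁻¹) := by group
  rw [h3, P.u_spec hg, ← mul_assoc, z_mul, add_comm]

theorem u_t : P.u P.t = 0 := by
  apply P.u_eq P.Q_t
  rw [p_zero, one_mul, mul_assoc, mul_inv_cancel, mul_one]

theorem u_p (a b : F) : P.u (P.p a b) = 0 := by
  apply P.u_eq (P.Q_p a b)
  rw [p_zero, one_mul, ← P.t_p, mul_assoc, mul_inv_cancel, mul_one]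

theorem mem_T_of_u {g : G} (hg : g ∈ P.Q) (h : P.u g = 0) :
    ∃ a b, g = P.p a b ∨ g = P.p a b * P.t := by
  apply P.Q_T g hg
  have := P.u_spec hg
  rw [h, p_zero, one_mul] at this
  exact mul_inv_eq_iff_eq_mul.mp this

/-! ### Conjugation on `U` -/

include P in
theorem exists_two_values {c : F} (hc : c ≠ 0) (z : F) : ∃ a, bt m c a ≠ 0 ∧ bt m c a ≠ z := by
  have hF := P.hF
  have hker : ∀ a, bt m c a = 0 → a = 0 ∨ a = c := by
    intro a ha
    have h1 : bt m c (c * (c⁻¹ * a)) = 0 := by rw [mul_inv_cancel_left₀ hc]; exact ha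
    rw [bt_mul] at h1
    rcases mul_eq_zero.mp h1 with h2 | h2
    · exact absurd ((pow_eq_zero_iff (by positivity)).mp h2) hc
    · have h3 : (c⁻¹ * a) ^ (2 ^ (m + 1)) = c⁻¹ * a := by
        have := congrArg (fun z => z + c⁻¹ * a) h2
        rw [add_assoc, FormAlg.add_self, add_zero, zero_add] at this
        exact this
      rcases eq_of_th_eq hF h3 with h | h
      · left
        rcases mul_eq_zero.mp h with h | h
        · exact absurd (inv_eq_zero.mp h) hc
        · exact h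
      · right
        have := congrArg (fun z => c * z) h
        simpa [mul_inv_cancel_left₀ hc] using this
  obtain ⟨a, ha0, -, hac⟩ := exists_ne_zero_one (F := F) P.hm hF c
  have ha : bt m c a ≠ 0 := fun h => (hker a h).elim ha0 hac
  by_contra hcon
  push Not at hcon
  have haz := hcon a ha
  -- now the field is too small
  classical
  have hsub : (Finset.univ : Finset F) ⊆ {0, c, a, a + c} := by
    intro b _
    simp only [Finset.mem_insert, Finset.mem_singleton]
    by_cases hb : bt m c b = 0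
    · rcases hker b hb with h | h
      · exact Or.inl h
      · exact Or.inr (Or.inl h)
    · have hbz := hcon b hb
      have h1 : bt m c (a + b) = 0 := by rw [bt_add_right, haz, hbz, FormAlg.add_self]
      rcases hker _ h1 with h | h
      · right; right; left
        have := congrArg (fun z => a + z) h
        simp only [← add_assoc, FormAlg.add_self, zero_add, add_zero] at this
        exact this
      · right; right; right
        have := congrArg (fun z => a + z) h
        simp only [← add_assoc, FormAlg.add_self, zero_add] at this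
        exact this
  have h2 := Finset.card_le_card hsub
  have h3 : ({0, c, a, a + c} : Finset F).card ≤ 4 := Finset.card_le_four
  rw [Finset.card_univ, hF] at h2
  have hm := P.hm
  have : 2 ^ 3 ≤ 2 ^ (2 * m + 1) := Nat.pow_le_pow_right (by norm_num) (by omega)
  omega

theorem conj_p_aux {g : G} (hg : g ∈ P.Q) (a b : F) :
    ∃ d, g * P.p a b * g⁻¹ = P.p a d ∨ g * P.p a b * g⁻¹ = P.p a d * P.t := by
  obtain ⟨c, d, h⟩ := P.Q_p_conj g hg a b
  have hsq : (g * P.p a b * g⁻¹) * (g * P.p a b * g⁻¹) = P.p 0 (a ^ (1 + 2 ^ (m + 1))) := by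
    have : (g * P.p a b * g⁻¹) * (g * P.p a b * g⁻¹) = g * (P.p a b * P.p a b) * g⁻¹ := by group
    rw [this, p_sq, P.Q_Z g hg, mul_assoc, mul_inv_cancel, mul_one]
  have hc : c = a := by
    apply norm_inj P.hF
    rcases h with h | h
    · rw [h, p_sq] at hsq
      exact P.z_inj hsq
    · rw [h] at hsq
      have : P.p c d * P.t * (P.p c d * P.t) = P.p c d * (P.t * P.p c d) * P.t := by group
      rw [this, P.t_p] at hsq
      have h2 : P.p c d * (P.p c d * P.t) * P.t = P.p c d * P.p c d * (P.t * P.t) := by group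
      rw [h2, P.t_sq, mul_one, p_sq] at hsq
      exact P.z_inj hsq
  subst hc
  exact ⟨d, h⟩

theorem conj_p {g : G} (hg : g ∈ P.Q) (a b : F) : ∃ d, g * P.p a b * g⁻¹ = P.p a d := by
  by_contra hcon
  push Not at hcon
  obtain ⟨d0, h0⟩ := P.conj_p_aux hg a b
  have h0' : g * P.p a b * g⁻¹ = P.p a d0 * P.t := h0.resolve_left (hcon d0)
  -- `g` is not in `T`
  have hu : P.u g ≠ 0 := by
    intro hu
    obtain ⟨c, d, h | h⟩ := P.mem_T_of_u hg hu
    · apply hcon (b + bt m c a)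
      rw [h, p_comm, ← z_mul_p]; group
    · apply hcon (b + bt m c a)
      have h1 : g * P.p a b * g⁻¹ = P.p c d * (P.t * P.p a b * P.t⁻¹) * (P.p c d)⁻¹ := by
        rw [h]; group
      have h2 : P.t * P.p a b * P.t⁻¹ = P.p a b := by rw [P.t_p]; group
      rw [h1, h2, p_comm, ← z_mul_p]; group
  -- the action of `g ^ 2`
  have hgg : ∀ x y : F, (g * g) * P.p x y * (g * g)⁻¹ = P.p x y ∨
      (g * g) * P.p x y * (g * g)⁻¹ = P.p x (y + P.u g) := by
    intro x y
    obtain ⟨d, hd⟩ := P.conj_p_aux hg x y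
    have e1 : P.p x d = P.p x y * P.p 0 (d + y) := by
      rw [p_mul_z]; congr 1
      rw [add_comm d, ← add_assoc, FormAlg.add_self, zero_add]
    have e2 : ∀ v, g * P.p 0 v * g⁻¹ = P.p 0 v := by
      intro v
      rw [P.Q_Z g hg, mul_assoc, mul_inv_cancel, mul_one]
    have e3 : (g * g) * P.p x y * (g * g)⁻¹ = g * (g * P.p x y * g⁻¹) * g⁻¹ := by group
    rw [e3]
    rcases hd with hd | hd
    · left
      have : g * (g * P.p x y * g⁻¹) * g⁻¹ = (g * P.p x y * g⁻¹) * (g * P.p 0 (d + y) * g⁻¹) := by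
        conv_lhs => rw [hd, e1]
        group
      rw [this, e2, hd, p_mul_z]
      congr 1
      rw [← add_assoc, FormAlg.add_self, zero_add]
    · right
      have : g * (g * P.p x y * g⁻¹) * g⁻¹ = (g * P.p x y * g⁻¹) * (g * P.p 0 (d + y) * g⁻¹) *
          (g * P.t * g⁻¹) := by
        conv_lhs => rw [hd, e1]
        group
      rw [this, e2, hd, P.u_spec hg]
      have h4 : P.p x d * P.t * P.p 0 (d + y) * (P.p 0 (P.u g) * P.t) =
          P.p x d * (P.t * P.p 0 (d + y)) * P.p 0 (P.u g) * P.t := by group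
      rw [h4, P.t_p]
      have h5 : P.p x d * (P.p 0 (d + y) * P.t) * P.p 0 (P.u g) * P.t =
          P.p x d * P.p 0 (d + y) * (P.t * P.p 0 (P.u g)) * P.t := by group
      rw [h5, P.t_p, p_mul_z]
      have h6 : P.p x (d + (d + y)) * (P.p 0 (P.u g) * P.t) * P.t =
          P.p x (d + (d + y)) * P.p 0 (P.u g) * (P.t * P.t) := by group
      rw [h6, P.t_sq, mul_one, p_mul_z]
      congr 1
      rw [← add_assoc, FormAlg.add_self, zero_add]
  -- `g ^ 2` lies in `T`
  have hggQ : g * g ∈ P.Q := mul_mem hg hg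
  obtain ⟨c, d, hcd⟩ := P.mem_T_of_u hggQ (by rw [P.u_mul hg hg, FormAlg.add_self])
  have hact : ∀ x y : F, (g * g) * P.p x y * (g * g)⁻¹ = P.p x (y + bt m c x) := by
    intro x y
    rcases hcd with h | h
    · rw [h, p_comm, ← z_mul_p]; group
    · have h1 : (g * g) * P.p x y * (g * g)⁻¹ =
          P.p c d * (P.t * P.p x y * P.t⁻¹) * (P.p c d)⁻¹ := by rw [h]; group
      have h2 : P.t * P.p x y * P.t⁻¹ = P.p x y := by rw [P.t_p]; group
      rw [h1, h2, p_comm, ← z_mul_p]; group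
  have hall : ∀ x : F, bt m c x = 0 ∨ bt m c x = P.u g := by
    intro x
    rcases hgg x 0 with h | h
    · left
      rw [hact] at h
      have := (P.p_inj _ _ _ _ h).2
      rwa [zero_add] at this
    · right
      rw [hact] at h
      have := (P.p_inj _ _ _ _ h).2
      rwa [zero_add, zero_add] at this
  -- `c ≠ 0`
  have hc : c ≠ 0 := by
    intro hc0
    -- then `g ^ 2` centralises `p a b`, but it multiplies by `p 0 (u g)`
    have h1 : (g * g) * P.p a b * (g * g)⁻¹ = P.p a (b + P.u g) := by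
      have e1 : P.p a d0 = P.p a b * P.p 0 (d0 + b) := by
        rw [p_mul_z]; congr 1
        rw [add_comm d0, ← add_assoc, FormAlg.add_self, zero_add]
      have e2 : ∀ v, g * P.p 0 v * g⁻¹ = P.p 0 v := by
        intro v
        rw [P.Q_Z g hg, mul_assoc, mul_inv_cancel, mul_one]
      have e3 : (g * g) * P.p a b * (g * g)⁻¹ = g * (g * P.p a b * g⁻¹) * g⁻¹ := by group
      have : g * (g * P.p a b * g⁻¹) * g⁻¹ = (g * P.p a b * g⁻¹) * (g * P.p 0 (d0 + b) * g⁻¹) *
          (g * P.t * g⁻¹) := by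
        conv_lhs => rw [h0', e1]
        group
      rw [e3, this, e2, h0', P.u_spec hg]
      have h4 : P.p a d0 * P.t * P.p 0 (d0 + b) * (P.p 0 (P.u g) * P.t) =
          P.p a d0 * (P.t * P.p 0 (d0 + b)) * P.p 0 (P.u g) * P.t := by group
      rw [h4, P.t_p]
      have h5 : P.p a d0 * (P.p 0 (d0 + b) * P.t) * P.p 0 (P.u g) * P.t =
          P.p a d0 * P.p 0 (d0 + b) * (P.t * P.p 0 (P.u g)) * P.t := by group
      rw [h5, P.t_p, p_mul_z]
      have h6 : P.p a (d0 + (d0 + b)) * (P.p 0 (P.u g) * P.t) * P.t =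
          P.p a (d0 + (d0 + b)) * P.p 0 (P.u g) * (P.t * P.t) := by group
      rw [h6, P.t_sq, mul_one, p_mul_z]
      congr 1
      rw [← add_assoc, FormAlg.add_self, zero_add]
    rw [hact, hc0, bt_zero_left, add_zero] at h1
    have := (P.p_inj _ _ _ _ h1).2
    apply hu
    have h2 := congrArg (fun z => b + z) this
    simp only [← add_assoc, FormAlg.add_self, zero_add] at h2
    exact h2.symm
  obtain ⟨x, hx0, hx1⟩ := P.exists_two_values hc (P.u g)
  exact (hall x).elim hx0 hx1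

open Classical in
/-- `g p a b g⁻¹ = p a (b + η g a)`. -/
noncomputable def eta (g : G) (a : F) : F :=
  if h : ∃ d, g * P.p a 0 * g⁻¹ = P.p a d then Classical.choose h else 0

theorem eta_spec {g : G} (hg : g ∈ P.Q) (a b : F) :
    g * P.p a b * g⁻¹ = P.p a (b + P.eta g a) := by
  have h0 : g * P.p a 0 * g⁻¹ = P.p a (P.eta g a) := by
    unfold eta
    rw [dif_pos (P.conj_p hg a 0)]
    exact Classical.choose_spec (P.conj_p hg a 0)
  have h1 : P.p a b = P.p a 0 * P.p 0 b := by rw [p_mul_z, zero_add]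
  have h2 : g * P.p a b * g⁻¹ = (g * P.p a 0 * g⁻¹) * (g * P.p 0 b * g⁻¹) := by
    rw [h1]; group
  rw [h2, h0, P.Q_Z g hg]
  have : P.p a (P.eta g a) * (P.p 0 b * g * g⁻¹) = P.p a (P.eta g a) * P.p 0 b := by group
  rw [this, p_mul_z, add_comm]

theorem eta_eq {g : G} (hg : g ∈ P.Q) {a b d : F} (h : g * P.p a b * g⁻¹ = P.p a (b + d)) :
    P.eta g a = d := by
  rw [P.eta_spec hg] at h
  exact add_left_cancel (P.p_inj _ _ _ _ h).2

theorem eta_mul {g k : G} (hg : g ∈ P.Q) (hk : k ∈ P.Q) (a : F) :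
    P.eta (g * k) a = P.eta g a + P.eta k a := by
  apply P.eta_eq (b := 0) (mul_mem hg hk)
  have : g * k * P.p a 0 * (g * k)⁻¹ = g * (k * P.p a 0 * k⁻¹) * g⁻¹ := by group
  rw [this, P.eta_spec hk, P.eta_spec hg, zero_add, zero_add, add_comm]

theorem eta_add {g : G} (hg : g ∈ P.Q) (a c : F) :
    P.eta g (a + c) = P.eta g a + P.eta g c := by
  have h1 : P.p a 0 * P.p c 0 = P.p (a + c) (a ^ (2 ^ (m + 1)) * c) := by
    rw [P.p_mul, add_zero, zero_add]
  apply P.eta_eq (b := a ^ (2 ^ (m + 1)) * c) hg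
  rw [← h1]
  have : g * (P.p a 0 * P.p c 0) * g⁻¹ = (g * P.p a 0 * g⁻¹) * (g * P.p c 0 * g⁻¹) := by group
  rw [this, P.eta_spec hg, P.eta_spec hg, P.p_mul]
  congr 1
  ring

theorem eta_p (a b c : F) : P.eta (P.p a b) c = bt m a c := by
  apply P.eta_eq (b := 0) (P.Q_p a b)
  rw [p_comm, ← z_mul_p]; group

theorem eta_t (c : F) : P.eta P.t c = 0 := by
  apply P.eta_eq (b := 0) P.Q_t
  rw [P.t_p]
  rw [mul_assoc, mul_inv_cancel, mul_one, add_zero]

/-! ### Squares -/

theorem exists_sq {g : G} (hg : g ∈ P.Q) : ∃ d, g * g = P.p 0 d := by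
  have hu : P.u (g * g) = 0 := by rw [P.u_mul hg hg, FormAlg.add_self]
  have he : ∀ a, P.eta (g * g) a = 0 := by
    intro a
    rw [P.eta_mul hg hg, FormAlg.add_self]
  have hcz : ∀ c : F, (∀ a, bt m c a = 0) → c = 0 := by
    intro c hc
    by_contra h
    obtain ⟨a, ha, -⟩ := P.exists_two_values h 0
    exact ha (hc a)
  obtain ⟨c, d, h | h⟩ := P.mem_T_of_u (mul_mem hg hg) hu
  · have hc : c = 0 := by
      apply hcz
      intro a
      rw [← P.eta_p c d, ← h, he]
    subst hc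
    exact ⟨d, h⟩
  · exfalso
    have hc : c = 0 := by
      apply hcz
      intro a
      have h1 := P.eta_mul (P.Q_p c d) P.Q_t a
      rw [← h, he, eta_p, eta_t, add_zero] at h1
      exact h1.symm
    subst hc
    -- `g` commutes with `g ^ 2`
    have h1 : g * (P.p 0 d * P.t) * g⁻¹ = P.p 0 d * P.t := by
      rw [← h]; group
    have h2 : g * (P.p 0 d * P.t) * g⁻¹ = (g * P.p 0 d * g⁻¹) * (g * P.t * g⁻¹) := by group
    have h3 : g * P.p 0 d * g⁻¹ = P.p 0 d := by
      rw [P.Q_Z g hg, mul_assoc, mul_inv_cancel, mul_one]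
    rw [h2, h3, P.u_spec hg] at h1
    have h4 : P.u g = 0 := by
      have h5 := mul_left_cancel h1
      have h6 : P.p 0 (P.u g) = P.p 0 0 := by
        rw [p_zero]
        exact mul_eq_right.mp h5
      exact P.z_inj h6
    obtain ⟨a, b, h5 | h5⟩ := P.mem_T_of_u hg h4
    · rw [h5, p_sq] at h
      exact P.pt_ne _ _ _ _ h.symm
    · rw [h5] at h
      have h6 : P.p a b * P.t * (P.p a b * P.t) = P.p a b * (P.t * P.p a b) * P.t := by group
      rw [h6, P.t_p] at h
      have h7 : P.p a b * (P.p a b * P.t) * P.t = P.p a b * P.p a b * (P.t * P.t) := by group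
      rw [h7, P.t_sq, mul_one, p_sq] at h
      exact P.pt_ne _ _ _ _ h.symm

open Classical in
/-- `g * g = p 0 (sq g)`. -/
noncomputable def sq (g : G) : F :=
  if h : ∃ d, g * g = P.p 0 d then Classical.choose h else 0

theorem sq_spec {g : G} (hg : g ∈ P.Q) : g * g = P.p 0 (P.sq g) := by
  unfold sq
  rw [dif_pos (P.exists_sq hg)]
  exact Classical.choose_spec (P.exists_sq hg)

theorem sq_eq {g : G} (hg : g ∈ P.Q) {d : F} (h : g * g = P.p 0 d) : P.sq g = d := by
  rw [P.sq_spec hg] at h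
  exact P.z_inj h

/-- commutators. -/
noncomputable def cm (g k : G) : F := P.sq (g * k) + P.sq g + P.sq k

theorem cm_spec {g k : G} (hg : g ∈ P.Q) (hk : k ∈ P.Q) :
    g * k = P.p 0 (P.cm g k) * (k * g) := by
  have h1 : (g * k) * (g * k) = P.p 0 (P.sq (g * k)) := P.sq_spec (mul_mem hg hk)
  have h2 := P.sq_spec hg
  have h3 := P.sq_spec hk
  unfold cm
  rw [← z_mul, ← z_mul, ← h1, ← h2, ← h3]
  have c1 : ∀ x ∈ P.Q, x * (g * g) = (g * g) * x := by
    intro x hx; rw [h2]; exact P.Q_Z x hx _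
  have c2 : ∀ x ∈ P.Q, x * (k * k) = (k * k) * x := by
    intro x hx; rw [h3]; exact P.Q_Z x hx _
  have i2 : g * g * (g * g) = 1 := by rw [h2]; exact P.z_self _
  have i3 : k * k * (k * k) = 1 := by rw [h3]; exact P.z_self _
  symm
  calc g * k * (g * k) * (g * g) * (k * k) * (k * g)
      = g * k * (g * k * (g * g)) * (k * k) * k * g := by simp only [mul_assoc]
    _ = g * k * ((g * g) * (g * k)) * (k * k) * k * g := by rw [c1 _ (mul_mem hg hk)]
    _ = g * k * (g * g) * g * (k * (k * k) * k) * g := by simp only [mul_assoc]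
    _ = g * k * (g * g) * g * (k * k * (k * k)) * g := by simp only [mul_assoc]
    _ = g * k * (g * g * (g * g)) := by rw [i3]; simp only [mul_assoc, mul_one]
    _ = g * k := by rw [i2, mul_one]

theorem cm_eq {g k : G} (hg : g ∈ P.Q) (hk : k ∈ P.Q) {c : F}
    (h : g * k = P.p 0 c * (k * g)) : P.cm g k = c := by
  rw [P.cm_spec hg hk] at h
  exact P.z_inj (mul_right_cancel h)

theorem cm_mul_right {g k l : G} (hg : g ∈ P.Q) (hk : k ∈ P.Q) (hl : l ∈ P.Q) :
    P.cm g (k * l) = P.cm g k + P.cm g l := by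
  apply P.cm_eq hg (mul_mem hk hl)
  have h1 := P.cm_spec hg hk
  have h2 := P.cm_spec hg hl
  calc g * (k * l) = (g * k) * l := by rw [mul_assoc]
    _ = P.p 0 (P.cm g k) * k * (g * l) := by rw [h1]; simp only [mul_assoc]
    _ = P.p 0 (P.cm g k) * (k * P.p 0 (P.cm g l)) * (l * g) := by rw [h2]; simp only [mul_assoc]
    _ = P.p 0 (P.cm g k) * (P.p 0 (P.cm g l) * k) * (l * g) := by rw [P.Q_Z k hk]
    _ = P.p 0 (P.cm g k) * P.p 0 (P.cm g l) * (k * l * g) := by simp only [mul_assoc]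
    _ = P.p 0 (P.cm g k + P.cm g l) * (k * l * g) := by rw [z_mul]

theorem cm_swap {g k : G} (hg : g ∈ P.Q) (hk : k ∈ P.Q) : P.cm g k = P.cm k g := by
  apply P.cm_eq hg hk
  rw [P.cm_spec hk hg, ← mul_assoc, z_self, one_mul]

theorem cm_mul_left {g k l : G} (hg : g ∈ P.Q) (hk : k ∈ P.Q) (hl : l ∈ P.Q) :
    P.cm (g * k) l = P.cm g l + P.cm k l := by
  rw [P.cm_swap (mul_mem hg hk) hl, P.cm_mul_right hl hg hk, P.cm_swap hl hg, P.cm_swap hl hk]

theorem sq_mul {g k : G} : P.sq (g * k) = P.sq g + P.sq k + P.cm g k := by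
  unfold cm
  have : P.sq g + P.sq k + (P.sq (g * k) + P.sq g + P.sq k) =
      P.sq (g * k) + (P.sq g + P.sq g) + (P.sq k + P.sq k) := by ring
  rw [this, FormAlg.add_self, FormAlg.add_self, add_zero, add_zero]

end Pre

end Cfsg.Agent.StdSz.LevelOne
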