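import Cfsg.Agent.StdSz.OutLie

/-!
# Identification from a Sylow 2-subgroup of class two (general form)

The same as `OutLie.lieType_or_suzuki` (helper210), with the class and order conditions only on
`M ∩ L`.
-/

set_option autoImplicit false
set_option linter.unusedSectionVars false
set_option linter.style.haveILetI false

namespace Cfsg.Agent.StdSz.LieGen

open Cfsg Cfsg.Agent.StdSz.OutDef Cfsg.Agent.StdSz.Out Cfsg.Agent.StdSz.OutLie

universe u

theorem lieType_or_suzuki {G : Type u} [Group G] [Finite G] {F : Type*} [Field F] [Fintype F]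
    {t : G} (h1170 : S1170Stmt.{u}) (O : OutDef.OutBase G F t) {m : ℕ} (hm : 1 ≤ m)
    (hF : Fintype.card F = 2 ^ (2 * m + 1)) (L : Subgroup G) [L.Normal] [IsSimpleGroup L]
    (hLc : ¬ IsMulCommutative L)
    (hcl : ∀ x ∈ O.M ⊓ L, ∀ y ∈ O.M ⊓ L, ∀ z ∈ O.M ⊓ L,
      (x * y * x⁻¹ * y⁻¹) * z = z * (x * y * x⁻¹ * y⁻¹))
    (hle : Nat.card ↥(O.M ⊓ L) ≤ Fintype.card F ^ 4)
    (hcard : Fintype.card F ^ 2 ≤ Nat.card ↥(O.M ⊓ L))
    (hnc : ∃ x ∈ O.M ⊓ L, ∃ y ∈ O.M ⊓ L, x * y ≠ y * x) :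
    t ∉ L ∧ (IsLieTypeChar 2 ↥L ∨ (IsSuzuki ↥L ∧
      Nat.card L = Fintype.card F ^ 2 * (Fintype.card F ^ 2 + 1) * (Fintype.card F - 1))) := by
  classical
  haveI : Fact (Nat.Prime 2) := ⟨Nat.prime_two⟩
  have hq8 : 8 ≤ Fintype.card F := by
    rw [hF]
    calc 8 = 2 ^ 3 := by norm_num
      _ ≤ 2 ^ (2 * m + 1) := Nat.pow_le_pow_right (by norm_num) (by omega)
  obtain ⟨ht, hinf⟩ := not_mem_and_inf O (by omega) L hLc
  refine ⟨ht, ?_⟩
  -- the Sylow subgroup of `L`
  have hS2 : IsPGroup 2 ((O.S : Subgroup G).subgroupOf L) :=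
    Cfsg.Agent.Lib.SylowNormalInf.isPGroup_subgroupOf O.S L
  have hidx : ¬ 2 ∣ ((O.S : Subgroup G).subgroupOf L).index :=
    Cfsg.Agent.Lib.SylowNormalInf.not_dvd_relIndex O.S L
  let SL : Sylow 2 L := hS2.toSylow hidx
  have hSL : (SL : Subgroup L) = (O.S : Subgroup G).subgroupOf L := rfl
  have hcSL : Nat.card (SL : Subgroup L) = Nat.card ↥(O.M ⊓ L) := by
    have h1 : (SL : Subgroup L).map L.subtype = O.M ⊓ L := by
      rw [hSL, Subgroup.subgroupOf_map_subtype, hinf]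
    rw [← h1]
    exact Nat.card_congr ((SL : Subgroup L).equivMapOfInjective L.subtype
      L.subtype_injective).toEquiv
  obtain ⟨k, hk⟩ := (SL.isPGroup').exists_card_eq
  have hLcard : 2 ^ k * (SL : Subgroup L).index = Nat.card L := by
    rw [← hk]; exact Subgroup.card_mul_index _
  -- the exponent
  have hk1 : 2 * (2 * m + 1) ≤ k := by
    rw [← hcSL, hk, hF, ← pow_mul] at hcard
    have := (Nat.pow_le_pow_iff_right (by norm_num : 1 < 2)).mp hcard
    omega
  have hk2 : k ≤ 4 * (2 * m + 1) := by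
    have h2 := hle
    rw [← hcSL, hk, hF, ← pow_mul] at h2
    have := (Nat.pow_le_pow_iff_right (by norm_num : 1 < 2)).mp h2
    omega
  have hk3 : (2 * m + 1) ∣ k := by
    have h1 := dvd_card O L
    rw [← hcSL, hk, hF] at h1
    have h2 : Nat.gcd (2 ^ (2 * m + 1) - 1) (2 ^ k - 1) = 2 ^ (2 * m + 1) - 1 :=
      Nat.gcd_eq_left h1
    rw [Nat.pow_sub_one_gcd_pow_sub_one] at h2
    have e1 : 1 ≤ 2 ^ (2 * m + 1) := Nat.one_le_two_pow
    have e2 : 1 ≤ 2 ^ Nat.gcd (2 * m + 1) k := Nat.one_le_two_pow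
    have h3 : 2 ^ Nat.gcd (2 * m + 1) k = 2 ^ (2 * m + 1) := by omega
    have h4 := Nat.pow_right_injective le_rfl h3
    rw [← h4]
    exact Nat.gcd_dvd_right _ _
  have h16 : 16 ∣ Nat.card L := by
    rw [← hLcard]
    refine Dvd.dvd.mul_right ?_ _
    have : (16 : ℕ) = 2 ^ 4 := by norm_num
    rw [this]
    exact pow_dvd_pow 2 (by omega)
  -- apply S1170
  have key := h1170 L SL (SL : Subgroup L) ⟨le_rfl, fun x _ g hg => hg⟩ (by
    intro hcomm
    obtain ⟨x, hx, y, hy, hxy⟩ := hnc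
    apply hxy
    have hx' : (⟨x, hx.2⟩ : L) ∈ (SL : Subgroup L) := by
      have : x ∈ (O.S : Subgroup G) ⊓ L := by rw [hinf]; exact hx
      exact this.1
    have hy' : (⟨y, hy.2⟩ : L) ∈ (SL : Subgroup L) := by
      have : y ∈ (O.S : Subgroup G) ⊓ L := by rw [hinf]; exact hy
      exact this.1
    have h1 := hcomm.is_comm.comm (⟨_, hx'⟩ : (SL : Subgroup L)) ⟨_, hy'⟩
    exact congrArg (fun z : (SL : Subgroup L) => ((z : L) : G)) h1) (by
    rw [Subgroup.commutator_le]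
    intro x _ y _
    rw [Subgroup.mem_center_iff]
    intro z
    have hM : ∀ w : (SL : Subgroup L), ((w : L) : G) ∈ O.M ⊓ L := by
      intro w
      have : ((w : L) : G) ∈ (O.S : Subgroup G) ⊓ L := ⟨w.2, (w : L).2⟩
      rw [hinf] at this
      exact this
    apply Subtype.ext
    apply Subtype.ext
    exact (hcl _ (hM x) _ (hM y) _ (hM z)).symm)
  rcases key with h | h | h | h | h | h
  · exfalso
    obtain ⟨K, _, _, hK, ⟨e⟩⟩ := h
    have h1 := Cfsg.Agent.SmallSimple.PSLTwoPart.card_psl_two_odd (F := K) (by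
      rw [Nat.odd_iff]; omega)
    rw [← Nat.card_congr e.toEquiv] at h1
    obtain ⟨c, hc⟩ := h16
    rw [hc] at h1
    generalize Fintype.card K = r at h1 hK
    rcases hK with hK | hK
    · obtain ⟨d, rfl⟩ : ∃ d, r = 16 * d + 7 := ⟨r / 16, by omega⟩
      have h2 : (16 * d + 7) ^ 2 - 1 = 16 * (16 * d ^ 2 + 14 * d + 3) := by
        rw [Nat.sub_eq_iff_eq_add (by nlinarith)]; ring
      rw [h2] at h1
      have h3 : 2 * c = (16 * d + 7) * (16 * d ^ 2 + 14 * d + 3) := by nlinarith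
      have h4 : (16 * d + 7) * (16 * d ^ 2 + 14 * d + 3) =
        2 * (128 * d ^ 3 + 168 * d ^ 2 + 73 * d + 10) + 1 := by ring
      omega
    · obtain ⟨d, rfl⟩ : ∃ d, r = 16 * d + 9 := ⟨r / 16, by omega⟩
      have h2 : (16 * d + 9) ^ 2 - 1 = 16 * (16 * d ^ 2 + 18 * d + 5) := by
        rw [Nat.sub_eq_iff_eq_add (by nlinarith)]; ring
      rw [h2] at h1
      have h3 : 2 * c = (16 * d + 9) * (16 * d ^ 2 + 18 * d + 5) := by nlinarith
      have h4 : (16 * d + 9) * (16 * d ^ 2 + 18 * d + 5) =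
        2 * (128 * d ^ 3 + 216 * d ^ 2 + 121 * d + 22) + 1 := by ring
      omega
  · left
    obtain ⟨K, _, _, q, hK, hq, hq4, he⟩ := h
    have hev : Even (Fintype.card K) := by
      rw [hK, pow_two]; exact hq.mul_left q
    right; right; left
    exact ⟨K, inferInstance, inferInstance, charP_two_of_even hev, 3, q, hK, le_rfl,
      fun h => by omega, he⟩
  · right
    refine ⟨h, ?_⟩
    obtain ⟨-, m', -, hcard'⟩ := h
    have h1 : 2 ^ k * (SL : Subgroup L).index = 2 ^ (2 * (2 * m' + 1)) *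
        (((2 ^ (2 * m' + 1)) ^ 2 + 1) * (2 ^ (2 * m' + 1) - 1)) := by
      rw [hLcard, hcard']
      have : (2 ^ (2 * m' + 1)) ^ 2 = 2 ^ (2 * (2 * m' + 1)) := by
        rw [← pow_mul]; congr 1; ring
      rw [this, mul_assoc]
    have h2 : ¬ 2 ∣ ((2 ^ (2 * m' + 1)) ^ 2 + 1) * (2 ^ (2 * m' + 1) - 1) := by
      have e1 : 2 ^ (2 * m' + 1) = 2 * 2 ^ (2 * m') := by rw [pow_succ]; ring
      have e2 : 1 ≤ 2 ^ (2 * m') := Nat.one_le_two_pow
      intro h
      rcases (Nat.Prime.dvd_mul Nat.prime_two).mp h with h | h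
      · have e3 : (2 ^ (2 * m' + 1)) ^ 2 + 1 = 2 * (2 * (2 ^ (2 * m')) ^ 2) + 1 := by
          rw [e1]; ring
        omega
      · omega
    have h3 := two_part hidx h2 h1
    obtain ⟨j, hj⟩ := hk3
    have h4 : k = 2 * (2 * m + 1) := by
      have e1 : 2 ≤ j := by
        by_contra hcon
        have : j ≤ 1 := by omega
        have : (2 * m + 1) * j ≤ (2 * m + 1) * 1 := Nat.mul_le_mul_left _ this
        omega
      have e2 : j ≤ 4 := by
        by_contra hcon
        have : 5 ≤ j := by omega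
        have : (2 * m + 1) * 5 ≤ (2 * m + 1) * j := Nat.mul_le_mul_left _ this
        omega
      have e3 : j = 2 ∨ j = 3 ∨ j = 4 := by omega
      rcases e3 with rfl | rfl | rfl
      · omega
      · omega
      · omega
    have h5 : 2 * m' + 1 = 2 * m + 1 := by omega
    rw [hcard', hF, h5]
  · left
    obtain ⟨K, _, _, hc, he⟩ := h
    left
    exact ⟨K, inferInstance, inferInstance, hc, 3, by norm_num, by norm_num, he⟩
  · left
    obtain ⟨K, _, _, hc, h4, he⟩ := h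
    right; left
    exact ⟨K, inferInstance, inferInstance, hc, 2, le_rfl, fun _ => by omega, he⟩
  · exfalso
    obtain ⟨e⟩ := h
    have h1 := card_A7
    rw [← Nat.card_congr e.toEquiv] at h1
    omega

end Cfsg.Agent.StdSz.LieGen
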