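import Cfsg.Agent.StdSz.NextLevel
import Mathlib.GroupTheory.Nilpotent
import Mathlib.GroupTheory.Sylow

/-!
# Existence of the next level
-/

set_option autoImplicit false
set_option linter.unusedSectionVars false
set_option linter.style.haveILetI false

namespace Cfsg.Agent.StdSz.NextExists

open Cfsg.Agent.StdSz.EquivMaps Cfsg.Agent.StdSz.SzMaps Cfsg.Agent.StdSz.FormAlg
open Cfsg.Agent.StdSz.FixT Cfsg.Agent.StdSz.LevelOne Cfsg.Agent.StdSz.Coord
open Cfsg.Agent.StdSz.NormQ Cfsg.Agent.StdSz.NextLevel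

variable {G : Type*} [Group G] {F : Type*} [Field F] [Fintype F] [CharP F 2] {m : ℕ}
variable (P : Pre G F m)

theorem iterate_sZ {s : G} (h : Norm P s) (n : ℕ) (b : F) :
    s ^ n * P.p 0 b * (s ^ n)⁻¹ = P.p 0 ((sZ P h)^[n] b) := by
  induction n with
  | zero => simp
  | succ n ih =>
    rw [Function.iterate_succ_apply', ← sZ_spec P h, ← ih, pow_succ']
    group

/-- 2-elements of `N(Q)` centralise `Z`. -/
theorem two_elt_Z {s : G} (h : Norm P s) (hd : del P = 0) (hg : gam P = 0 ∨ gam P = 1) (k : ℕ)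
    (hk : s ^ (2 ^ k) = 1) (b : F) : s * P.p 0 b = P.p 0 b * s := by
  have hB' : ∀ x y, B m 0 (sb P h x) (sb P h y) = sZ P h (B m 0 x y) := by
    intro x y
    have := sb_B P h x y
    rwa [hd] at this
  have hS' : ∀ x, Sq m (gam P) 0 (sb P h x) = sZ P h (Sq m (gam P) 0 x) := by
    intro x
    have := sb_Sq P h x
    rwa [hd] at this
  have hfst : ∀ x : F, (sb P h (0, x, 0)).1 = 0 := fun x =>
    fst_eq_zero P.hm P.hF (sb P h) (sZ P h) hB' rfl
  let A : F → F := fun x => (sb P h (0, x, 0)).2.1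
  have hpsi : ∀ x : F, gam P * (sb P h (0, x, 0)).2.2 = 0 := by
    intro x
    rcases hg with hg | hg
    · rw [hg, zero_mul]
    · obtain ⟨r, hr⟩ := sb_tt_one P h hd hg
      have h1 := hB' tt (0, x, 0)
      rw [B_tt, hr, B_zero, hfst] at h1
      simp only [cc_one, one_mul, cc_zero, zero_mul, add_zero, bt_zero_left, map_zero] at h1
      rw [h1, mul_zero]
  have hN : ∀ x, (A x) ^ (1 + 2 ^ (m + 1)) = sZ P h (x ^ (1 + 2 ^ (m + 1))) := by
    intro x
    have h1 := hS' (0, x, 0)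
    rw [Sq_zero, Sq_zero, hfst, hpsi] at h1
    simp only [cc_zero, zero_mul, zero_add, mul_zero, add_zero] at h1
    exact h1
  have hbt : ∀ x y, bt m (A x) (A y) = sZ P h (bt m x y) := by
    intro x y
    have h1 := hB' (0, x, 0) (0, y, 0)
    rw [B_zero, B_zero, hfst, hfst] at h1
    simp only [cc_zero, zero_mul, zero_add] at h1
    exact h1
  have hid := (Hyperplane.eq_id_form P.hF A (sZ P h) (map_add _) hN hbt k (by
    intro x
    apply P.z_inj
    rw [← iterate_sZ P h, hk, one_mul, inv_one, mul_one])).2 b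
  have h2 := sZ_spec P h b
  rw [hid] at h2
  exact mul_inv_eq_iff_eq_mul.mp h2

/-- what is used about the possible conjugates `f w` of `t`. -/
structure FF (f : F → V3 F) : Prop where
  zero : f 0 = tt
  inj : Function.Injective f
  tor : ∀ c : F, c ≠ 0 → ∃ l : Fˣ, ∀ w, tor (m := m) l (f w) = f (c * w)
  conj : ∀ (s : G) (h : Norm P s), ∃ w, sb P h tt = f w

theorem FF_zero (hd : del P = 0) (hg : gam P = 0) :
    FF P (fun w => ((1, w, w ^ (1 + 2 ^ (m + 1))) : V3 F)) where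
  zero := by
    show ((1, 0, 0 ^ (1 + 2 ^ (m + 1))) : V3 F) = tt
    rw [zero_pow (by positivity)]
    rfl
  inj := by
    intro x y h
    exact congrArg (fun z => z.2.1) h
  tor := by
    intro c hc
    refine ⟨Units.mk0 c hc, fun w => ?_⟩
    show ((1, c * w, c ^ (1 + 2 ^ (m + 1)) * w ^ (1 + 2 ^ (m + 1))) : V3 F) = _
    rw [← mul_pow]
  conj := fun s h => sb_tt_zero P h hd hg

theorem FF_one (hd : del P = 0) (hg : gam P = 1) :
    FF P (fun u => ((1, 0, u) : V3 F)) where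
  zero := rfl
  inj := by
    intro x y h
    exact congrArg (fun z => z.2.2) h
  tor := by
    intro c hc
    have h1 := norm_surj P.hF c
    have h2 : c ^ (2 ^ (m + 1) - 1) ≠ 0 := pow_ne_zero _ hc
    refine ⟨Units.mk0 _ h2, fun w => ?_⟩
    show ((1, (c ^ (2 ^ (m + 1) - 1)) * 0, (c ^ (2 ^ (m + 1) - 1)) ^ (1 + 2 ^ (m + 1)) * w)
      : V3 F) = _
    rw [h1, mul_zero]
  conj := fun s h => sb_tt_one P h hd hg

theorem sb_mul {s r : G} (hs : Norm P s) (hr : Norm P r) (v : V3 F) :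
    sb P (Norm.mul P hs hr) v = sb P hs (sb P hr v) := by
  have h1 : sb P (Norm.mul P hs hr) v = crd P (s * r * el P v * (s * r)⁻¹) := rfl
  have h2 : sb P hr v = crd P (r * el P v * r⁻¹) := rfl
  rw [h1, h2, ← sb_spec P hs (hr.fwd _ (el_mem P v))]
  congr 1
  group

theorem sb_one (h : Norm P 1) (v : V3 F) : sb P h v = v := by
  have h1 : sb P h v = crd P (1 * el P v * 1⁻¹) := rfl
  rw [h1, one_mul, inv_one, mul_one, crd_el]

/-- the action of a subgroup of `N(Q)` on `Q / Z`. -/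
@[reducible] noncomputable def act (N : Subgroup G) (hN : N ≤ NQ P) : MulAction N (V3 F) where
  smul s v := sb P (hN s.2) v
  one_smul v := sb_one P _ v
  mul_smul s r v := sb_mul P (hN s.2) (hN r.2) v

theorem sb_tt_eq {s : G} (h : Norm P s) : sb P h tt = crd P (s * P.t * s⁻¹) := by
  rw [sb_spec P h P.Q_t, crd_t]

theorem sb_tt_of_comm {s : G} (h : Norm P s) (hc : s * P.t = P.t * s) : sb P h tt = tt := by
  rw [sb_tt_eq, hc, mul_assoc, mul_inv_cancel, mul_one, crd_t]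

theorem transitive {f : F → V3 F} (hf : FF P f) (N : Subgroup G) (hN : N ≤ NQ P)
    (hNh : ∀ l : Fˣ, ∀ s ∈ N, P.h l * s * (P.h l)⁻¹ ∈ N) {s1 : G} (hs1 : s1 ∈ N)
    (h1 : sb P (hN hs1) tt ≠ tt) (w : F) : ∃ s, ∃ hs : s ∈ N, sb P (hN hs) tt = f w := by
  obtain ⟨w1, hw1⟩ := hf.conj s1 (hN hs1)
  have hw10 : w1 ≠ 0 := by
    rintro rfl
    rw [hf.zero] at hw1
    exact h1 hw1
  rcases eq_or_ne w 0 with rfl | hw
  · exact ⟨1, one_mem _, (sb_one P _ _).trans hf.zero.symm⟩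
  obtain ⟨l, hl⟩ := hf.tor (w / w1) (div_ne_zero hw hw10)
  refine ⟨_, hNh l s1 hs1, ?_⟩
  refine (sb_tt_eq P (hN (hNh l s1 hs1))).trans ?_
  have h2 : P.h l * s1 * (P.h l)⁻¹ * P.t * (P.h l * s1 * (P.h l)⁻¹)⁻¹ =
      cj P l (s1 * ((P.h l)⁻¹ * (P.t * P.h l)) * s1⁻¹) := by
    unfold cj; group
  rw [h2, P.t_h, inv_mul_cancel_left, crd_cj P l ((hN hs1).fwd _ P.Q_t)]
  have h3 := hl w1
  have h4 : f w1 = crd P (s1 * P.t * s1⁻¹) := hw1.symm.trans (sb_tt_eq P (hN hs1))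
  rw [h4, div_mul_cancel₀ _ hw10] at h3
  exact h3

/-- the stabiliser of `t Z` in `N(Q)`. -/
def StQ : Subgroup G where
  carrier := {s | ∃ h : Norm P s, sb P h tt = tt}
  mul_mem' := by
    rintro a b ⟨ha, ha'⟩ ⟨hb, hb'⟩
    exact ⟨Norm.mul P ha hb, by rw [sb_mul P ha hb, hb', ha']⟩
  one_mem' := ⟨Norm.of_mem P (one_mem _), sb_one P _ _⟩
  inv_mem' := by
    rintro a ⟨ha, ha'⟩
    refine ⟨Norm.inv P ha, ?_⟩
    have h1 := sbf_inv P ha tt
    have h2 : sbf P ha tt = tt := ha'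
    rw [h2] at h1
    exact h1

theorem mem_StQ {s : G} : s ∈ StQ P ↔ ∃ h : Norm P s, sb P h tt = tt := Iff.rfl

theorem Q_le_StQ : P.Q ≤ StQ P := by
  intro g hg
  refine ⟨Norm.of_mem P hg, ?_⟩
  rw [sb_eq_tt_iff]
  exact ⟨g, hg, by rw [inv_mul_cancel, one_mul, mul_one]⟩

theorem relIndex_StQ {f : F → V3 F} (hf : FF P f) (N : Subgroup G) (hN : N ≤ NQ P)
    (htr : ∀ w, ∃ s, ∃ hs : s ∈ N, sb P (hN hs) tt = f w) :
    (StQ P).relIndex N = 2 ^ (2 * m + 1) := by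
  classical
  letI := act P N hN
  have h1 : (StQ P).subgroupOf N = MulAction.stabilizer N (tt : V3 F) := by
    ext s
    rw [Subgroup.mem_subgroupOf, MulAction.mem_stabilizer_iff]
    constructor
    · rintro ⟨h, h'⟩; exact h'
    · intro h; exact ⟨hN s.2, h⟩
  have h2 : MulAction.orbit N (tt : V3 F) = Set.range f := by
    ext v
    constructor
    · rintro ⟨s, rfl⟩
      obtain ⟨w, hw⟩ := hf.conj s (hN s.2)
      exact ⟨w, hw.symm⟩
    · rintro ⟨w, rfl⟩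
      obtain ⟨s, hs, h⟩ := htr w
      exact ⟨⟨s, hs⟩, h⟩
  rw [Subgroup.relIndex, h1, MulAction.index_stabilizer, h2, ← Set.image_univ,
    Set.ncard_image_of_injective _ hf.inj, Set.ncard_univ, Nat.card_eq_fintype_card, P.hF]

/-! ### Growth -/

/-- Normalizers grow in `p`-groups. -/
theorem lt_inf_normalizer {R A : Subgroup G} [Finite G] (hP : IsPGroup 2 R) (hA : A < R) :
    A < R ⊓ Subgroup.normalizer (A : Set G) := by
  refine lt_of_le_of_ne (le_inf hA.le Subgroup.le_normalizer) ?_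
  intro h
  haveI : Fact (Nat.Prime 2) := ⟨Nat.prime_two⟩
  have hnil : Group.IsNilpotent R := hP.isNilpotent
  have hlt : A.subgroupOf R < ⊤ := by
    rw [lt_top_iff_ne_top]
    intro h'
    rw [Subgroup.subgroupOf_eq_top] at h'
    exact absurd h' (not_le_of_gt hA)
  have h1 := Group.normalizerCondition_of_isNilpotent (G := R) _ hlt
  apply h1.ne
  rw [← Subgroup.subgroupOf_normalizer_eq hA.le]
  nth_rewrite 1 [h]
  ext x
  simp [Subgroup.mem_subgroupOf]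

/-- either `Q` is maximal among 2-subgroups or some 2-element of `N(Q)` moves `t Z`. -/
theorem maximal_or_exists [Finite G] (hT : Tmax P) :
    (∀ R : Subgroup G, IsPGroup 2 R → P.Q ≤ R → R = P.Q) ∨
    ∃ s, ∃ h : Norm P s, (∃ k, s ^ (2 ^ k) = 1) ∧ sb P h tt ≠ tt := by
  by_contra hcon
  push Not at hcon
  obtain ⟨⟨R, hR, hQR, hne⟩, h2⟩ := hcon
  have h3 := lt_inf_normalizer hR (lt_of_le_of_ne hQR hne.symm)
  apply h3.ne
  apply le_antisymm h3.le
  intro s hs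
  have hsn : Norm P s := by
    apply norm_of_fwd
    intro g hg
    exact (Subgroup.mem_normalizer_iff.mp hs.2 g).mp hg
  obtain ⟨k, hk⟩ := hR ⟨s, hs.1⟩
  exact mem_Q_of_sb_tt P hT hR hQR hsn hs.1 (h2 s hsn ⟨k, congrArg Subtype.val hk⟩)

theorem N0_h [Finite G] (l : Fˣ) {s : G} (hs : s ∈ N0 P) : P.h l * s * (P.h l)⁻¹ ∈ N0 P := by
  have hh := norm_h P l
  refine ⟨Norm.mul P (Norm.mul P hh hs.1) (Norm.inv P hh), fun b => ?_⟩
  have h1 := sZ_spec P (Norm.inv P hh) b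
  rw [inv_inv] at h1
  have h2 := hs.2 (sZ P (Norm.inv P hh) b)
  have h3 : P.h l * P.p 0 (sZ P (Norm.inv P hh) b) * (P.h l)⁻¹ = P.p 0 b := by rw [← h1]; group
  calc P.h l * s * (P.h l)⁻¹ * P.p 0 b
      = P.h l * s * ((P.h l)⁻¹ * P.p 0 b * P.h l) * (P.h l)⁻¹ := by group
    _ = P.h l * (s * P.p 0 (sZ P (Norm.inv P hh) b)) * (P.h l)⁻¹ := by rw [h1]; group
    _ = P.h l * (P.p 0 (sZ P (Norm.inv P hh) b) * s) * (P.h l)⁻¹ := by rw [h2]
    _ = (P.h l * P.p 0 (sZ P (Norm.inv P hh) b) * (P.h l)⁻¹) * (P.h l * s * (P.h l)⁻¹) := by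
      group
    _ = P.p 0 b * (P.h l * s * (P.h l)⁻¹) := by rw [h3]

theorem D1_le {K : Subgroup G} (hK : HC P K) : D1 P K ≤ N0 P := by
  intro d hd
  have hd' := (mem_D1 P).mp hd
  refine ⟨⟨fun g hg => ?_, fun g hg => ?_⟩, fun b => ?_⟩
  · rw [← hd'.2 g hg, mul_assoc, mul_inv_cancel, mul_one]; exact hg
  · rw [mul_assoc, hd'.2 g hg, inv_mul_cancel_left]; exact hg
  · exact hK.comm_p d hd'.1 0 b

/-- the stabiliser of `t Z` in `N0` is `Q D1`. -/
theorem stab_dec [Finite G] {K : Subgroup G} (hK : HC P K) {s : G} (hs : s ∈ N0 P)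
    (h1 : sb P hs.1 tt = tt) : ∃ g ∈ P.Q, ∃ d ∈ D1 P K, s = g * d := by
  obtain ⟨g, hg, hc⟩ := (sb_eq_tt_iff P hs.1).mp h1
  have hcZ : ∀ b, (g⁻¹ * s) * P.p 0 b = P.p 0 b * (g⁻¹ * s) :=
    (mul_mem (inv_mem (Q_le_N0 P hg)) hs : g⁻¹ * s ∈ N0 P).2
  obtain ⟨x, hx, k, hk, he⟩ := hK.dec _ hc hcZ
  have hkn : Norm P k := by
    have : k = x⁻¹ * (g⁻¹ * s) := by rw [he]; group
    rw [this]
    exact Norm.mul P (Norm.of_mem P (inv_mem hx)) (Norm.mul P (Norm.of_mem P (inv_mem hg)) hs.1)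
  refine ⟨g * x, mul_mem hg hx, k, (mem_D1 P).mpr ⟨hk, fun y hy =>
    (comm_of_K P hK hk hkn hy).symm⟩, ?_⟩
  rw [mul_assoc, ← he, mul_inv_cancel_left]

/-- an element of 2-power order in `D1` is trivial. -/
theorem D1_two {K : Subgroup G} (hK : HC P K) {d : G} (hd : d ∈ D1 P K) {k : ℕ}
    (h : d ^ (2 ^ k) = 1) : d = 1 := by
  have hd' := (mem_D1 P).mp hd
  have h2 : d ^ Nat.card K = 1 := by
    have : (⟨d, hd'.1⟩ : K) ^ Nat.card K = 1 := pow_card_eq_one'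
    exact congrArg Subtype.val this
  have hcop : Nat.Coprime (Nat.card K) (2 ^ k) :=
    (Nat.coprime_two_right.mpr hK.odd).pow_right k
  have h6 : orderOf d ∣ Nat.gcd (Nat.card K) (2 ^ k) :=
    Nat.dvd_gcd (orderOf_dvd_of_pow_eq_one h2) (orderOf_dvd_of_pow_eq_one h)
  rw [Nat.Coprime.gcd_eq_one hcop, Nat.dvd_one, orderOf_eq_one_iff] at h6
  exact h6

theorem exists_next [Finite G] {K : Subgroup G} (hT : Tmax P) (hK : HC P K) {f : F → V3 F}
    (hf : FF P f) (hZ : ∀ s, Norm P s → (∃ k, s ^ (2 ^ k) = 1) → ∀ b, s * P.p 0 b = P.p 0 b * s)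
    {s1 : G} (hs1 : Norm P s1) (hs12 : ∃ k, s1 ^ (2 ^ k) = 1) (h1 : sb P hs1 tt ≠ tt) :
    Nonempty (Next P f) := by
  classical
  haveI : Fact (Nat.Prime 2) := ⟨Nat.prime_two⟩
  have hs1N : s1 ∈ N0 P := ⟨hs1, hZ s1 hs1 hs12⟩
  have htr := transitive P hf (N0 P) (N0_le P) (fun l s hs => N0_h P l hs) hs1N h1
  have hidx := relIndex_StQ P hf (N0 P) (N0_le P) htr
  -- work inside `N0`
  let D : Subgroup (N0 P) := (D1 P K).subgroupOf (N0 P)
  let Qn : Subgroup (N0 P) := P.Q.subgroupOf (N0 P)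
  let St : Subgroup (N0 P) := (StQ P).subgroupOf (N0 P)
  haveI hDn : D.Normal := ⟨by
    intro d hd g
    rw [Subgroup.mem_subgroupOf] at hd ⊢
    exact D1_normal P hK g.2.1 hd⟩
  have hSt : St ≤ Qn ⊔ D := by
    intro s hs
    obtain ⟨h, h'⟩ := hs
    obtain ⟨g, hg, d, hd, he⟩ := stab_dec P hK s.2 h'
    have : s = (⟨g, Q_le_N0 P hg⟩ : N0 P) * ⟨d, D1_le P hK hd⟩ := Subtype.ext he
    rw [this]
    exact mul_mem ((le_sup_left : Qn ≤ Qn ⊔ D) hg) ((le_sup_right : D ≤ Qn ⊔ D) hd)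
  have hD2 : ∃ j, D.index = 2 ^ j := by
    have e1 : D.relIndex (Qn ⊔ D) * (Qn ⊔ D).index = D.index :=
      Subgroup.relIndex_mul_index le_sup_right
    have e2 : (Qn ⊔ D).index ∣ 2 ^ (2 * m + 1) := by
      have : (Qn ⊔ D).index ∣ St.index := Subgroup.index_dvd_of_le hSt
      rwa [show St.index = 2 ^ (2 * m + 1) from hidx] at this
    have e3 : D.relIndex (Qn ⊔ D) = D.relIndex Qn := Subgroup.relIndex_sup_right Qn D
    have hQn : IsPGroup 2 Qn := P.Q_two.comap_subtype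
    have e4 : D.relIndex Qn ∣ Nat.card Qn := Subgroup.relIndex_dvd_card D Qn
    obtain ⟨i, hi⟩ := hQn.exists_card_eq
    rw [hi] at e4
    obtain ⟨a, -, ha⟩ := (Nat.dvd_prime_pow Nat.prime_two).mp e2
    obtain ⟨b, -, hb⟩ := (Nat.dvd_prime_pow Nat.prime_two).mp e4
    exact ⟨b + a, by rw [← e1, e3, ha, hb, _root_.pow_add]⟩
  have hQn : IsPGroup 2 Qn := P.Q_two.comap_subtype
  obtain ⟨S0, hS0⟩ := hQn.exists_le_sylow
  -- `N0 = S0 D`
  have hSD : (S0 : Subgroup (N0 P)) ⊔ D = ⊤ := by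
    rw [← Subgroup.index_eq_one]
    obtain ⟨j, hj⟩ := hD2
    have e1 : ((S0 : Subgroup (N0 P)) ⊔ D).index ∣ 2 ^ j := by
      rw [← hj]; exact Subgroup.index_dvd_of_le le_sup_right
    have e2 : ((S0 : Subgroup (N0 P)) ⊔ D).index ∣ (S0 : Subgroup (N0 P)).index :=
      Subgroup.index_dvd_of_le le_sup_left
    obtain ⟨i, -, hi⟩ := (Nat.dvd_prime_pow Nat.prime_two).mp e1
    rw [hi]
    rcases Nat.eq_zero_or_pos i with h0 | h0
    · rw [h0, pow_zero]
    · exfalso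
      have : 2 ∣ (S0 : Subgroup (N0 P)).index := by
        refine dvd_trans ?_ e2
        rw [hi]
        exact dvd_pow_self 2 (by omega)
      exact S0.not_dvd_index this
  have hdec : ∀ n : N0 P, ∃ s ∈ (S0 : Subgroup (N0 P)), ∃ d ∈ D, n = s * d := by
    intro n
    have hn : n ∈ (S0 : Subgroup (N0 P)) ⊔ D := by rw [hSD]; trivial
    obtain ⟨s, hs, d, hd, h⟩ := Subgroup.mem_sup_of_normal_right.mp hn
    exact ⟨s, hs, d, hd, h.symm⟩
  let S : Subgroup G := (S0 : Subgroup (N0 P)).map (N0 P).subtype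
  have hS2 : IsPGroup 2 S := S0.isPGroup'.map _
  have hSN : S ≤ N0 P := by
    rintro _ ⟨x, -, rfl⟩
    exact x.2
  have hmemS : ∀ x : N0 P, (x : G) ∈ S ↔ x ∈ (S0 : Subgroup (N0 P)) := by
    intro x
    constructor
    · rintro ⟨y, hy, he⟩
      have : y = x := Subtype.ext he
      rw [← this]; exact hy
    · intro hx
      exact ⟨x, hx, rfl⟩
  have hQS : P.Q ≤ S := by
    intro g hg
    have : (⟨g, Q_le_N0 P hg⟩ : N0 P) ∈ (S0 : Subgroup (N0 P)) := hS0 hg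
    exact (hmemS _).mpr this
  -- the torus
  have hh : ∀ l : Fˣ, ∃ d ∈ D1 P K, ∀ s ∈ S, (d * P.h l) * s * (d * P.h l)⁻¹ ∈ S := by
    intro l
    let S' : Subgroup G := S.map (MulAut.conj (P.h l)).toMonoidHom
    have hS'2 : IsPGroup 2 S' := hS2.map _
    have hS'N : S' ≤ N0 P := by
      rintro _ ⟨x, hx, rfl⟩
      exact N0_h P l (hSN hx)
    have hS'p : IsPGroup 2 (S'.subgroupOf (N0 P)) := hS'2.comap_subtype
    obtain ⟨Q', hQ'⟩ := hS'p.exists_le_sylow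
    obtain ⟨n, hn⟩ := MulAction.exists_smul_eq (N0 P) Q' S0
    obtain ⟨s, hs, d, hd, he⟩ := hdec n
    refine ⟨d, hd, fun x hx => ?_⟩
    have hy : P.h l * x * (P.h l)⁻¹ ∈ S' := ⟨x, hx, rfl⟩
    have hyN := hS'N hy
    have h2 : (⟨_, hyN⟩ : N0 P) ∈ (Q' : Subgroup (N0 P)) := hQ' hy
    have h3 : n * ⟨_, hyN⟩ * n⁻¹ ∈ (S0 : Subgroup (N0 P)) := by
      rw [← hn]
      rw [Sylow.coe_subgroup_smul]
      exact Subgroup.smul_mem_pointwise_smul _ (MulAut.conj n) _ h2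
    have h4 : s⁻¹ * (n * ⟨_, hyN⟩ * n⁻¹) * s ∈ (S0 : Subgroup (N0 P)) :=
      mul_mem (mul_mem (inv_mem hs) h3) hs
    have h5 := (hmemS _).mpr h4
    have h6 : ((s⁻¹ * (n * ⟨_, hyN⟩ * n⁻¹) * s : N0 P) : G) =
        (d * P.h l) * x * (d * P.h l)⁻¹ := by
      rw [he]
      show (s : G)⁻¹ * ((s * d : G) * (P.h l * x * (P.h l)⁻¹) * (s * d : G)⁻¹) * (s : G) = _
      group
    rw [h6] at h5
    exact h5
  choose dl hdl hdlS using hh
  have hdQ : ∀ l, ∀ g ∈ P.Q, (dl l * P.h l) * g * (dl l * P.h l)⁻¹ = P.h l * g * (P.h l)⁻¹ := by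
    intro l g hg
    have h2 := ((mem_D1 P).mp (hdl l)).2 _ (P.Q_h l g hg)
    have h3 : (dl l * P.h l) * g * (dl l * P.h l)⁻¹ = dl l * (P.h l * g * (P.h l)⁻¹) * (dl l)⁻¹ := by
      group
    rw [h3, ← h2]; group
  refine ⟨⟨S, hS2, hQS, ?_, ?_, ?_, fun l => dl l * P.h l, ?_, hdQ, hdlS, ?_, ?_, ?_, ?_⟩⟩
  · intro s hs g hg
    exact (hSN hs).1.fwd g hg
  · intro s hs b
    exact (hSN hs).2 b
  · intro R hR hSR hRn
    have hRN : R ≤ N0 P := by
      intro r hr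
      have hrn : Norm P r := norm_of_fwd P (hRn r hr)
      obtain ⟨k, hk⟩ := hR ⟨r, hr⟩
      exact ⟨hrn, hZ r hrn ⟨k, congrArg Subtype.val hk⟩⟩
    have h2 : R.subgroupOf (N0 P) = (S0 : Subgroup (N0 P)) := by
      apply S0.is_maximal'
      · exact hR.comap_subtype
      · intro x hx
        exact hSR ((hmemS x).mpr hx)
    apply le_antisymm _ hSR
    intro r hr
    have : (⟨r, hRN hr⟩ : N0 P) ∈ R.subgroupOf (N0 P) := hr
    rw [h2] at this
    exact (hmemS _).mpr this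
  · intro l
    rw [mul_assoc, ← P.t_h, ← mul_assoc, hK.comm_t _ ((mem_D1 P).mp (hdl l)).1, mul_assoc]
  · intro l l' s hs
    set c := (dl (l * l') * P.h (l * l'))⁻¹ * ((dl l * P.h l) * (dl l' * P.h l')) with hc
    have hcQ : ∀ g ∈ P.Q, g * c = c * g := by
      intro g hg
      have e1 := P.h_mul l l' g hg
      rw [← hdQ _ g hg, ← hdQ l' g hg, ← hdQ l _ (by rw [hdQ l' g hg]; exact P.Q_h _ _ hg)] at e1
      have e2 : c * g * c⁻¹ = g := by
        rw [hc]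
        have : (dl (l * l') * P.h (l * l'))⁻¹ * (dl l * P.h l * (dl l' * P.h l')) * g *
            ((dl (l * l') * P.h (l * l'))⁻¹ * (dl l * P.h l * (dl l' * P.h l')))⁻¹ =
            (dl (l * l') * P.h (l * l'))⁻¹ * (dl l * P.h l * (dl l' * P.h l' * g *
              (dl l' * P.h l')⁻¹) * (dl l * P.h l)⁻¹) * (dl (l * l') * P.h (l * l')) := by group
        rw [this, ← e1]; group
      exact (mul_inv_eq_iff_eq_mul.mp e2).symm
    obtain ⟨b, d, hd, hcd⟩ := cent_Q P hK hcQ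
    -- `h' l` induces a bijection of `S`
    have hbij : ∀ l, ∀ x ∈ S, (dl l * P.h l)⁻¹ * x * (dl l * P.h l) ∈ S := by
      intro l x hx
      have h2 : S.map (MulAut.conj (dl l * P.h l)).toMonoidHom ≤ S := by
        rintro _ ⟨g, hg, rfl⟩
        exact hdlS l g hg
      have h3 : S.map (MulAut.conj (dl l * P.h l)).toMonoidHom = S := by
        have h4 : Nat.card (S.map (MulAut.conj (dl l * P.h l)).toMonoidHom) = Nat.card S :=
          Nat.card_congr (S.equivMapOfInjective (MulAut.conj (dl l * P.h l)).toMonoidHom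
            (MulAut.conj (dl l * P.h l)).injective).symm.toEquiv
        exact Subgroup.eq_of_le_of_card_ge h2 h4.ge
      rw [← h3] at hx
      obtain ⟨y, hy, rfl⟩ := hx
      have : (dl l * P.h l)⁻¹ * (MulAut.conj (dl l * P.h l)).toMonoidHom y * (dl l * P.h l) = y := by
        show (dl l * P.h l)⁻¹ * ((dl l * P.h l) * y * (dl l * P.h l)⁻¹) * (dl l * P.h l) = y
        group
      rw [this]; exact hy
    have hcS : c * s * c⁻¹ ∈ S := by
      have e1 : c * s * c⁻¹ = (dl (l * l') * P.h (l * l'))⁻¹ * ((dl l * P.h l) * ((dl l' * P.h l') *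
          s * (dl l' * P.h l')⁻¹) * (dl l * P.h l)⁻¹) * (dl (l * l') * P.h (l * l')) := by
        rw [hc]; group
      rw [e1]
      exact hbij _ _ (hdlS l _ (hdlS l' _ hs))
    have hdS : d * s * d⁻¹ ∈ S := by
      have e1 : d = (P.p 0 b)⁻¹ * c := by rw [hcd]; group
      have e2 : d * s * d⁻¹ = (P.p 0 b)⁻¹ * (c * s * c⁻¹) * P.p 0 b := by rw [e1]; group
      rw [e2]
      exact mul_mem (mul_mem (inv_mem (hQS (P.Q_p 0 b))) hcS) (hQS (P.Q_p 0 b))
    have hds : d * s * d⁻¹ = s := by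
      have e1 : d * s * d⁻¹ * s⁻¹ ∈ S := mul_mem hdS (inv_mem hs)
      have e2 : d * s * d⁻¹ * s⁻¹ ∈ D1 P K := by
        have : d * s * d⁻¹ * s⁻¹ = d * (s * d⁻¹ * s⁻¹) := by group
        rw [this]
        exact mul_mem hd (D1_normal P hK (hSN hs).1 (inv_mem hd))
      obtain ⟨k, hk⟩ := hS2 ⟨_, e1⟩
      have e3 := D1_two P hK e2 (congrArg Subtype.val hk)
      exact mul_inv_eq_one.mp e3
    have hcs : c * s * c⁻¹ = s := by
      have : c * s * c⁻¹ = P.p 0 b * (d * s * d⁻¹) * (P.p 0 b)⁻¹ := by rw [hcd]; group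
      rw [this, hds, ← (hSN hs).2 b]; group
    have e4 : (dl l * P.h l) * ((dl l' * P.h l') * s * (dl l' * P.h l')⁻¹) * (dl l * P.h l)⁻¹ =
        (dl (l * l') * P.h (l * l')) * (c * s * c⁻¹) * (dl (l * l') * P.h (l * l'))⁻¹ := by
      rw [hc]; group
    rw [e4, hcs]
  · intro s hs
    obtain ⟨w, hw⟩ := hf.conj s (hSN hs).1
    exact ⟨w, by rw [← hw, sb_tt_eq]⟩
  · intro w
    obtain ⟨n, hn, hw⟩ := htr w
    obtain ⟨s, hs, d, hd, he⟩ := hdec ⟨n, hn⟩
    have hd' : (d : G) ∈ D1 P K := hd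
    refine ⟨s, (hmemS s).mpr hs, ?_⟩
    have h2 : n = s * d := congrArg Subtype.val he
    have h3 : sb P (N0_le P hn) tt = crd P (n * P.t * n⁻¹) := sb_tt_eq P _
    rw [← hw, h3, h2]
    have h4 : (s * d : G) * P.t * (s * d : G)⁻¹ = s * ((d : G) * P.t * (d : G)⁻¹) * (s : G)⁻¹ := by
      group
    rw [h4, hK.comm_t _ ((mem_D1 P).mp hd').1]
    have h5 : P.t * (d : G) * (d : G)⁻¹ = P.t := by group
    rw [h5]
  · intro s hs h2
    have hsn := (hSN hs).1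
    apply mem_Q_of_sb_tt P hT hS2 hQS hsn hs
    rw [sb_tt_eq]; exact h2

end Cfsg.Agent.StdSz.NextExists
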