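import Cfsg.Agent.StdSz.Coord
import Cfsg.Agent.StdSz.Hyperplane

/-!
# Elements normalising `Q`

An element `s` normalising `Q` induces an additive automorphism `sbar` of `V3 F` and `sZ` of `F`
which preserve the forms.  Hence the conjugates of `t` under `N_G(Q)` are known:
* if `δ ≠ 0`, or `γ ∉ {0, 1}`, they lie in `t Z`;
* if `δ = 0` and `γ = 0` they have coordinates `(1, w, w ^ (1 + θ))`;
* if `δ = 0` and `γ = 1` they have coordinates `(1, 0, u)`.
-/

set_option autoImplicit false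
set_option linter.unusedSectionVars false
set_option linter.style.haveILetI false

namespace Cfsg.Agent.StdSz.NormQ

open Cfsg.Agent.StdSz.EquivMaps Cfsg.Agent.StdSz.SzMaps Cfsg.Agent.StdSz.FormAlg
open Cfsg.Agent.StdSz.FixT Cfsg.Agent.StdSz.LevelOne Cfsg.Agent.StdSz.Coord

variable {G : Type*} [Group G] {F : Type*} [Field F] [Fintype F] [CharP F 2] {m : ℕ}
variable (P : Pre G F m)

theorem v3_add_self (x : V3 F) : x + x = 0 := by
  ext
  · show x.1 + x.1 = 0
    rcases zmod_cases x.1 with h | h <;> rw [h]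
    · rfl
    · decide
  · exact FormAlg.add_self _
  · exact FormAlg.add_self _

/-- the centre of `Q` is `Z`. -/
theorem mem_Z_iff {g : G} (hg : g ∈ P.Q) :
    (∀ k ∈ P.Q, g * k = k * g) ↔ ∃ b, g = P.p 0 b := by
  constructor
  · intro h
    have h0 : ∀ v : V3 F, B m (del P) (crd P g) v = 0 := by
      intro v
      obtain ⟨k, hk, hv⟩ := crd_surj P v
      rw [← hv, ← cm_crd P hg hk]
      apply P.cm_eq hg hk
      rw [P.p_zero, one_mul, h k hk]
    obtain ⟨⟨e, a, u⟩, hv⟩ : ∃ v, crd P g = v := ⟨_, rfl⟩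
    rw [hv] at h0
    apply eq_z_of_crd P hg
    rw [hv]
    have h1 := h0 tt
    rw [B_comm, B_tt] at h1
    have hu : u = 0 := h1
    subst hu
    have h2 := h0 (0, 0, 1)
    have h3 : ∀ b, B m (del P) ((e, a, 0) : V3 F) (0, b, 0) = bt m a b := by
      intro b
      unfold B
      simp
    have ha : a = 0 := by
      by_contra ha
      obtain ⟨x, hx, -⟩ := P.exists_two_values ha 0
      apply hx
      rw [← h3]
      exact h0 _
    subst ha
    have h4 : cc e = (0 : F) := by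
      have : B m (del P) ((e, 0, 0) : V3 F) (0, 0, 1) = cc e := by
        unfold B; simp
      rw [← this]; exact h2
    rcases zmod_cases e with rfl | rfl
    · rfl
    · rw [cc_one] at h4
      exact absurd h4 one_ne_zero
  · rintro ⟨b, rfl⟩ k hk
    exact (P.Q_Z k hk b).symm

/-- an element normalising `Q`. -/
structure Norm (s : G) : Prop where
  fwd : ∀ g ∈ P.Q, s * g * s⁻¹ ∈ P.Q
  bwd : ∀ g ∈ P.Q, s⁻¹ * g * s ∈ P.Q

theorem Norm.inv {s : G} (h : Norm P s) : Norm P s⁻¹ :=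
  ⟨fun g hg => by rw [inv_inv]; exact h.bwd g hg, fun g hg => by rw [inv_inv]; exact h.fwd g hg⟩

theorem Norm.mul {s r : G} (h : Norm P s) (h' : Norm P r) : Norm P (s * r) :=
  ⟨fun g hg => by
    have := h.fwd _ (h'.fwd g hg)
    have e : s * r * g * (s * r)⁻¹ = s * (r * g * r⁻¹) * s⁻¹ := by group
    rw [e]; exact this,
   fun g hg => by
    have := h'.bwd _ (h.bwd g hg)
    have e : (s * r)⁻¹ * g * (s * r) = r⁻¹ * (s⁻¹ * g * s) * r := by group
    rw [e]; exact this⟩

theorem Norm.of_mem {g : G} (hg : g ∈ P.Q) : Norm P g :=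
  ⟨fun _ hx => mul_mem (mul_mem hg hx) (inv_mem hg),
    fun _ hx => mul_mem (mul_mem (inv_mem hg) hx) hg⟩

theorem Norm.exists_z {s : G} (h : Norm P s) (b : F) : ∃ c, s * P.p 0 b * s⁻¹ = P.p 0 c := by
  rw [← mem_Z_iff P (h.fwd _ (P.Q_p _ _))]
  intro k hk
  have h1 := h.bwd k hk
  have h2 := P.Q_Z _ h1 b
  calc s * P.p 0 b * s⁻¹ * k = s * (P.p 0 b * (s⁻¹ * k * s)) * s⁻¹ := by group
    _ = s * ((s⁻¹ * k * s) * P.p 0 b) * s⁻¹ := by rw [h2]
    _ = k * (s * P.p 0 b * s⁻¹) := by group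

/-- the action on `Z`. -/
noncomputable def sZf {s : G} (h : Norm P s) (b : F) : F := (h.exists_z P b).choose

theorem sZf_spec {s : G} (h : Norm P s) (b : F) : s * P.p 0 b * s⁻¹ = P.p 0 (sZf P h b) :=
  (h.exists_z P b).choose_spec

theorem sZf_add {s : G} (h : Norm P s) (b c : F) :
    sZf P h (b + c) = sZf P h b + sZf P h c := by
  apply P.z_inj
  rw [← P.z_mul, ← sZf_spec, ← sZf_spec, ← sZf_spec, ← P.z_mul]
  group

theorem sZf_inv {s : G} (h : Norm P s) (b : F) : sZf P (h.inv P) (sZf P h b) = b := by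
  apply P.z_inj
  rw [← sZf_spec, ← sZf_spec]
  group

theorem sZf_inv' {s : G} (h : Norm P s) (b : F) : sZf P h (sZf P (h.inv P) b) = b := by
  apply P.z_inj
  rw [← sZf_spec, ← sZf_spec]
  group

/-- the action on `Z`, as an additive equivalence. -/
noncomputable def sZ {s : G} (h : Norm P s) : F ≃+ F where
  toFun := sZf P h
  invFun := sZf P (h.inv P)
  left_inv := sZf_inv P h
  right_inv := sZf_inv' P h
  map_add' := sZf_add P h

theorem sZ_spec {s : G} (h : Norm P s) (b : F) : s * P.p 0 b * s⁻¹ = P.p 0 (sZ P h b) :=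
  sZf_spec P h b

/-- the action on `Q / Z`. -/
noncomputable def sbf {s : G} (_ : Norm P s) (v : V3 F) : V3 F := crd P (s * el P v * s⁻¹)

theorem sbf_spec {s : G} (h : Norm P s) {g : G} (hg : g ∈ P.Q) :
    crd P (s * g * s⁻¹) = sbf P h (crd P g) := by
  obtain ⟨b, hb⟩ := exists_z_mul P hg (el_mem P (crd P g)) (crd_el P _).symm
  unfold sbf
  have h1 : s * g * s⁻¹ = (s * P.p 0 b * s⁻¹) * (s * el P (crd P g) * s⁻¹) := by
    conv_lhs => rw [hb]
    group
  rw [h1, sZ_spec P h, crd_mul P (P.Q_p _ _) (h.fwd _ (el_mem P _)), crd_p]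
  exact zero_add _

theorem sbf_add {s : G} (h : Norm P s) (x y : V3 F) : sbf P h (x + y) = sbf P h x + sbf P h y := by
  have h1 : crd P (el P x * el P y) = x + y := by
    rw [crd_mul P (el_mem P _) (el_mem P _), crd_el, crd_el]
  rw [← h1, ← sbf_spec P h (mul_mem (el_mem P _) (el_mem P _))]
  have h2 : s * (el P x * el P y) * s⁻¹ = (s * el P x * s⁻¹) * (s * el P y * s⁻¹) := by group
  rw [h2, crd_mul P (h.fwd _ (el_mem P _)) (h.fwd _ (el_mem P _))]
  rfl

theorem sbf_inv {s : G} (h : Norm P s) (x : V3 F) : sbf P (h.inv P) (sbf P h x) = x := by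
  have h1 : sbf P h x = crd P (s * el P x * s⁻¹) := rfl
  rw [h1, ← sbf_spec P (h.inv P) (h.fwd _ (el_mem P _))]
  have : s⁻¹ * (s * el P x * s⁻¹) * s⁻¹⁻¹ = el P x := by group
  rw [this, crd_el]

theorem sbf_inv' {s : G} (h : Norm P s) (x : V3 F) : sbf P h (sbf P (h.inv P) x) = x := by
  have h1 : sbf P (h.inv P) x = crd P (s⁻¹ * el P x * s⁻¹⁻¹) := rfl
  rw [h1, ← sbf_spec P h ((h.inv P).fwd _ (el_mem P _))]
  have : s * (s⁻¹ * el P x * s⁻¹⁻¹) * s⁻¹ = el P x := by group
  rw [this, crd_el]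

/-- the action on `Q / Z`, as an additive equivalence. -/
noncomputable def sb {s : G} (h : Norm P s) : V3 F ≃+ V3 F where
  toFun := sbf P h
  invFun := sbf P (h.inv P)
  left_inv := sbf_inv P h
  right_inv := sbf_inv' P h
  map_add' := sbf_add P h

theorem sb_spec {s : G} (h : Norm P s) {g : G} (hg : g ∈ P.Q) :
    crd P (s * g * s⁻¹) = sb P h (crd P g) := sbf_spec P h hg

theorem sb_Sq {s : G} (h : Norm P s) (x : V3 F) :
    Sq m (gam P) (del P) (sb P h x) = sZ P h (Sq m (gam P) (del P) x) := by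
  have h1 := mul_self_crd P (el_mem P x)
  have h2 := mul_self_crd P (h.fwd _ (el_mem P x))
  rw [sb_spec P h (el_mem P x), crd_el] at h2
  rw [crd_el] at h1
  apply P.z_inj
  rw [← h2, ← sZ_spec P h, ← h1]
  group

theorem sb_B {s : G} (h : Norm P s) (x y : V3 F) :
    B m (del P) (sb P h x) (sb P h y) = sZ P h (B m (del P) x y) := by
  have e : ∀ x y : V3 F, B m (del P) x y =
      Sq m (gam P) (del P) (x + y) + Sq m (gam P) (del P) x + Sq m (gam P) (del P) y := by
    intro x y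
    rw [Sq_add]
    have h2 : ∀ x y z : F, z = x + y + z + x + y := by
      intro x y z
      have : x + y + z + x + y = (x + x) + (y + y) + z := by ring
      rw [this, FormAlg.add_self, FormAlg.add_self, zero_add, zero_add]
    exact h2 _ _ _
  rw [e, e, ← map_add, sb_Sq, sb_Sq, sb_Sq, ← map_add, ← map_add]

/-! ### Conjugates of `t` -/

theorem Sq_sb_tt {s : G} (h : Norm P s) : Sq m (gam P) (del P) (sb P h tt) = 0 := by
  rw [sb_Sq]
  have : Sq m (gam P) (del P) (tt : V3 F) = 0 := by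
    unfold Sq tt
    simp
  rw [this, map_zero]

theorem sb_tt_of_ne {s : G} (h : Norm P s) (hd : del P ≠ 0 ∨ (gam P ≠ 0 ∧ gam P ≠ 1)) :
    sb P h tt = tt := by
  by_cases hd0 : del P = 0
  · rcases hd with hd | hd
    · exact absurd hd0 hd
    · apply fix_of_gamma P.hm P.hF hd.1 hd.2 (sb P h) (sZ P h)
      · intro x y
        have := sb_B P h x y
        rwa [hd0] at this
      · intro x
        have := sb_Sq P h x
        rwa [hd0] at this
  · exact fix_of_delta P.hm P.hF hd0 (sb P h) (sZ P h) (sb_B P h)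

theorem fst_sb_tt {s : G} (h : Norm P s) (hd : del P = 0) : (sb P h tt).1 = 1 := by
  apply fst_tt P.hm P.hF (sb P h) (sZ P h)
  intro x y
  have := sb_B P h x y
  rwa [hd] at this

theorem sb_tt_zero {s : G} (h : Norm P s) (hd : del P = 0) (hg : gam P = 0) :
    ∃ w, sb P h tt = (1, w, w ^ (1 + 2 ^ (m + 1))) := by
  have h1 := fst_sb_tt P h hd
  have h2 := Sq_sb_tt P h
  obtain ⟨⟨e, w, r⟩, hv⟩ : ∃ v, sb P h tt = v := ⟨_, rfl⟩
  rw [hv] at h1 h2 ⊢
  have he : e = 1 := h1
  subst he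
  rw [hd, hg, Sq_zero] at h2
  simp only [cc_one, one_mul, zero_mul, add_zero] at h2
  refine ⟨w, ?_⟩
  have h3 : r = w ^ (1 + 2 ^ (m + 1)) := by
    have := congrArg (fun z => z + w ^ (1 + 2 ^ (m + 1))) h2
    rwa [add_assoc, FormAlg.add_self, add_zero, zero_add] at this
  rw [h3]

theorem sb_tt_one {s : G} (h : Norm P s) (hd : del P = 0) (hg : gam P = 1) :
    ∃ r, sb P h tt = (1, 0, r) := by
  have h1 := fst_sb_tt P h hd
  have h2 := Sq_sb_tt P h
  obtain ⟨⟨e, w, r⟩, hv⟩ : ∃ v, sb P h tt = v := ⟨_, rfl⟩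
  rw [hv] at h1 h2 ⊢
  have he : e = 1 := h1
  subst he
  rw [hd, hg, Sq_zero] at h2
  simp only [cc_one, one_mul] at h2
  refine ⟨r, ?_⟩
  have h3 : w ^ (1 + 2 ^ (m + 1)) = 0 := by
    have : r + w ^ (1 + 2 ^ (m + 1)) + r = w ^ (1 + 2 ^ (m + 1)) + (r + r) := by ring
    rw [this, FormAlg.add_self, add_zero] at h2
    exact h2
  rw [pow_eq_zero_iff (by positivity)] at h3
  rw [h3]

end Cfsg.Agent.StdSz.NormQ
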