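import Cfsg.Agent.StdSz.EquivMaps

/-!
# The equivariant pairings of the Suzuki torus

`F` a field with `2 ^ (2 * m + 1)` elements, `θ x = x ^ 2 ^ (m + 1)` (so `θ (θ x) = x ^ 2`).
The torus element `l` acts with weight `l` (module `L1`) or `l * θ l` (module `L2`).
-/

set_option autoImplicit false
set_option linter.unusedSectionVars false
set_option linter.style.haveILetI false

namespace Cfsg.Agent.StdSz.SzMaps

open Cfsg.Agent.StdSz.EquivMaps

/-- sums of two powers of two are determined modulo `2 ^ n - 1`. -/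
theorem two_pow_add_inj {n a b c d : ℕ} (hn : 3 ≤ n) (ha : a < n) (hb : b < n) (hc : c < n)
    (hd : d < n) (h : 2 ^ a + 2 ^ b ≡ 2 ^ c + 2 ^ d [MOD 2 ^ n - 1]) :
    (a = c ∧ b = d) ∨ (a = d ∧ b = c) := by
  have hpos : ∀ x : ℕ, 1 ≤ 2 ^ x := fun x => Nat.one_le_two_pow
  have hle : ∀ x : ℕ, x < n → 2 ^ x ≤ 2 ^ (n - 1) := fun x hx =>
    Nat.pow_le_pow_right (by norm_num) (by omega)
  have h2 : 2 ^ n = 2 * 2 ^ (n - 1) := by
    rw [← pow_succ']; congr 1; omega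
  have h4 : 4 ≤ 2 ^ (n - 1) := by
    calc 4 = 2 ^ 2 := by norm_num
      _ ≤ 2 ^ (n - 1) := Nat.pow_le_pow_right (by norm_num) (by omega)
  have e : 2 ^ a + 2 ^ b = 2 ^ c + 2 ^ d := by
    have b1 := hle a ha
    have b2 := hle b hb
    have b3 := hle c hc
    have b4 := hle d hd
    have p1 := hpos a
    have p2 := hpos b
    have p3 := hpos c
    have p4 := hpos d
    rcases le_total (2 ^ a + 2 ^ b) (2 ^ c + 2 ^ d) with hl | hl
    · have := (Nat.modEq_iff_dvd' hl).mp h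
      obtain ⟨k, hk⟩ := this
      rcases k with _ | k
      · omega
      · have : 2 ^ n - 1 ≤ (2 ^ n - 1) * (k + 1) := Nat.le_mul_of_pos_right _ (by omega)
        omega
    · have := (Nat.modEq_iff_dvd' hl).mp h.symm
      obtain ⟨k, hk⟩ := this
      rcases k with _ | k
      · omega
      · have : 2 ^ n - 1 ≤ (2 ^ n - 1) * (k + 1) := Nat.le_mul_of_pos_right _ (by omega)
        omega
  -- now compare natural numbers
  have main : ∀ a b c d : ℕ, a ≤ b → c ≤ d → 2 ^ a + 2 ^ b = 2 ^ c + 2 ^ d → a = c ∧ b = d := by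
    intro a b c d hab hcd he
    have hf : ∀ x y : ℕ, x ≤ y → 2 ^ x + 2 ^ y = 2 ^ x * (1 + 2 ^ (y - x)) := by
      intro x y hxy
      rw [mul_add, ← pow_add, mul_one]
      congr 2; omega
    rcases Nat.lt_trichotomy b d with hbd | hbd | hbd
    · exfalso
      have k1 : 2 ^ a ≤ 2 ^ b := Nat.pow_le_pow_right (by norm_num) hab
      have k2 : 2 ^ (b + 1) ≤ 2 ^ d := Nat.pow_le_pow_right (by norm_num) hbd
      have k3 := hpos c
      rw [pow_succ] at k2
      omega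
    · subst hbd
      have : 2 ^ a = 2 ^ c := by omega
      exact ⟨Nat.pow_right_injective le_rfl this, rfl⟩
    · exfalso
      have k1 : 2 ^ c ≤ 2 ^ d := Nat.pow_le_pow_right (by norm_num) hcd
      have k2 : 2 ^ (d + 1) ≤ 2 ^ b := Nat.pow_le_pow_right (by norm_num) hbd
      have k3 := hpos a
      rw [pow_succ] at k2
      omega
  rcases le_total a b with h1 | h1 <;> rcases le_total c d with h3 | h3
  · exact Or.inl (main a b c d h1 h3 e)
  · obtain ⟨x, y⟩ := main a b d c h1 h3 (by rw [e]; ring)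
    exact Or.inr ⟨x, y⟩
  · obtain ⟨x, y⟩ := main b a c d h1 h3 (by rw [← e]; ring)
    exact Or.inr ⟨y, x⟩
  · obtain ⟨x, y⟩ := main b a d c h1 h3 (by rw [add_comm (2 ^ b), e]; ring)
    exact Or.inl ⟨y, x⟩

variable {F : Type*} [Field F] [Fintype F]

theorem pow_reduce {n : ℕ} (_hn : 1 ≤ n) (k : ℕ) : 2 ^ k ≡ 2 ^ (k % n) [MOD 2 ^ n - 1] := by
  have h1 : (2 ^ n) ≡ 1 [MOD 2 ^ n - 1] := by
    have : 2 ^ n = (2 ^ n - 1) + 1 := (Nat.sub_add_cancel Nat.one_le_two_pow).symm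
    conv_lhs => rw [this]
    simp [Nat.ModEq]
  conv_lhs => rw [← Nat.div_add_mod k n, pow_add, pow_mul]
  calc (2 ^ n) ^ (k / n) * 2 ^ (k % n) ≡ 1 ^ (k / n) * 2 ^ (k % n) [MOD 2 ^ n - 1] :=
        (h1.pow _).mul_right _
    _ = 2 ^ (k % n) := by rw [one_pow, one_mul]

/-- squaring the twist: `2 ^ (m+1) * 2 ^ (m+1) ≡ 2`. -/
theorem theta_sq {m : ℕ} : 2 ^ (m + 1) * 2 ^ (m + 1) ≡ 2 [MOD 2 ^ (2 * m + 1) - 1] := by
  have h := pow_reduce (n := 2 * m + 1) (by omega) (2 * m + 2)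
  rw [← pow_add]
  have e1 : m + 1 + (m + 1) = 2 * m + 2 := by ring
  rw [e1]
  refine h.trans ?_
  rcases Nat.eq_zero_or_pos m with h0 | h0
  · subst h0; simp [Nat.ModEq]
  · have : (2 * m + 2) % (2 * m + 1) = 1 := by
      rw [show 2 * m + 2 = 1 + (2 * m + 1) by ring, Nat.add_mod_right]
      exact Nat.mod_eq_of_lt (by omega)
    rw [this, pow_one]

/-- weights `L1 × L2 → L2`. -/
theorem weight_122 {m i j : ℕ} (hm : 1 ≤ m) (hi : i < 2 * m + 1) (hj : j < 2 * m + 1)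
    (h : 1 * 2 ^ i + (1 + 2 ^ (m + 1)) * 2 ^ j ≡ 1 + 2 ^ (m + 1) [MOD 2 ^ (2 * m + 1) - 1]) :
    i = m ∧ j = m := by
  set N := 2 ^ (2 * m + 1) - 1 with hN
  have hz : (2 : ZMod N) ^ (m + 1) * 2 ^ (m + 1) = 2 := by
    have := (ZMod.natCast_eq_natCast_iff _ _ _).mpr (theta_sq (m := m))
    push_cast at this
    exact this
  have h1 : (2 : ZMod N) ^ i + (1 + 2 ^ (m + 1)) * 2 ^ j = 1 + 2 ^ (m + 1) := by
    have := (ZMod.natCast_eq_natCast_iff _ _ _).mpr h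
    push_cast at this
    rw [one_mul] at this
    exact this
  have h2 : (2 : ZMod N) ^ (i + (m + 1)) + 2 ^ j = 1 + 2 ^ i := by
    have e := congrArg (fun x => (2 ^ (m + 1) - 1) * x) h1
    have e2 : (2 : ZMod N) ^ (i + (m + 1)) + 2 ^ j - (1 + 2 ^ i) =
        (2 ^ (m + 1) - 1) * (2 ^ i + (1 + 2 ^ (m + 1)) * 2 ^ j) -
          (2 ^ (m + 1) - 1) * (1 + 2 ^ (m + 1)) -
          (2 ^ (m + 1) * 2 ^ (m + 1) - 2) * (2 ^ j - 1) := by
      rw [pow_add]; ring
    rw [e, hz] at e2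
    rw [← sub_eq_zero, e2]
    ring
  have h3 : 2 ^ ((i + (m + 1)) % (2 * m + 1)) + 2 ^ j ≡ 2 ^ 0 + 2 ^ i [MOD N] := by
    have e : 2 ^ (i + (m + 1)) + 2 ^ j ≡ 2 ^ 0 + 2 ^ i [MOD N] := by
      rw [← ZMod.natCast_eq_natCast_iff]
      push_cast
      rw [h2]
    exact ((pow_reduce (by omega) _).symm.add_right _).trans e
  have h4 := two_pow_add_inj (n := 2 * m + 1) (by omega) (Nat.mod_lt _ (by omega)) hj (by omega)
    hi h3
  rcases lt_or_ge (i + (m + 1)) (2 * m + 1) with hl | hl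
  · rw [Nat.mod_eq_of_lt hl] at h4
    omega
  · have : (i + (m + 1)) % (2 * m + 1) = i + (m + 1) - (2 * m + 1) := by
      rw [Nat.mod_eq_sub_mod hl]
      exact Nat.mod_eq_of_lt (by omega)
    rw [this] at h4
    omega

/-- weights `X × X → X` (`X = L1` or `L2`). -/
theorem weight_same {n i j : ℕ} (hn : 3 ≤ n) (hi : i < n) (hj : j < n)
    (h : 1 * 2 ^ i + 1 * 2 ^ j ≡ 1 [MOD 2 ^ n - 1]) : i = n - 1 ∧ j = n - 1 := by
  have h1 : 1 ≡ 2 ^ (n - 1) + 2 ^ (n - 1) [MOD 2 ^ n - 1] := by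
    have h2 : 2 ^ (n - 1) + 2 ^ (n - 1) = 2 ^ n := by
      rw [← two_mul, ← pow_succ']; congr 1; omega
    rw [h2]
    have := pow_reduce (n := n) (by omega) n
    rw [Nat.mod_self, pow_zero] at this
    exact this.symm
  rw [one_mul, one_mul] at h
  have := two_pow_add_inj hn hi hj (by omega) (by omega) (h.trans h1)
  omega

/-- weights `L1 × L1 → L2`. -/
theorem weight_112 {m i j : ℕ} (hm : 1 ≤ m) (hi : i < 2 * m + 1) (hj : j < 2 * m + 1)
    (h : 1 * 2 ^ i + 1 * 2 ^ j ≡ 1 + 2 ^ (m + 1) [MOD 2 ^ (2 * m + 1) - 1]) :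
    (i = 0 ∧ j = m + 1) ∨ (i = m + 1 ∧ j = 0) := by
  rw [one_mul, one_mul] at h
  have h' : 2 ^ i + 2 ^ j ≡ 2 ^ 0 + 2 ^ (m + 1) [MOD 2 ^ (2 * m + 1) - 1] := by
    rw [pow_zero]; exact h
  have := two_pow_add_inj (n := 2 * m + 1) (by omega) hi hj (by omega) (by omega) h'
  omega

/-- weights `L2 × L2 → L1`: none if `m ≥ 2`. -/
theorem weight_221 {m i j : ℕ} (hm : 2 ≤ m) (hi : i < 2 * m + 1) (hj : j < 2 * m + 1)
    (h : (1 + 2 ^ (m + 1)) * 2 ^ i + (1 + 2 ^ (m + 1)) * 2 ^ j ≡ 1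
      [MOD 2 ^ (2 * m + 1) - 1]) : False := by
  set N := 2 ^ (2 * m + 1) - 1 with hN
  have hz : (2 : ZMod N) ^ (m + 1) * 2 ^ (m + 1) = 2 := by
    have := (ZMod.natCast_eq_natCast_iff _ _ _).mpr (theta_sq (m := m))
    push_cast at this
    exact this
  have h1 : (1 + 2 ^ (m + 1)) * (2 : ZMod N) ^ i + (1 + 2 ^ (m + 1)) * 2 ^ j = 1 := by
    have := (ZMod.natCast_eq_natCast_iff _ _ _).mpr h
    push_cast at this
    exact this
  have h2 : (2 : ZMod N) ^ i + 2 ^ j + 1 = 2 ^ (m + 1) := by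
    have e := congrArg (fun x => (2 ^ (m + 1) - 1) * x) h1
    have e2 : (2 : ZMod N) ^ i + 2 ^ j + 1 - 2 ^ (m + 1) =
        (2 ^ (m + 1) - 1) * ((1 + 2 ^ (m + 1)) * 2 ^ i + (1 + 2 ^ (m + 1)) * 2 ^ j) -
          (2 ^ (m + 1) - 1) * 1 -
          (2 ^ (m + 1) * 2 ^ (m + 1) - 2) * (2 ^ i + 2 ^ j) := by
      ring
    rw [e, hz] at e2
    rw [← sub_eq_zero, e2]
    ring
  have h3 : 2 ^ i + 2 ^ j + 1 ≡ 2 ^ (m + 1) [MOD N] := by
    rw [← ZMod.natCast_eq_natCast_iff]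
    push_cast
    rw [h2]
  have key : ∀ a b : ℕ, a < 2 * m + 1 → b < 2 * m + 1 → a ≤ b →
      2 ^ a + 2 ^ b + 1 ≡ 2 ^ (m + 1) [MOD N] → False := by
    intro a b ha hb hab he
    have h5 : 2 ^ (m + 1) = 2 ^ m + 2 ^ m := by rw [pow_succ]; ring
    rcases Nat.eq_or_lt_of_le hab with rfl | hlt
    · have e1 : 2 ^ ((a + 1) % (2 * m + 1)) + 2 ^ 0 ≡ 2 ^ m + 2 ^ m [MOD N] := by
        rw [← h5, pow_zero]
        refine ((pow_reduce (by omega) (a + 1)).symm.add_right 1).trans ?_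
        have e2 : 2 ^ (a + 1) + 1 = 2 ^ a + 2 ^ a + 1 := by rw [pow_succ]; ring
        rw [e2]
        exact he
      have := two_pow_add_inj (n := 2 * m + 1) (by omega) (Nat.mod_lt _ (by omega)) (by omega)
        (by omega) (by omega) e1
      omega
    · rcases Nat.eq_zero_or_pos a with rfl | hpos
      · have e1 : 2 ^ 1 + 2 ^ b ≡ 2 ^ m + 2 ^ m [MOD N] := by
          rw [← h5]
          have : 2 ^ 0 + 2 ^ b + 1 = 2 ^ 1 + 2 ^ b := by ring
          rw [← this]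
          exact he
        have := two_pow_add_inj (n := 2 * m + 1) (by omega) (by omega) hb
          (by omega) (by omega) e1
        omega
      · -- both sides are small natural numbers of different parity
        have hb1 : 2 ^ b ≤ 2 ^ (2 * m) := Nat.pow_le_pow_right (by norm_num) (by omega)
        have ha1 : 2 ^ a ≤ 2 ^ (2 * m - 1) := Nat.pow_le_pow_right (by norm_num) (by omega)
        have e3 : 2 ^ (2 * m) = 2 * 2 ^ (2 * m - 1) := by
          rw [← pow_succ']; congr 1; omega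
        have e4 : 2 ^ (2 * m + 1) = 4 * 2 ^ (2 * m - 1) := by
          rw [pow_succ, e3]; ring
        have e5 : 8 ≤ 2 ^ (2 * m - 1) := by
          calc 8 = 2 ^ 3 := by norm_num
            _ ≤ 2 ^ (2 * m - 1) := Nat.pow_le_pow_right (by norm_num) (by omega)
        have e6 : 2 ^ (m + 1) ≤ 2 ^ (2 * m - 1) := Nat.pow_le_pow_right (by norm_num) (by omega)
        have e7 := Nat.ModEq.eq_of_lt_of_lt he (by omega) (by omega)
        have p1 : 2 ∣ 2 ^ a := dvd_pow_self 2 (by omega)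
        have p2 : 2 ∣ 2 ^ b := dvd_pow_self 2 (by omega)
        have p3 : 2 ∣ 2 ^ (m + 1) := dvd_pow_self 2 (by omega)
        omega
  rcases le_total i j with hij | hij
  · exact key i j hi hj hij h3
  · exact key j i hj hi hij (by rw [add_comm (2 ^ j)]; exact h3)

/-- double sum with a single surviving coefficient -/
theorem sum_single {n : ℕ} (c : Fin n → Fin n → F) (i0 j0 : Fin n)
    (hc : ∀ i j, ¬ (i = i0 ∧ j = j0) → c i j = 0) (φ : Fin n → Fin n → F) :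
    ∑ i, ∑ j, c i j * φ i j = c i0 j0 * φ i0 j0 := by
  rw [Finset.sum_eq_single i0, Finset.sum_eq_single j0]
  · intro j _ hj
    rw [hc i0 j (fun h => hj h.2), zero_mul]
  · intro h; exact absurd (Finset.mem_univ _) h
  · intro i _ hi
    apply Finset.sum_eq_zero
    intro j _
    rw [hc i j (fun h => hi h.1), zero_mul]
  · intro h; exact absurd (Finset.mem_univ _) h

/-- the pairing `L1 × L2 → L2`. -/
theorem pairing_122 {m : ℕ} (hm : 1 ≤ m) (hF : Fintype.card F = 2 ^ (2 * m + 1))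
    (f : F → F → F) (h1 : ∀ x x' y, f (x + x') y = f x y + f x' y)
    (h2 : ∀ x y y', f x (y + y') = f x y + f x y')
    (h : ∀ l x y : F, l ≠ 0 →
      f (l * x) (l ^ (1 + 2 ^ (m + 1)) * y) = l ^ (1 + 2 ^ (m + 1)) * f x y) :
    ∃ d : F, ∀ x y, f x y = d * (x * y) ^ (2 ^ m) := by
  obtain ⟨c, hc⟩ := exists_coeff₂ hF (by omega) f h1 h2
  have hz : ∀ i j : Fin (2 * m + 1), ¬ (i = ⟨m, by omega⟩ ∧ j = ⟨m, by omega⟩) → c i j = 0 := by
    intro i j hij
    apply coeff₂_eq_zero_of_equivariant hF (by omega) c 1 (1 + 2 ^ (m + 1)) (1 + 2 ^ (m + 1))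
    · intro μ x y hμ
      rw [← hc, ← hc, pow_one]
      exact h μ x y hμ
    · intro hw
      obtain ⟨e1, e2⟩ := weight_122 hm i.2 j.2 hw
      exact hij ⟨Fin.ext e1, Fin.ext e2⟩
  refine ⟨c ⟨m, by omega⟩ ⟨m, by omega⟩, fun x y => ?_⟩
  rw [hc, sum_single c ⟨m, by omega⟩ ⟨m, by omega⟩ hz]
  rw [mul_pow]

/-- the pairings `X × X → X` where the torus acts by all scalars. -/
theorem pairing_same {n : ℕ} (hn : 3 ≤ n) (hF : Fintype.card F = 2 ^ n)
    (f : F → F → F) (h1 : ∀ x x' y, f (x + x') y = f x y + f x' y)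
    (h2 : ∀ x y y', f x (y + y') = f x y + f x y')
    (h : ∀ l x y : F, l ≠ 0 → f (l * x) (l * y) = l * f x y) :
    ∃ d : F, ∀ x y, f x y = d * (x * y) ^ (2 ^ (n - 1)) := by
  obtain ⟨c, hc⟩ := exists_coeff₂ hF (by omega) f h1 h2
  have hz : ∀ i j : Fin n, ¬ (i = ⟨n - 1, by omega⟩ ∧ j = ⟨n - 1, by omega⟩) → c i j = 0 := by
    intro i j hij
    apply coeff₂_eq_zero_of_equivariant hF (by omega) c 1 1 1
    · intro μ x y hμ
      rw [← hc, ← hc, pow_one]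
      exact h μ x y hμ
    · intro hw
      obtain ⟨e1, e2⟩ := weight_same hn i.2 j.2 hw
      exact hij ⟨Fin.ext e1, Fin.ext e2⟩
  refine ⟨c ⟨n - 1, by omega⟩ ⟨n - 1, by omega⟩, fun x y => ?_⟩
  rw [hc, sum_single c ⟨n - 1, by omega⟩ ⟨n - 1, by omega⟩ hz]
  rw [mul_pow]

/-- alternating equivariant pairings `X × X → X` vanish. -/
theorem alternating_same {n : ℕ} (hn : 3 ≤ n) (hF : Fintype.card F = 2 ^ n)
    (f : F → F → F) (h1 : ∀ x x' y, f (x + x') y = f x y + f x' y)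
    (h2 : ∀ x y y', f x (y + y') = f x y + f x y')
    (h : ∀ l x y : F, l ≠ 0 → f (l * x) (l * y) = l * f x y)
    (ha : ∀ x, f x x = 0) (x y : F) : f x y = 0 := by
  obtain ⟨d, hd⟩ := pairing_same hn hF f h1 h2 h
  have := ha 1
  rw [hd] at this
  have hd0 : d = 0 := by simpa using this
  rw [hd, hd0, zero_mul]

/-- the pairings `L1 × L1 → L2`. -/
theorem pairing_112 {m : ℕ} (hm : 1 ≤ m) (hF : Fintype.card F = 2 ^ (2 * m + 1))
    (f : F → F → F) (h1 : ∀ x x' y, f (x + x') y = f x y + f x' y)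
    (h2 : ∀ x y y', f x (y + y') = f x y + f x y')
    (h : ∀ l x y : F, l ≠ 0 →
      f (l * x) (l * y) = l ^ (1 + 2 ^ (m + 1)) * f x y) :
    ∃ d e : F, ∀ x y, f x y = d * (x * y ^ (2 ^ (m + 1))) + e * (x ^ (2 ^ (m + 1)) * y) := by
  obtain ⟨c, hc⟩ := exists_coeff₂ hF (by omega) f h1 h2
  let z : Fin (2 * m + 1) := ⟨0, by omega⟩
  let s : Fin (2 * m + 1) := ⟨m + 1, by omega⟩
  have hzs : z ≠ s := by
    intro e
    have := congrArg Fin.val e
    simp [z, s] at this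
  have hz : ∀ i j : Fin (2 * m + 1), ¬ (i = z ∧ j = s) → ¬ (i = s ∧ j = z) → c i j = 0 := by
    intro i j hij hji
    apply coeff₂_eq_zero_of_equivariant hF (by omega) c 1 1 (1 + 2 ^ (m + 1))
    · intro μ x y hμ
      rw [← hc, ← hc, pow_one]
      exact h μ x y hμ
    · intro hw
      rcases weight_112 hm i.2 j.2 hw with ⟨e1, e2⟩ | ⟨e1, e2⟩
      · exact hij ⟨Fin.ext e1, Fin.ext e2⟩
      · exact hji ⟨Fin.ext e1, Fin.ext e2⟩
  refine ⟨c z s, c s z, fun x y => ?_⟩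
  rw [hc]
  have split : ∀ i j : Fin (2 * m + 1), c i j = (if i = z ∧ j = s then c z s else 0) +
      (if i = s ∧ j = z then c s z else 0) := by
    intro i j
    by_cases h3 : i = z ∧ j = s
    · rw [if_pos h3, if_neg (fun h4 => hzs (h3.1.symm.trans h4.1)), h3.1, h3.2, add_zero]
    · by_cases h4 : i = s ∧ j = z
      · rw [if_neg h3, if_pos h4, h4.1, h4.2, zero_add]
      · rw [if_neg h3, if_neg h4, hz i j h3 h4, add_zero]
  have e1 : ∑ i, ∑ j, c i j * (x ^ (2 ^ (i : ℕ)) * y ^ (2 ^ (j : ℕ))) =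
      (∑ i, ∑ j, (if i = z ∧ j = s then c z s else 0) *
        (x ^ (2 ^ (i : ℕ)) * y ^ (2 ^ (j : ℕ)))) +
      ∑ i, ∑ j, (if i = s ∧ j = z then c s z else 0) *
        (x ^ (2 ^ (i : ℕ)) * y ^ (2 ^ (j : ℕ))) := by
    rw [← Finset.sum_add_distrib]
    refine Finset.sum_congr rfl fun i _ => ?_
    rw [← Finset.sum_add_distrib]
    refine Finset.sum_congr rfl fun j _ => ?_
    rw [← add_mul, ← split]
  rw [e1, sum_single (fun i j => if i = z ∧ j = s then c z s else 0) z s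
    (fun i j hij => if_neg hij), sum_single (fun i j => if i = s ∧ j = z then c s z else 0) s z
    (fun i j hij => if_neg hij)]
  rw [if_pos ⟨rfl, rfl⟩, if_pos ⟨rfl, rfl⟩]
  simp [z, s]

/-- no pairings `L2 × L2 → L1` if `m ≥ 2`. -/
theorem pairing_221 {m : ℕ} (hm : 2 ≤ m) (hF : Fintype.card F = 2 ^ (2 * m + 1))
    (f : F → F → F) (h1 : ∀ x x' y, f (x + x') y = f x y + f x' y)
    (h2 : ∀ x y y', f x (y + y') = f x y + f x y')
    (h : ∀ l x y : F, l ≠ 0 →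
      f (l ^ (1 + 2 ^ (m + 1)) * x) (l ^ (1 + 2 ^ (m + 1)) * y) = l * f x y) (x y : F) :
    f x y = 0 := by
  obtain ⟨c, hc⟩ := exists_coeff₂ hF (by omega) f h1 h2
  have hz : ∀ i j : Fin (2 * m + 1), c i j = 0 := by
    intro i j
    apply coeff₂_eq_zero_of_equivariant hF (by omega) c (1 + 2 ^ (m + 1)) (1 + 2 ^ (m + 1)) 1
    · intro μ x y hμ
      rw [← hc, ← hc, pow_one]
      exact h μ x y hμ
    · intro hw
      exact weight_221 hm i.2 j.2 hw
  rw [hc]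
  simp [hz]

/-- the map `l ↦ l ^ (1 + 2 ^ (m + 1))` is surjective: its inverse is `x ↦ x ^ (2 ^ (m+1) - 1)`. -/
theorem norm_surj {m : ℕ} (hF : Fintype.card F = 2 ^ (2 * m + 1)) (x : F) :
    (x ^ (2 ^ (m + 1) - 1)) ^ (1 + 2 ^ (m + 1)) = x := by
  have h1 : (2 ^ (m + 1) - 1) * (1 + 2 ^ (m + 1)) = 2 * 2 ^ (2 * m + 1) - 1 := by
    have e : (1 : ℕ) ≤ 2 ^ (m + 1) := Nat.one_le_two_pow
    obtain ⟨k, hk⟩ := Nat.exists_eq_add_of_le e
    have e2 : 2 * 2 ^ (2 * m + 1) = 2 ^ (m + 1) * 2 ^ (m + 1) := by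
      rw [← pow_add, ← pow_succ']; congr 1; ring
    rw [e2, hk, Nat.add_sub_cancel_left]
    have : (1 + k) * (1 + k) - 1 = k * (1 + (1 + k)) := by
      have : (1 + k) * (1 + k) = k * (1 + (1 + k)) + 1 := by ring
      omega
    rw [this]
  rw [← pow_mul, h1]
  have hq : x ^ (2 ^ (2 * m + 1)) = x := by rw [← hF]; exact FiniteField.pow_card x
  rcases eq_or_ne x 0 with rfl | hx
  · rw [zero_pow]
    have : 1 ≤ 2 ^ (2 * m + 1) := Nat.one_le_two_pow
    omega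
  · have h2 : x ^ (2 * 2 ^ (2 * m + 1) - 1) * x = x * x := by
      rw [← pow_succ]
      have : 2 * 2 ^ (2 * m + 1) - 1 + 1 = 2 ^ (2 * m + 1) + 2 ^ (2 * m + 1) := by
        have : 1 ≤ 2 ^ (2 * m + 1) := Nat.one_le_two_pow
        omega
      rw [this, pow_add, hq]
    exact mul_right_cancel₀ hx h2

end Cfsg.Agent.StdSz.SzMaps
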